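import Cfsg.Prelude.Def_Sporadic_a

/-!
Counting in Steiner systems: numbers of blocks through a set, intersection numbers of two blocks,
and the small parameter cases.
-/

set_option autoImplicit false

namespace Cfsg.Agent.Steiner

open Cfsg Finset

variable {α : Type*} [Fintype α] [DecidableEq α] {t k : ℕ} {B : Set (Finset α)}

/-- The blocks as a finite set. -/
noncomputable def blocks (B : Set (Finset α)) : Finset (Finset α) := (Set.toFinite B).toFinset

theorem mem_blocks {b : Finset α} : b ∈ blocks B ↔ b ∈ B := Set.Finite.mem_toFinset _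

theorem ncard_eq_card : B.ncard = (blocks B).card :=
  Set.ncard_eq_toFinset_card B (Set.toFinite B)

/-- Number of blocks containing a small set. -/
theorem card_sup (hB : IsSteinerSystem t k B) (s : Finset α) (hs : s.card ≤ t) :
    ((blocks B).filter (s ⊆ ·)).card * (k - s.card).choose (t - s.card) =
      (Fintype.card α - s.card).choose (t - s.card) := by
  have h := card_mul_eq_card_mul (fun c e : Finset α => e ⊆ c)
    (s := (blocks B).filter (s ⊆ ·)) (t := (sᶜ.powersetCard (t - s.card)))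
    (m := (k - s.card).choose (t - s.card)) (n := 1) ?_ ?_
  · rwa [card_powersetCard, card_compl, mul_one] at h
  · intro c hc
    obtain ⟨hcB, hsc⟩ := mem_filter.mp hc
    have : bipartiteAbove (fun c e : Finset α => e ⊆ c) (sᶜ.powersetCard (t - s.card)) c =
        (c \ s).powersetCard (t - s.card) := by
      ext e
      simp only [mem_bipartiteAbove, mem_powersetCard, subset_iff, mem_compl, mem_sdiff]
      constructor
      · rintro ⟨⟨h1, h2⟩, h3⟩
        exact ⟨fun x hx => ⟨h3 hx, h1 hx⟩, h2⟩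
      · rintro ⟨h1, h2⟩
        exact ⟨⟨fun x hx => (h1 hx).2, h2⟩, fun x hx => (h1 hx).1⟩
    rw [this, card_powersetCard, card_sdiff_of_subset hsc, hB.1 c (mem_blocks.mp hcB)]
  · intro e he
    obtain ⟨hes, hec⟩ := mem_powersetCard.mp he
    have hd : Disjoint s e := disjoint_left.mpr fun x hx hxe => mem_compl.mp (hes hxe) hx
    obtain ⟨b, ⟨hb, hsb⟩, huniq⟩ := hB.2 (s ∪ e) (by rw [card_union_of_disjoint hd, hec]; omega)
    rw [card_eq_one]
    refine ⟨b, ?_⟩
    ext c
    simp only [mem_bipartiteBelow, mem_filter, mem_singleton, mem_blocks]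
    constructor
    · rintro ⟨⟨hc, hsc⟩, hce⟩
      exact huniq c ⟨hc, union_subset hsc hce⟩
    · rintro rfl
      exact ⟨⟨hb, (union_subset_iff.mp hsb).1⟩, (union_subset_iff.mp hsb).2⟩

theorem card_blocks (hB : IsSteinerSystem t k B) :
    B.ncard * k.choose t = (Fintype.card α).choose t := by
  have h := card_sup hB ∅ (by simp)
  simpa [ncard_eq_card] using h

/-- A block other than `b` shares fewer than `t` points with it. -/
theorem inter_lt (hB : IsSteinerSystem t k B) {b c : Finset α} (hb : b ∈ B) (hc : c ∈ B)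
    (hbc : b ≠ c) : (b ∩ c).card < t := by
  by_contra h
  push Not at h
  obtain ⟨s, hs, hst⟩ := exists_subset_card_eq h
  obtain ⟨d, -, hd⟩ := hB.2 s hst
  exact hbc ((hd b ⟨hb, hs.trans inter_subset_left⟩).trans (hd c ⟨hc, hs.trans inter_subset_right⟩).symm)

/-- Double counting of sets of size `m` inside `b` outside `s` covered by blocks through `s`. -/
theorem sum_choose (b s : Finset α) (m L : ℕ)
    (hL : ∀ e : Finset α, e.card = m → e ⊆ b \ s → ((blocks B).filter (s ∪ e ⊆ ·)).card = L) :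
    ∑ c ∈ (blocks B).filter (s ⊆ ·), ((b \ s) ∩ c).card.choose m = (b \ s).card.choose m * L := by
  have h := sum_card_bipartiteAbove_eq_sum_card_bipartiteBelow
    (s := (blocks B).filter (s ⊆ ·)) (t := (b \ s).powersetCard m) (fun c e : Finset α => e ⊆ c)
  have h1 : ∀ c ∈ (blocks B).filter (s ⊆ ·),
      (bipartiteAbove (fun c e : Finset α => e ⊆ c) ((b \ s).powersetCard m) c).card =
        ((b \ s) ∩ c).card.choose m := by
    intro c _
    rw [← card_powersetCard]
    congr 1
    ext e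
    simp only [mem_bipartiteAbove, mem_powersetCard, subset_inter_iff]
    tauto
  have h2 : ∀ e ∈ (b \ s).powersetCard m,
      (bipartiteBelow (fun c e : Finset α => e ⊆ c) ((blocks B).filter (s ⊆ ·)) e).card = L := by
    intro e he
    obtain ⟨he1, he2⟩ := mem_powersetCard.mp he
    rw [← hL e he2 he1]
    congr 1
    ext c
    simp only [mem_bipartiteBelow, mem_filter, union_subset_iff]
    tauto
  rw [sum_congr rfl h1, sum_congr rfl h2, sum_const, card_powersetCard, smul_eq_mul] at h
  exact h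

theorem sum_by_value (S : Finset (Finset α)) (x : Finset α → ℕ) (K m : ℕ)
    (hx : ∀ c ∈ S, x c < K) :
    ∑ c ∈ S, (x c).choose m = ∑ j ∈ range K, (S.filter fun c => x c = j).card * j.choose m := by
  rw [← sum_fiberwise_of_maps_to (fun c hc => mem_range.mpr (hx c hc))]
  refine sum_congr rfl fun j _ => ?_
  rw [sum_congr rfl (fun c hc => by rw [(mem_filter.mp hc).2]), sum_const, smul_eq_mul]

/-- The blocks other than `b` meeting it in exactly `j` points. -/
noncomputable def meetN (B : Set (Finset α)) (b : Finset α) (j : ℕ) : ℕ :=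
  (((blocks B).erase b).filter fun c => (b ∩ c).card = j).card

theorem meet_eq (hB : IsSteinerSystem t k B) {b : Finset α} (hb : b ∈ B) (m L : ℕ) (hm : m ≤ t)
    (hL : L * (k - m).choose (t - m) = (Fintype.card α - m).choose (t - m))
    (hpos : 0 < (k - m).choose (t - m)) :
    ∑ j ∈ range t, meetN B b j * j.choose m + k.choose m = k.choose m * L := by
  have h := sum_choose (B := B) b ∅ m L (fun e he _ => by
    have := card_sup hB e (by omega)
    rw [he] at this
    rw [empty_union]
    exact Nat.eq_of_mul_eq_mul_right hpos (this.trans hL.symm))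
  simp only [sdiff_empty, empty_subset, filter_true] at h
  rw [hB.1 b hb, ← add_sum_erase _ _ (mem_blocks.mpr hb), inter_self, hB.1 b hb,
    sum_by_value _ _ t m (fun c hc => inter_lt hB hb (mem_blocks.mp (mem_erase.mp hc).2)
      (mem_erase.mp hc).1.symm)] at h
  rw [add_comm]
  exact h

theorem meet_zero {b c : Finset α} {j : ℕ} (h : meetN B b j = 0) (hc : c ∈ B) (hbc : b ≠ c) :
    (b ∩ c).card ≠ j := fun hj => by
  rw [meetN, card_eq_zero, filter_eq_empty_iff] at h
  exact h (mem_erase.mpr ⟨hbc.symm, mem_blocks.mpr hc⟩) hj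

/-- The intersection numbers of a `(5, 8, 24)` system. -/
theorem meet_24 (hα : Fintype.card α = 24) (hB : IsSteinerSystem 5 8 B) {b : Finset α} (hb : b ∈ B) :
    meetN B b 0 = 30 ∧ meetN B b 1 = 0 ∧ meetN B b 2 = 448 ∧ meetN B b 3 = 0 ∧ meetN B b 4 = 280 := by
  have h0 := meet_eq hB hb 0 759 (by norm_num) (by rw [hα]; decide +kernel) (by decide +kernel)
  have h1 := meet_eq hB hb 1 253 (by norm_num) (by rw [hα]; decide +kernel) (by decide +kernel)
  have h2 := meet_eq hB hb 2 77 (by norm_num) (by rw [hα]; decide +kernel) (by decide +kernel)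
  have h3 := meet_eq hB hb 3 21 (by norm_num) (by rw [hα]; decide +kernel) (by decide +kernel)
  have h4 := meet_eq hB hb 4 5 (by norm_num) (by rw [hα]; decide +kernel) (by decide +kernel)
  norm_num [sum_range_succ, Nat.choose] at h0 h1 h2 h3 h4
  omega

theorem meet_23 (hα : Fintype.card α = 23) (hB : IsSteinerSystem 4 7 B) {b : Finset α} (hb : b ∈ B) :
    meetN B b 0 = 0 ∧ meetN B b 1 = 112 ∧ meetN B b 2 = 0 ∧ meetN B b 3 = 140 := by
  have h0 := meet_eq hB hb 0 253 (by norm_num) (by rw [hα]; decide +kernel) (by decide +kernel)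
  have h1 := meet_eq hB hb 1 77 (by norm_num) (by rw [hα]; decide +kernel) (by decide +kernel)
  have h2 := meet_eq hB hb 2 21 (by norm_num) (by rw [hα]; decide +kernel) (by decide +kernel)
  have h3 := meet_eq hB hb 3 5 (by norm_num) (by rw [hα]; decide +kernel) (by decide +kernel)
  norm_num [sum_range_succ, Nat.choose] at h0 h1 h2 h3
  omega

theorem meet_22 (hα : Fintype.card α = 22) (hB : IsSteinerSystem 3 6 B) {b : Finset α} (hb : b ∈ B) :
    meetN B b 0 = 16 ∧ meetN B b 1 = 0 ∧ meetN B b 2 = 60 := by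
  have h0 := meet_eq hB hb 0 77 (by norm_num) (by rw [hα]; decide +kernel) (by decide +kernel)
  have h1 := meet_eq hB hb 1 21 (by norm_num) (by rw [hα]; decide +kernel) (by decide +kernel)
  have h2 := meet_eq hB hb 2 5 (by norm_num) (by rw [hα]; decide +kernel) (by decide +kernel)
  norm_num [sum_range_succ, Nat.choose] at h0 h1 h2
  omega

theorem meet_12 (hα : Fintype.card α = 12) (hB : IsSteinerSystem 5 6 B) {b : Finset α} (hb : b ∈ B) :
    meetN B b 0 = 1 ∧ meetN B b 1 = 0 ∧ meetN B b 2 = 45 ∧ meetN B b 3 = 40 ∧ meetN B b 4 = 45 := by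
  have h0 := meet_eq hB hb 0 132 (by norm_num) (by rw [hα]; decide +kernel) (by decide +kernel)
  have h1 := meet_eq hB hb 1 66 (by norm_num) (by rw [hα]; decide +kernel) (by decide +kernel)
  have h2 := meet_eq hB hb 2 30 (by norm_num) (by rw [hα]; decide +kernel) (by decide +kernel)
  have h3 := meet_eq hB hb 3 12 (by norm_num) (by rw [hα]; decide +kernel) (by decide +kernel)
  have h4 := meet_eq hB hb 4 4 (by norm_num) (by rw [hα]; decide +kernel) (by decide +kernel)
  norm_num [sum_range_succ, Nat.choose] at h0 h1 h2 h3 h4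
  omega

theorem inter_24 (hα : Fintype.card α = 24) (hB : IsSteinerSystem 5 8 B) {b c : Finset α}
    (hb : b ∈ B) (hc : c ∈ B) (hbc : b ≠ c) :
    (b ∩ c).card = 0 ∨ (b ∩ c).card = 2 ∨ (b ∩ c).card = 4 := by
  obtain ⟨-, h1, -, h3, -⟩ := meet_24 hα hB hb
  have := inter_lt hB hb hc hbc
  have := meet_zero h1 hc hbc
  have := meet_zero h3 hc hbc
  omega

/-- A set meeting every block evenly. -/
def EvenSet (B : Set (Finset α)) (E : Finset α) : Prop := ∀ c ∈ B, Even (c ∩ E).card

theorem evenSet_block (hα : Fintype.card α = 24) (hB : IsSteinerSystem 5 8 B) {b : Finset α}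
    (hb : b ∈ B) : EvenSet B b := fun c hc => by
  by_cases h : c = b
  · subst h; rw [inter_self, hB.1 c hc]; decide
  · rcases inter_24 hα hB hc hb h with e | e | e <;> rw [e] <;> decide

theorem evenSet_symmDiff {E F : Finset α} (hE : EvenSet B E) (hF : EvenSet B F) :
    EvenSet B (symmDiff E F) := fun c hc => by
  have e : c ∩ symmDiff E F = symmDiff (c ∩ E) (c ∩ F) := by
    ext x; simp [mem_symmDiff]; tauto
  have h1 : (symmDiff (c ∩ E) (c ∩ F)).card + 2 * ((c ∩ E) ∩ (c ∩ F)).card =
      (c ∩ E).card + (c ∩ F).card := by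
    rw [symmDiff_def, sup_eq_union, card_union_of_disjoint disjoint_sdiff_sdiff,
      ← card_sdiff_add_card_inter (c ∩ E) (c ∩ F), ← card_sdiff_add_card_inter (c ∩ F) (c ∩ E),
      inter_comm (c ∩ F) (c ∩ E)]
    omega
  obtain ⟨i, hi⟩ := hE c hc
  obtain ⟨j, hj⟩ := hF c hc
  rw [e, Nat.even_iff]
  omega

theorem evenSet_card_ne_four (hα : Fintype.card α = 24) (hB : IsSteinerSystem 5 8 B) {E : Finset α}
    (hE : EvenSet B E) : E.card ≠ 4 := by
  intro h4
  obtain ⟨x, hx⟩ : E.Nonempty := card_pos.mp (by omega)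
  have h3 : (E.erase x).card = 3 := by rw [card_erase_of_mem hx, h4]
  have hA := card_sup hB (E.erase x) (by omega)
  have hC := card_sup hB E (by omega)
  rw [h3, hα, show Nat.choose (8 - 3) (5 - 3) = 10 by decide, show Nat.choose (24 - 3) (5 - 3) = 210 by decide +kernel] at hA
  rw [h4, hα, show Nat.choose (8 - 4) (5 - 4) = 4 by decide, show Nat.choose (24 - 4) (5 - 4) = 20 by decide +kernel] at hC
  obtain ⟨c, hc, hcE⟩ : ∃ c ∈ (blocks B).filter (E.erase x ⊆ ·), ¬ E ⊆ c := by
    by_contra hcon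
    push Not at hcon
    have : ((blocks B).filter (E.erase x ⊆ ·)).card ≤ ((blocks B).filter (E ⊆ ·)).card :=
      card_le_card fun c hc => mem_filter.mpr ⟨(mem_filter.mp hc).1, hcon c hc⟩
    omega
  obtain ⟨hcB, hsub⟩ := mem_filter.mp hc
  have hxc : x ∉ c := fun hxc => hcE fun y hy => by
    by_cases e : y = x
    · exact e ▸ hxc
    · exact hsub (mem_erase.mpr ⟨e, hy⟩)
  have : c ∩ E = E.erase x := by
    ext y
    simp only [mem_inter, mem_erase]
    exact ⟨fun h => ⟨fun e => hxc (e ▸ h.1), h.2⟩, fun h => ⟨hsub (mem_erase.mpr h), h.2⟩⟩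
  have h := hE c (mem_blocks.mp hcB)
  rw [this, h3] at h
  exact absurd h (by decide)

theorem symmDiff_mem (hα : Fintype.card α = 24) (hB : IsSteinerSystem 5 8 B) {b c : Finset α}
    (hb : b ∈ B) (hc : c ∈ B) (h4 : (b ∩ c).card = 4) : symmDiff b c ∈ B := by
  set W := symmDiff b c with hWdef
  have hW : EvenSet B W := evenSet_symmDiff (evenSet_block hα hB hb) (evenSet_block hα hB hc)
  have hW8 : W.card = 8 := by
    have e1 := card_sdiff_add_card_inter b c
    have e2 := card_sdiff_add_card_inter c b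
    rw [inter_comm c b, hB.1 c hc] at e2
    rw [hB.1 b hb] at e1
    rw [hWdef, symmDiff_def, sup_eq_union, card_union_of_disjoint disjoint_sdiff_sdiff]
    omega
  obtain ⟨s, hs, hs5⟩ := exists_subset_card_eq (show 5 ≤ W.card by omega)
  obtain ⟨d, ⟨hd, hsd⟩, -⟩ := hB.2 s hs5
  have h5 : 5 ≤ (d ∩ W).card := hs5 ▸ card_le_card (subset_inter hsd hs)
  have h8 : (d ∩ W).card ≤ 8 := (card_le_card inter_subset_right).trans hW8.le
  obtain ⟨i, hi⟩ := hW d hd
  obtain hcase | hcase : (d ∩ W).card = 8 ∨ (d ∩ W).card = 6 := by omega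
  · have e1 : d ∩ W = W := eq_of_subset_of_card_le inter_subset_right (by omega)
    have e2 : d ∩ W = d := eq_of_subset_of_card_le inter_subset_left (by rw [hB.1 d hd]; omega)
    rw [← e1, e2]; exact hd
  · exfalso
    refine evenSet_card_ne_four hα hB (evenSet_symmDiff hW (evenSet_block hα hB hd)) ?_
    have e1 := card_sdiff_add_card_inter W d
    have e2 := card_sdiff_add_card_inter d W
    rw [inter_comm W d] at e1
    rw [hB.1 d hd] at e2
    rw [symmDiff_def, sup_eq_union, card_union_of_disjoint disjoint_sdiff_sdiff]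
    omega

theorem card_disjoint_24 (hα : Fintype.card α = 24) (hB : IsSteinerSystem 5 8 B) {b : Finset α}
    (hb : b ∈ B) : {c : Finset α | c ∈ B ∧ Disjoint b c}.ncard = 30 := by
  rw [← (meet_24 hα hB hb).1, meetN, ← Set.ncard_coe_finset]
  congr 1
  ext c
  simp only [coe_filter, mem_erase, mem_blocks, Set.mem_ofPred_eq, card_eq_zero,
    ← disjoint_iff_inter_eq_empty]
  constructor
  · rintro ⟨hc, hd⟩
    refine ⟨⟨?_, hc⟩, hd⟩
    rintro rfl
    have := hB.1 c hc
    rw [disjoint_self.mp hd] at this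
    simp at this
  · rintro ⟨⟨-, hc⟩, hd⟩
    exact ⟨hc, hd⟩

theorem inter_23 (hα : Fintype.card α = 23) (hB : IsSteinerSystem 4 7 B) {b c : Finset α}
    (hb : b ∈ B) (hc : c ∈ B) (hbc : b ≠ c) : (b ∩ c).card = 1 ∨ (b ∩ c).card = 3 := by
  obtain ⟨h0, -, h2, -⟩ := meet_23 hα hB hb
  have := inter_lt hB hb hc hbc
  have := meet_zero h0 hc hbc
  have := meet_zero h2 hc hbc
  omega

theorem inter_22 (hα : Fintype.card α = 22) (hB : IsSteinerSystem 3 6 B) {b c : Finset α}
    (hb : b ∈ B) (hc : c ∈ B) (hbc : b ≠ c) : (b ∩ c).card = 0 ∨ (b ∩ c).card = 2 := by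
  obtain ⟨-, h1, -⟩ := meet_22 hα hB hb
  have := inter_lt hB hb hc hbc
  have := meet_zero h1 hc hbc
  omega

theorem compl_mem_12 (hα : Fintype.card α = 12) (hB : IsSteinerSystem 5 6 B) {b : Finset α}
    (hb : b ∈ B) : bᶜ ∈ B := by
  have h0 := (meet_12 hα hB hb).1
  obtain ⟨c, hc⟩ := card_eq_one.mp h0
  have hc' : c ∈ ((blocks B).erase b).filter fun c => (b ∩ c).card = 0 := hc ▸ mem_singleton_self c
  simp only [mem_filter, mem_erase, mem_blocks] at hc'
  obtain ⟨⟨-, hcB⟩, h⟩ := hc'
  have : c = bᶜ := by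
    refine eq_of_subset_of_card_le ?_ (by rw [card_compl, hα, hB.1 b hb, hB.1 c hcB])
    intro x hx
    rw [mem_compl]
    intro hxb
    rw [card_eq_zero] at h
    exact notMem_empty x (h ▸ mem_inter.mpr ⟨hxb, hx⟩)
  exact this ▸ hcB

theorem derived (hB : IsSteinerSystem (t + 1) (k + 1) B) (p : α) :
    IsSteinerSystem t k {b' : Finset {a : α // a ≠ p} |
      ∃ b ∈ B, p ∈ b ∧ b' = Finset.subtype (fun a => a ≠ p) b} := by
  constructor
  · rintro _ ⟨b, hb, hp, rfl⟩
    rw [card_subtype, filter_ne', card_erase_of_mem hp, hB.1 b hb]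
    omega
  · intro s hs
    have hp' : p ∉ s.map (Function.Embedding.subtype fun a => a ≠ p) := by
      simp [Finset.mem_map]
    obtain ⟨b, ⟨hb, hsb⟩, hu⟩ := hB.2 (insert p (s.map (Function.Embedding.subtype fun a => a ≠ p)))
      (by rw [card_insert_of_notMem hp', card_map, hs])
    obtain ⟨hpb, hsb'⟩ := insert_subset_iff.mp hsb
    refine ⟨Finset.subtype (fun a => a ≠ p) b, ⟨⟨b, hb, hpb, rfl⟩, fun x hx => ?_⟩, ?_⟩
    · exact mem_subtype.mpr (hsb' (mem_map_of_mem _ hx))
    · rintro _ ⟨⟨c, hc, hpc, rfl⟩, hsc⟩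
      rw [hu c ⟨hc, insert_subset_iff.mpr ⟨hpc, fun x hx => ?_⟩⟩]
      obtain ⟨y, hy, rfl⟩ := mem_map.mp hx
      exact mem_subtype.mp (hsc hy)

end Cfsg.Agent.Steiner
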