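import Cfsg.Agent.Lib.Steiner.AutTransfer

/-! Automorphisms of the system on twenty-three points. -/

set_option autoImplicit false

namespace Cfsg.Agent.Steiner.AutDerived

open Cfsg Finset
open scoped Pointwise

/-- the derived family at a point -/
def der {α : Type*} [DecidableEq α] (B : Set (Finset α)) (p : α) : Set (Finset {a : α // a ≠ p}) :=
  {b' | ∃ b ∈ B, p ∈ b ∧ b' = Finset.subtype (fun a => a ≠ p) b}

theorem extend {α β : Type*} [Fintype α] [DecidableEq α] [Fintype β] [DecidableEq β] (hα : Fintype.card α = 24)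
    (hβ : Fintype.card β = 24) {B : Set (Finset α)} {B' : Set (Finset β)} (hB : IsSteinerSystem 5 8 B)
    (hB' : IsSteinerSystem 5 8 B') {p : α} {q : β} (e : {a : α // a ≠ p} ≃ {b : β // b ≠ q})
    (he : (fun b => b.image e) '' der B p = der B' q) :
    ∃ E : α ≃ β, E p = q ∧ (∀ x : {a : α // a ≠ p}, E x = (e x : β)) ∧ (fun b => b.image E) '' B = B' := by
  classical
  let E : α ≃ β := ((Equiv.optionSubtypeNe p).symm.trans (Equiv.optionCongr e)).trans (Equiv.optionSubtypeNe q)
  have hEp : E p = q := by simp [E]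
  have hEs : ∀ x : {a : α // a ≠ p}, E x = (e x : β) := fun x => by simp [E, x.2]
  have hthru : ∀ b ∈ B, p ∈ b → b.image E ∈ B' := by
    intro b hb hp
    obtain ⟨c, hc, hqc, hce⟩ := he.subset ⟨_, ⟨b, hb, hp, rfl⟩, rfl⟩
    have : c = b.image E := by
      ext y
      by_cases hy : y = q
      · subst hy; simp only [hqc, true_iff]; exact mem_image.mpr ⟨p, hp, hEp⟩
      · have h1 := Finset.ext_iff.mp hce ⟨y, hy⟩
        simp only [mem_image, mem_subtype] at h1 ⊢
        rw [← h1]
        constructor
        · rintro ⟨x, hx, hxe⟩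
          exact ⟨x, hx, (hEs x).trans (congrArg Subtype.val hxe)⟩
        · rintro ⟨x, hx, hxe⟩
          have hxp : x ≠ p := fun h => hy (by rw [← hxe, h, hEp])
          exact ⟨⟨x, hxp⟩, hx, Subtype.ext ((hEs ⟨x, hxp⟩).symm.trans hxe)⟩
    exact this ▸ hc
  refine ⟨E, hEp, hEs, Set.eq_of_subset_of_ncard_le ?_ ?_ (Set.toFinite _)⟩
  · rintro _ ⟨b, hb, rfl⟩
    by_cases hp : p ∈ b
    · exact hthru b hb hp
    · obtain ⟨S, hSb, hS⟩ := exists_subset_card_eq (s := b) (n := 4) (by rw [hB.1 b hb]; norm_num)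
      obtain ⟨c, ⟨hc, hsc⟩, -⟩ := hB.2 (insert p S) (by rw [card_insert_of_notMem (fun h => hp (hSb h)), hS])
      obtain ⟨hpc, hSc⟩ := insert_subset_iff.mp hsc
      have h4 : (b ∩ c).card = 4 := by
        have h := card_le_card (subset_inter hSb hSc)
        rcases inter_24 hα hB hb hc (fun h => hp (h ▸ hpc)) with h' | h' | h' <;> omega
      have hd : symmDiff b c ∈ B := symmDiff_mem hα hB hb hc h4
      have hpd : p ∈ symmDiff b c := mem_symmDiff.mpr (Or.inr ⟨hpc, hp⟩)
      have hdc : (symmDiff b c ∩ c).card = 4 := by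
        rw [show symmDiff b c ∩ c = c \ b by ext x; simp [mem_symmDiff]; tauto]
        have := card_sdiff_add_card_inter c b
        rw [inter_comm c b, hB.1 c hc] at this
        omega
      have hres := symmDiff_mem hβ hB' (hthru _ hd hpd) (hthru c hc hpc)
        (by rw [← image_inter _ _ E.injective, card_image_of_injective _ E.injective, hdc])
      rw [← image_symmDiff _ _ E.injective, symmDiff_assoc, symmDiff_self, symmDiff_bot] at hres
      exact hres
  · rw [Set.ncard_image_of_injective _ (image_injective E.injective)]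
    have h1 := card_blocks hB
    have h2 := card_blocks hB'
    rw [hα, show Nat.choose 8 5 = 56 by decide, show Nat.choose 24 5 = 42504 by decide +kernel] at h1
    rw [hβ, show Nat.choose 8 5 = 56 by decide, show Nat.choose 24 5 = 42504 by decide +kernel] at h2
    omega

theorem aut23 {α : Type*} [Fintype α] [DecidableEq α] (hα : Fintype.card α = 23) {B : Set (Finset α)}
    (hB : IsSteinerSystem 4 7 B) :
    IsM23 (setSystemAut B) ∧ MulAction.IsMultiplyPretransitive (setSystemAut B) α 4 := by
  classical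
  have h24 : Fintype.card GolayPt = 24 := by simp [GolayPt]
  obtain ⟨p⟩ : Nonempty GolayPt := Fintype.card_pos_iff.mp (by omega)
  have hO := Cfsg.Agent.Golay.octads_steiner
  have hM := Cfsg.Agent.Golay.M24_eq_octads
  obtain ⟨e, he⟩ := TwentyThree.iso (α := {a : GolayPt // a ≠ p}) (by rw [Fintype.card_subtype_compl, Fintype.card_subtype_eq, h24]) hα
    (derived (t := 4) (k := 7) hO p) hB
  let S := MulAction.stabilizer M24 p
  have hfix : ∀ g : S, ∀ a : GolayPt, a ≠ p ↔ g.1.1 a ≠ p := fun g a => by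
    have hgp : g.1.1 p = p := g.2
    exact not_congr ⟨fun h => by rw [h, hgp], fun h => g.1.1.injective (h.trans hgp.symm)⟩
  let r : S → Equiv.Perm {a : GolayPt // a ≠ p} := fun g => (g.1.1).subtypePerm fun a => (hfix g a).symm
  have hr : ∀ g, r g ∈ setSystemAut (der octads p) := by
    intro g
    rw [AutTransfer.aut_iff']
    rintro _ ⟨b, hb, hpb, rfl⟩
    have hg : g.1.1 ∈ setSystemAut octads := hM ▸ g.1.2
    refine ⟨b.image g.1.1, AutTransfer.aut_iff'.mp hg b hb, mem_image.mpr ⟨p, hpb, g.2⟩, ?_⟩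
    ext y
    simp only [mem_image, mem_subtype]
    constructor
    · rintro ⟨x, hx, rfl⟩; exact ⟨x, hx, rfl⟩
    · rintro ⟨x, hx, hxy⟩
      exact ⟨⟨x, (hfix g x).mpr (by rw [hxy]; exact y.2)⟩, hx, Subtype.ext hxy⟩
  let f : S →* setSystemAut (der octads p) :=
    { toFun := fun g => ⟨r g, hr g⟩
      map_one' := Subtype.ext (Equiv.ext fun _ => rfl)
      map_mul' := fun _ _ => Subtype.ext (Equiv.ext fun _ => rfl) }
  have hbij : Function.Bijective f := by
    refine ⟨fun g h e => Subtype.ext (Subtype.ext (Equiv.ext fun x => ?_)), fun g => ?_⟩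
    · by_cases hx : x = p
      · subst hx; exact g.2.trans h.2.symm
      · exact congrArg Subtype.val (DFunLike.congr_fun (congrArg Subtype.val e) ⟨x, hx⟩)
    · have hg : (fun b => b.image g.1) '' der octads p = der octads p :=
        Set.eq_of_subset_of_ncard_le (Set.image_subset_iff.mpr (AutTransfer.aut_iff'.mp g.2))
          (le_of_eq (Set.ncard_image_of_injective _ (image_injective g.1.injective)).symm) (Set.toFinite _)
      obtain ⟨E, hEp, hEs, hE⟩ := extend h24 h24 hO hO g.1 hg
      have hEm : E ∈ M24 := by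
        rw [hM, AutTransfer.aut_iff']
        exact fun b hb => hE.subset ⟨b, hb, rfl⟩
      exact ⟨⟨⟨E, hEm⟩, hEp⟩, Subtype.ext (Equiv.ext fun x => Subtype.ext (hEs x))⟩
  let F := (MulEquiv.ofBijective f hbij).trans (AutTransfer.autEquiv e he)
  haveI : MulAction.IsMultiplyPretransitive M24 GolayPt 5 := Cfsg.Agent.Golay.five_transitive
  refine ⟨⟨?_, ?_⟩, ?_⟩
  · haveI : IsSimpleGroup S := Cfsg.Agent.Golay.simple_stab p
    exact MulEquiv.isSimpleGroup F.symm
  · rw [← Nat.card_congr F.toEquiv]
    haveI : MulAction.IsPretransitive M24 GolayPt := MulAction.isPretransitive_of_is_two_pretransitive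
      (h2 := MulAction.isMultiplyPretransitive_of_le (n := 5) (by norm_num) (by rw [Nat.card_eq_fintype_card, h24]; norm_num))
    have h := S.card_mul_index
    rw [MulAction.index_stabilizer_of_transitive, Nat.card_eq_fintype_card (α := GolayPt), h24, Cfsg.Agent.Golay.card_M24] at h
    omega
  · refine AutTransfer.pretrans_transfer e he ?_
    rw [MulAction.isMultiplyPretransitive_iff]
    intro x y
    have key : ∀ z : Fin 4 ↪ {a : GolayPt // a ≠ p}, Function.Injective (Fin.cons p (fun i => (z i).1) : Fin 5 → GolayPt) :=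
      fun z => Fin.cons_injective_iff.mpr ⟨fun ⟨i, hi⟩ => (z i).2 hi, Subtype.val_injective.comp z.injective⟩
    obtain ⟨g, hg⟩ := (MulAction.isMultiplyPretransitive_iff.mp Cfsg.Agent.Golay.five_transitive) ⟨_, key x⟩ ⟨_, key y⟩
    have hgp : g.1 p = p := DFunLike.congr_fun hg 0
    refine ⟨f ⟨g, hgp⟩, ?_⟩
    refine Function.Embedding.ext fun i => Subtype.ext ?_
    exact DFunLike.congr_fun hg i.succ

end Cfsg.Agent.Steiner.AutDerived
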