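import Cfsg.Agent.Lib.Steiner.TwentyFour
import Cfsg.Agent.Lib.Golay.Mathieu
import Cfsg.Prelude.Def_Sporadic

/-! Automorphisms of the large Mathieu systems. -/

set_option autoImplicit false

namespace Cfsg.Agent.Steiner.AutTransfer

open Cfsg Finset
open scoped Pointwise

theorem aut_iff' {α : Type*} [Fintype α] [DecidableEq α] {B : Set (Finset α)} {g : Equiv.Perm α} :
    g ∈ setSystemAut B ↔ ∀ b ∈ B, b.image g ∈ B := PlaneFour.mem_aut

theorem conj_mem {α β : Type*} [Fintype α] [DecidableEq α] [Fintype β] [DecidableEq β] (e : α ≃ β)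
    {B : Set (Finset α)} {B' : Set (Finset β)} (he : (fun b => b.image e) '' B = B') (g : Equiv.Perm α) :
    e.permCongr g ∈ setSystemAut B' ↔ g ∈ setSystemAut B := by
  rw [aut_iff', aut_iff', ← he, Set.forall_mem_image]
  refine forall₂_congr fun b hb => ?_
  have h : (b.image e).image (e.permCongr g) = (b.image g).image e := by
    rw [image_image, image_image]; congr 1; funext x; simp
  rw [h]
  exact (image_injective e.injective).mem_set_image

/-- transfer of the automorphism group -/
noncomputable def autEquiv {α β : Type*} [Fintype α] [DecidableEq α] [Fintype β] [DecidableEq β] (e : α ≃ β)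
    {B : Set (Finset α)} {B' : Set (Finset β)} (he : (fun b => b.image e) '' B = B') :
    setSystemAut B ≃* setSystemAut B' where
  toFun g := ⟨e.permCongr g.1, (conj_mem e he g.1).mpr g.2⟩
  invFun g := ⟨e.permCongr.symm g.1, (conj_mem e he _).mp (by rw [Equiv.apply_symm_apply]; exact g.2)⟩
  left_inv g := Subtype.ext (e.permCongr.symm_apply_apply g.1)
  right_inv g := Subtype.ext (e.permCongr.apply_symm_apply g.1)
  map_mul' g h := Subtype.ext (Equiv.ext fun x => by simp [Equiv.permCongr_apply])

theorem pretrans_transfer {α β : Type*} [Fintype α] [DecidableEq α] [Fintype β] [DecidableEq β] (e : α ≃ β)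
    {B : Set (Finset α)} {B' : Set (Finset β)} (he : (fun b => b.image e) '' B = B') {n : ℕ}
    (h : MulAction.IsMultiplyPretransitive (setSystemAut B) α n) :
    MulAction.IsMultiplyPretransitive (setSystemAut B') β n := by
  rw [MulAction.isMultiplyPretransitive_iff] at h ⊢
  intro x y
  obtain ⟨g, hg⟩ := h (x.trans e.symm.toEmbedding) (y.trans e.symm.toEmbedding)
  refine ⟨autEquiv e he g, ?_⟩
  ext i
  have h1 : g.1 (e.symm (x i)) = e.symm (y i) := DFunLike.congr_fun hg i
  show e.permCongr g.1 (x i) = y i
  rw [Equiv.permCongr_apply, h1, Equiv.apply_symm_apply]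

theorem aut24 {α : Type*} [Fintype α] [DecidableEq α] (hα : Fintype.card α = 24) {B : Set (Finset α)}
    (hB : IsSteinerSystem 5 8 B) :
    IsM24 (setSystemAut B) ∧ MulAction.IsMultiplyPretransitive (setSystemAut B) α 5 := by
  obtain ⟨e, he⟩ := TwentyFour.iso (α := GolayPt) (by simp [GolayPt]) hα Cfsg.Agent.Golay.octads_steiner hB
  have hM := Cfsg.Agent.Golay.M24_eq_octads
  have h5 : MulAction.IsMultiplyPretransitive (setSystemAut octads) GolayPt 5 := hM ▸ Cfsg.Agent.Golay.five_transitive
  refine ⟨⟨?_, ?_⟩, pretrans_transfer e he h5⟩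
  · haveI : IsSimpleGroup M24 := Cfsg.Agent.Golay.M24_simple
    exact MulEquiv.isSimpleGroup ((autEquiv e he).symm.trans (MulEquiv.subgroupCongr hM.symm))
  · rw [← Nat.card_congr (autEquiv e he).toEquiv, ← hM]
    exact Cfsg.Agent.Golay.card_M24

end Cfsg.Agent.Steiner.AutTransfer
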