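import Cfsg.Agent.Lib.Steiner.AutTransfer
import Cfsg.Agent.S0378

/-! Automorphisms of the system on twenty-two points. -/

set_option autoImplicit false
set_option maxRecDepth 100000

namespace Cfsg.Agent.Steiner.AutTwentyTwo

open Cfsg Finset
open scoped Pointwise
open Cfsg.Agent.Steiner.PlaneFour Cfsg.Agent.Steiner.TwentyTwo

/-- six points of the first hyperoval -/
def six0 : Fin 6 ↪ Fin 21 := ⟨![3, 4, 5, 6, 9, 10], by decide⟩

theorem six0_img : (univ : Finset (Fin 6)).image six0 = ovalZero := by decide +kernel

theorem zero_even : mk21 ovalZero ∈ evenList := by decide +kernel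

theorem stdLines_steiner {α : Type*} [Fintype α] [DecidableEq α] (hα : Fintype.card α = 22) {B : Set (Finset α)}
    (hB : IsSteinerSystem 3 6 B) : IsSteinerSystem 2 5 stdLines := by
  obtain ⟨p⟩ : Nonempty α := Fintype.card_pos_iff.mp (by omega)
  obtain ⟨e, he⟩ := standard (α := {a : α // a ≠ p}) (by rw [Fintype.card_subtype_compl, Fintype.card_subtype_eq, hα])
    (derived (t := 2) (k := 5) hB p)
  have h := pullP_steiner e (derived (t := 2) (k := 5) hB p)
  rw [he] at h
  exact h

theorem bound {α : Type*} [Fintype α] [DecidableEq α] (hα : Fintype.card α = 22) {B : Set (Finset α)}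
    (hB : IsSteinerSystem 3 6 B) : Nat.card (setSystemAut B) ≤ 887040 := by
  classical
  have hS := stdLines_steiner hα hB
  obtain ⟨E, hE⟩ := standard22 hα hB
  have he : (fun b => b.image E) '' (↑model22 : Set (Finset (Option (Fin 21)))) = B := by
    rw [← hE]
    ext b
    exact ⟨fun ⟨s, hs, h⟩ => h ▸ hs, fun hb => ⟨b.image E.symm, show _ ∈ B by rw [image_image]; simpa using hb, by show (b.image E.symm).image E = b; rw [image_image]; simp⟩⟩
  rw [← Nat.card_congr (AutTransfer.autEquiv E he).toEquiv]
  set G := setSystemAut (↑model22 : Set (Finset (Option (Fin 21))))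
  let S := MulAction.stabilizer G (none : Option (Fin 21))
  let T : Finset (Finset (Fin 21)) := (evenList.map set21).toFinset
  let U : Finset (Fin 6 ↪ Fin 21) := univ.filter fun f => univ.image f ∈ T
  have hU : U.card ≤ 56 * 720 := by
    calc U.card ≤ 720 * T.card := by
          refine card_le_mul_card_image_of_maps_to (f := fun f : Fin 6 ↪ Fin 21 => univ.image f) (fun f hf => (mem_filter.mp hf).2) 720 fun t ht => ?_
          have htc : t.card = 6 := by
            obtain ⟨h, hh, rfl⟩ := List.mem_map.mp (List.mem_toFinset.mp ht)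
            exact (hyp_indep (List.mem_filter.mp hh).1).1
          calc _ ≤ (univ : Finset (Fin 6 ↪ t)).card := by
                refine card_le_card_of_surjOn (fun f : Fin 6 ↪ t => f.trans (Function.Embedding.subtype _)) ?_
                intro f hf
                simp only [Finset.mem_coe, mem_filter] at hf
                exact ⟨⟨fun i => ⟨f i, hf.2 ▸ mem_image_of_mem _ (mem_univ i)⟩, fun i j h => f.injective (congrArg Subtype.val h)⟩, mem_univ _, rfl⟩
            _ = 720 := by rw [card_univ, Fintype.card_embedding_eq, Fintype.card_coe, htc, Fintype.card_fin]; rfl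
      _ ≤ 720 * 56 := Nat.mul_le_mul_left _ ((List.toFinset_card_le _).trans (le_of_eq (by rw [List.length_map, evenList_length])))
      _ = _ := by norm_num
  have hblk : ∀ g : S, ∀ s ∈ ((planeStd.map fun m => (set21 m).insertNone) ++ (evenList.map fun m => (set21 m).map Function.Embedding.some)), s.image g.1.1 ∈ model22 := fun g s hs => AutTransfer.aut_iff'.mp g.1.2 s (List.mem_toFinset.mpr hs)
  have hfix : ∀ g : S, g.1.1 none = none := fun g => g.2
  have hsome : ∀ (g : S) x, g.1.1 (some x) = some (g.1.1.removeNone x) := fun g x => by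
    refine (Equiv.removeNone_some _ ?_).symm
    rcases h : g.1.1 (some x) with _ | y
    · exact absurd (g.1.1.injective (h.trans (hfix g).symm)) (by simp)
    · exact ⟨y, rfl⟩
  have hline : ∀ (g : S), g.1.1.removeNone ∈ setSystemAut stdLines := by
    intro g
    rw [AutTransfer.aut_iff']
    intro l hl
    have h := hblk g l.insertNone (List.mem_append_left _ (List.mem_map.mpr ⟨mk21 l, hl, by rw [set21_mk]⟩))
    simp only [model22, List.mem_toFinset, List.mem_append, List.mem_map] at h
    have hn : none ∈ l.insertNone.image g.1.1 := mem_image.mpr ⟨none, none_mem_insertNone, hfix g⟩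
    rcases h with ⟨m, hm, h⟩ | ⟨m, hm, h⟩
    · have : l.image g.1.1.removeNone = set21 m := by
        ext y
        have h1 := Finset.ext_iff.mp h (some y)
        simp only [some_mem_insertNone, mem_image] at h1
        rw [h1, mem_image]
        exact ⟨fun ⟨x, hx, e⟩ => ⟨some x, some_mem_insertNone.mpr hx, by rw [hsome, e]⟩,
          fun ⟨o, ho, e⟩ => by
            cases o with
            | none => rw [hfix] at e; exact absurd e (by simp)
            | some x => exact ⟨x, some_mem_insertNone.mp ho, Option.some_injective _ ((hsome g x).symm.trans e)⟩⟩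
      show mk21 _ ∈ planeStd
      rw [this, mk21_set (std_line _ hm)]; exact hm
    · rw [← h] at hn; simp at hn
  have hinj : Nat.card S ≤ U.card := by
    rw [← Fintype.card_coe, ← Nat.card_eq_fintype_card]
    refine Nat.card_le_card_of_injective (fun g => ⟨six0.trans g.1.1.removeNone.toEmbedding, ?_⟩) ?_
    · refine mem_filter.mpr ⟨mem_univ _, ?_⟩
      have h := hblk g (ovalZero.map Function.Embedding.some) (List.mem_append_right _ (List.mem_map.mpr ⟨_, zero_even, by rw [set21_mk]⟩))
      simp only [model22, List.mem_toFinset, List.mem_append, List.mem_map] at h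
      rcases h with ⟨m, hm, h⟩ | ⟨m, hm, h⟩
      · have : (none : Option (Fin 21)) ∈ (ovalZero.map Function.Embedding.some).image g.1.1 := h ▸ none_mem_insertNone
        simp [hsome] at this
      · refine List.mem_toFinset.mpr (List.mem_map.mpr ⟨m, hm, map_injective Function.Embedding.some ?_⟩)
        rw [h, ← six0_img]
        ext o
        simp [hsome, eq_comm]
    · intro g g' e
      have e' : six0.trans g.1.1.removeNone.toEmbedding = six0.trans g'.1.1.removeNone.toEmbedding := congrArg Subtype.val e
      have h1 : g.1.1.removeNone⁻¹ * g'.1.1.removeNone = 1 := by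
        refine ext_unique (mul_mem (inv_mem (hline g)) (hline g')) (fun x hx => ?_) hS
        rw [← six0_img, mem_image] at hx
        obtain ⟨i, -, rfl⟩ := hx
        have := DFunLike.congr_fun e' i
        simp only [Function.Embedding.trans_apply, Equiv.coe_toEmbedding] at this
        rw [Equiv.Perm.mul_apply, ← this]
        exact Equiv.symm_apply_apply _ _
      refine Subtype.ext (Subtype.ext (Equiv.ext fun o => ?_))
      cases o with
      | none => exact (hfix g).trans (hfix g').symm
      | some x => rw [hsome, hsome, inv_mul_eq_one.mp h1]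
  have h := S.card_mul_index
  have horb : S.index ≤ 22 := by
    rw [MulAction.index_stabilizer]
    exact (Set.ncard_le_card _).trans (le_of_eq (by simp))
  rw [← h]
  exact (Nat.mul_le_mul (hinj.trans hU) horb).trans (by norm_num)

theorem aut22 {α : Type*} [Fintype α] [DecidableEq α] (hα : Fintype.card α = 22) {B : Set (Finset α)}
    (hB : IsSteinerSystem 3 6 B) : Nat.card (setSystemAut B) = 887040 ∧
    MulAction.IsMultiplyPretransitive (setSystemAut B) α 3 ∧ ∃ H : Subgroup (setSystemAut B), H.index = 2 ∧ IsM22 H := by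
  classical
  haveI h5 := Cfsg.Agent.Golay.five_transitive
  have h24 : Fintype.card GolayPt = 24 := by simp [GolayPt]
  obtain ⟨P, -, hP⟩ := exists_subset_card_eq (s := (univ : Finset GolayPt)) (n := 2) (by rw [card_univ, h24]; norm_num)
  obtain ⟨p, q, hpq, hPeq⟩ := card_eq_two.mp hP
  have hO := Cfsg.Agent.Golay.octads_steiner
  have hM := Cfsg.Agent.Golay.M24_eq_octads
  let D : Set (Finset {a : GolayPt // a ∉ P}) := {t | ∃ b ∈ octads, P ⊆ b ∧ t = b.subtype (· ∉ P)}
  have hD : IsSteinerSystem 3 6 D := by
    refine ⟨?_, fun s hs => ?_⟩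
    · rintro _ ⟨b, hb, hPb, rfl⟩
      rw [card_subtype, show b.filter (· ∉ P) = b \ P from (sdiff_eq_filter b P).symm, card_sdiff_of_subset hPb, hO.1 b hb, hP]
    · have hd : Disjoint P (s.map (Function.Embedding.subtype _)) := disjoint_left.mpr fun a ha h => by
        obtain ⟨x, -, rfl⟩ := mem_map.mp h; exact x.2 ha
      obtain ⟨b, ⟨hb, hsb⟩, hu⟩ := hO.2 (P ∪ s.map (Function.Embedding.subtype _)) (by rw [card_union_of_disjoint hd, hP, card_map, hs])
      obtain ⟨hPb, hsb'⟩ := union_subset_iff.mp hsb
      refine ⟨b.subtype (· ∉ P), ⟨⟨b, hb, hPb, rfl⟩, fun x hx => mem_subtype.mpr (hsb' (mem_map_of_mem _ hx))⟩, ?_⟩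
      rintro _ ⟨⟨c, hc, hPc, rfl⟩, hsc⟩
      rw [hu c ⟨hc, union_subset hPc fun x hx => by obtain ⟨y, hy, rfl⟩ := mem_map.mp hx; exact mem_subtype.mp (hsc hy)⟩]
  have hcard : Fintype.card {a : GolayPt // a ∉ P} = 22 := by
    rw [Fintype.card_subtype_compl, Fintype.card_coe, hP, h24]
  obtain ⟨e, he⟩ := TwentyTwo.iso hcard hα hD hB
  let S := MulAction.stabilizer M24 P
  have himg : ∀ g : S, P.image g.1.1 = P := fun g => g.2
  have hiff : ∀ (g : S) a, g.1.1 a ∉ P ↔ a ∉ P := fun g a => by
    conv_lhs => rw [← himg g]
    exact not_congr g.1.1.injective.mem_finset_image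
  have hr : ∀ g : S, (g.1.1).subtypePerm (hiff g) ∈ setSystemAut D := by
    intro g
    rw [AutTransfer.aut_iff']
    rintro _ ⟨b, hb, hPb, rfl⟩
    have hg : g.1.1 ∈ setSystemAut octads := hM ▸ g.1.2
    refine ⟨b.image g.1.1, AutTransfer.aut_iff'.mp hg b hb, (himg g).symm.trans_subset (image_subset_image hPb), ?_⟩
    ext y
    simp only [mem_image, mem_subtype]
    constructor
    · rintro ⟨x, hx, rfl⟩; exact ⟨x, hx, rfl⟩
    · rintro ⟨x, hx, hxy⟩
      exact ⟨⟨x, (hiff g x).mp (by rw [hxy]; exact y.2)⟩, hx, Subtype.ext hxy⟩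
  let f : S →* setSystemAut D :=
    { toFun := fun g => ⟨_, hr g⟩
      map_one' := Subtype.ext (Equiv.ext fun _ => rfl)
      map_mul' := fun _ _ => Subtype.ext (Equiv.ext fun _ => rfl) }
  have hinj : Function.Injective f := by
    rw [injective_iff_map_eq_one]
    intro g hg
    have hout : ∀ a, a ∉ P → g.1.1 a = a := fun a ha =>
      congrArg Subtype.val (DFunLike.congr_fun (congrArg Subtype.val hg) (⟨a, ha⟩ : {a : GolayPt // a ∉ P}))
    have hin : g.1.1 p = p := by
      by_contra hne
      have hgp : g.1.1 p = q := by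
        have : g.1.1 p ∈ P := himg g ▸ mem_image_of_mem _ (by rw [hPeq]; simp)
        rw [hPeq] at this; simpa [hne] using this
      obtain ⟨s, hs, hsc⟩ := exists_subset_card_eq (s := Pᶜ) (n := 4) (by rw [card_compl, hP, h24]; norm_num)
      obtain ⟨b, ⟨hb, hsb⟩, hu⟩ := hO.2 (insert p s) (by
        rw [card_insert_of_notMem (fun h => by have := mem_compl.mp (hs h); simp [hPeq] at this), hsc])
      obtain ⟨hpb, hsb'⟩ := insert_subset_iff.mp hsb
      have hgb := AutTransfer.aut_iff'.mp (show g.1.1 ∈ setSystemAut octads from hM ▸ g.1.2) b hb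
      have hsub : b.erase p ⊆ b ∩ b.image g.1.1 ∪ {q} := fun x hx => by
        by_cases hxq : x = q
        · simp [hxq]
        · exact mem_union_left _ (mem_inter.mpr ⟨mem_of_mem_erase hx, mem_image.mpr ⟨x, mem_of_mem_erase hx, hout x (by simp [hPeq, hxq, (mem_erase.mp hx).1])⟩⟩)
      have h7 := (card_le_card hsub).trans (card_union_le _ _)
      rw [card_erase_of_mem hpb, hO.1 b hb, card_singleton] at h7
      by_cases hbe : b = b.image g.1.1
      · have hqb : q ∈ b := hbe.symm ▸ mem_image.mpr ⟨p, hpb, hgp⟩
        -- a block through `p` avoiding `q`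
        have hq : ∃ c ∈ octads, p ∈ c ∧ q ∉ c := by
          obtain ⟨x, hx, hxb⟩ := exists_mem_notMem_of_card_lt_card (s := b) (t := univ) (by rw [card_univ, h24, hO.1 b hb]; norm_num)
          obtain ⟨t, ht, htc⟩ := exists_subset_card_eq (s := (b.erase p).erase q) (n := 3) (by
            rw [card_erase_of_mem (mem_erase.mpr ⟨hpq.symm, hqb⟩), card_erase_of_mem hpb, hO.1 b hb]; norm_num)
          have hxt : x ∉ t := fun h => hxb (mem_of_mem_erase (mem_of_mem_erase (ht h)))
          have hpt : p ∉ insert x t := fun h => by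
            rcases mem_insert.mp h with h | h
            · exact hxb (h ▸ hpb)
            · exact (mem_erase.mp (mem_of_mem_erase (ht h))).1 rfl
          obtain ⟨c, ⟨hc, hcs⟩, -⟩ := hO.2 (insert p (insert x t)) (by rw [card_insert_of_notMem hpt, card_insert_of_notMem hxt, htc])
          refine ⟨c, hc, hcs (by simp), fun hqc => ?_⟩
          have hlt := inter_lt hO hb hc (fun h => hxb (h ▸ hcs (by simp)))
          have hsub2 : insert p (insert q t) ⊆ b ∩ c := by
            simp only [insert_subset_iff, mem_inter]
            exact ⟨⟨hpb, hcs (by simp)⟩, ⟨hqb, hqc⟩, fun y hy => mem_inter.mpr ⟨mem_of_mem_erase (mem_of_mem_erase (ht hy)), hcs (by simp [hy])⟩⟩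
          have := card_le_card hsub2
          rw [card_insert_of_notMem (by simp only [mem_insert, not_or]; exact ⟨hpq, fun h => (mem_erase.mp (mem_of_mem_erase (ht h))).1 rfl⟩),
            card_insert_of_notMem (fun h => (mem_erase.mp (ht h)).1 rfl), htc] at this
          omega
        obtain ⟨c, hc, hpc, hqc⟩ := hq
        have hgc := AutTransfer.aut_iff'.mp (show g.1.1 ∈ setSystemAut octads from hM ▸ g.1.2) c hc
        have hne2 : c ≠ c.image g.1.1 := fun h => hqc (h.symm ▸ mem_image.mpr ⟨p, hpc, hgp⟩)
        have hsub3 : c.erase p ⊆ c ∩ c.image g.1.1 := fun x hx => mem_inter.mpr ⟨mem_of_mem_erase hx, mem_image.mpr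
          ⟨x, mem_of_mem_erase hx, hout x (by
            have : x ≠ q := fun h => hqc (h ▸ mem_of_mem_erase hx)
            simp [hPeq, this, (mem_erase.mp hx).1])⟩⟩
        have := card_le_card hsub3
        rw [card_erase_of_mem hpc, hO.1 c hc] at this
        have := inter_lt hO hc hgc hne2
        omega
      · have := inter_lt hO hb hgb hbe
        omega
    refine Subtype.ext (Subtype.ext (Equiv.ext fun a => ?_))
    show g.1.1 a = a
    by_cases ha : a ∈ P
    · rw [hPeq] at ha
      simp only [mem_insert, mem_singleton] at ha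
      rcases ha with rfl | rfl
      · exact hin
      · have : g.1.1 a ∈ P := himg g ▸ mem_image_of_mem _ (by rw [hPeq]; simp)
        rw [hPeq] at this
        simp only [mem_insert, mem_singleton] at this
        exact this.resolve_left fun h => hpq (g.1.1.injective (hin.trans h.symm))
    · exact hout a ha
  let R := MulAction.stabilizer M24 p ⊓ MulAction.stabilizer M24 q
  have hRS : R ≤ S := fun g hg => by
    show P.image g.1 = P
    rw [hPeq, image_insert, image_singleton, show g.1 p = p from hg.1, show g.1 q = q from hg.2]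
  have hR : Nat.card R = 443520 := Cfsg.Agent.S0378.result p q hpq
  have hS : Nat.card S = 887040 := by
    have horb : MulAction.orbit M24 P = {t : Finset GolayPt | t.card = 2} := by
      ext t
      refine ⟨fun ⟨g, h⟩ => h ▸ (show (P.image g.1).card = 2 by rw [card_image_of_injective _ g.1.injective, hP]), fun ht => ?_⟩
      obtain ⟨a, b, hab, rfl⟩ := card_eq_two.mp ht
      haveI : MulAction.IsMultiplyPretransitive M24 GolayPt 2 := MulAction.isMultiplyPretransitive_of_le (n := 5) (by norm_num) (by rw [Nat.card_eq_fintype_card, h24]; norm_num)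
      obtain ⟨g, hgp, hgq⟩ := MulAction.is_two_pretransitive_iff.mp this hpq hab
      exact ⟨g, show P.image g.1 = _ by rw [hPeq, image_insert, image_singleton, show g.1 p = a from hgp, show g.1 q = b from hgq]⟩
    have h := S.card_mul_index
    rw [MulAction.index_stabilizer, horb, show {t : Finset GolayPt | t.card = 2} = ↑((univ : Finset GolayPt).powersetCard 2) by ext t; simp,
      Set.ncard_coe_finset, card_powersetCard, card_univ, h24, show Nat.choose 24 2 = 276 by decide +kernel, Cfsg.Agent.Golay.card_M24] at h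
    omega
  have hle := bound hcard hD
  have hge : 887040 ≤ Nat.card (setSystemAut D) := hS ▸ Nat.card_le_card_of_injective f hinj
  have hbij : Function.Bijective f := (Nat.bijective_iff_injective_and_card f).mpr ⟨hinj, by omega⟩
  let F := (MulEquiv.ofBijective f hbij).trans (AutTransfer.autEquiv e he)
  refine ⟨by rw [← Nat.card_congr F.toEquiv, hS], ?_, (R.subgroupOf S).map F.toMonoidHom, ?_, ?_⟩
  · refine AutTransfer.pretrans_transfer e he ?_
    rw [MulAction.isMultiplyPretransitive_iff]
    intro x y
    have key : ∀ z : Fin 3 ↪ {a : GolayPt // a ∉ P}, Function.Injective (Fin.cons p (Fin.cons q fun i => (z i).1) : Fin 5 → GolayPt) := by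
      intro z
      have hz : ∀ i, (z i).1 ≠ p ∧ (z i).1 ≠ q := fun i => by
        have : (z i).1 ∉ ({p, q} : Finset GolayPt) := fun h => (z i).2 (hPeq.symm ▸ h)
        simpa using this
      refine Fin.cons_injective_iff.mpr ⟨?_, Fin.cons_injective_iff.mpr ⟨fun ⟨i, hi⟩ => (hz i).2 hi, Subtype.val_injective.comp z.injective⟩⟩
      rintro ⟨i, hi⟩
      cases i using Fin.cases with
      | zero => exact hpq hi.symm
      | succ j => exact (hz j).1 hi
    obtain ⟨g, hg⟩ := (MulAction.isMultiplyPretransitive_iff.mp h5) ⟨_, key x⟩ ⟨_, key y⟩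
    have hgR : g ∈ R := ⟨DFunLike.congr_fun hg 0, DFunLike.congr_fun hg 1⟩
    refine ⟨f ⟨g, hRS hgR⟩, ?_⟩
    refine Function.Embedding.ext fun i => Subtype.ext ?_
    exact DFunLike.congr_fun hg i.succ.succ
  · have h := ((R.subgroupOf S).map F.toMonoidHom).card_mul_index
    rw [Subgroup.card_map_of_injective (f := F.toMonoidHom) F.injective, Nat.card_congr (Subgroup.subgroupOfEquivOfLe hRS).toEquiv, hR,
      ← Nat.card_congr F.toEquiv, hS] at h
    omega
  · haveI : IsSimpleGroup R := Cfsg.Agent.Golay.simple_stab_two p q hpq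
    let eq := ((R.subgroupOf S).equivMapOfInjective F.toMonoidHom F.injective).symm.trans (Subgroup.subgroupOfEquivOfLe hRS)
    exact ⟨MulEquiv.isSimpleGroup eq, (Nat.card_congr eq.toEquiv).trans hR⟩

end Cfsg.Agent.Steiner.AutTwentyTwo
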