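import Cfsg.Agent.Lib.Steiner.Basic

/-! A system on eleven points extends to one on twelve. -/

set_option autoImplicit false

namespace Cfsg.Agent.Steiner.Eleven

open Cfsg Finset

variable {α : Type*} [Fintype α] [DecidableEq α] {B : Set (Finset α)}

theorem disjoint_count (hα : Fintype.card α = 11) (hB : IsSteinerSystem 4 5 B) {s : Finset α} (hs : s.card = 5) :
    ((blocks B).filter fun c => (s ∩ c).card = 0).card + ((blocks B).filter fun c => (s ∩ c).card = 5).card = 1 := by
  classical
  have key : ∀ m L, m ≤ 4 → L * (5 - m).choose (4 - m) = (11 - m).choose (4 - m) → 0 < (5 - m).choose (4 - m) →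
      ∑ j ∈ range 6, ((blocks B).filter fun c => (s ∩ c).card = j).card * j.choose m = Nat.choose 5 m * L := by
    intro m L hm hL hpos
    have h := sum_choose (B := B) s ∅ m L (fun e he _ => by
      have h := card_sup hB e (by omega)
      rw [he, hα] at h
      rw [empty_union]
      exact Nat.eq_of_mul_eq_mul_right hpos (h.trans hL.symm))
    simp only [sdiff_empty, empty_subset, filter_true, hs] at h
    rw [← sum_by_value (blocks B) (fun c => (s ∩ c).card) 6 m (fun c hc => by
      have := card_le_card (inter_subset_left : s ∩ c ⊆ s); omega)]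
    exact h
  have h0 := key 0 66 (by norm_num) (by decide +kernel) (by decide +kernel)
  have h1 := key 1 30 (by norm_num) (by decide +kernel) (by decide +kernel)
  have h2 := key 2 12 (by norm_num) (by decide +kernel) (by decide +kernel)
  have h3 := key 3 4 (by norm_num) (by decide +kernel) (by decide +kernel)
  have h4 := key 4 1 (by norm_num) (by decide +kernel) (by decide +kernel)
  norm_num [sum_range_succ, Nat.choose, -Finset.card_eq_zero] at h0 h1 h2 h3 h4
  omega

/-- the extended family -/
def extSys (B : Set (Finset α)) : Set (Finset (Option α)) :=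
  {t | ∃ c ∈ B, t = c.insertNone ∨ t = cᶜ.map Function.Embedding.some}

theorem insertNone_mem (c : Finset α) : c.insertNone ∈ extSys B ↔ c ∈ B := by
  refine ⟨fun ⟨d, hd, h⟩ => ?_, fun h => ⟨c, h, Or.inl rfl⟩⟩
  rcases h with h | h
  · rw [show c = d by simpa using congrArg Finset.eraseNone h]; exact hd
  · have : (none : Option α) ∈ dᶜ.map Function.Embedding.some := h ▸ none_mem_insertNone
    simp at this

theorem ext_steiner (hα : Fintype.card α = 11) (hB : IsSteinerSystem 4 5 B) : IsSteinerSystem 5 6 (extSys B) := by
  classical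
  refine ⟨fun t ⟨c, hc, ht⟩ => ?_, fun s hs => ?_⟩
  · rcases ht with rfl | rfl
    · rw [card_insertNone, hB.1 c hc]
    · rw [card_map, card_compl, hα, hB.1 c hc]
  · by_cases hn : none ∈ s
    · have hse : s = s.eraseNone.insertNone := by
        ext o; cases o <;> simp [hn]
      have h4 : s.eraseNone.card = 4 := by
        have := congrArg Finset.card hse
        rw [card_insertNone, hs] at this; omega
      obtain ⟨c, ⟨hc, hsc⟩, hu⟩ := hB.2 _ h4
      refine ⟨c.insertNone, ⟨⟨c, hc, Or.inl rfl⟩, fun o ho => ?_⟩, ?_⟩
      · cases o with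
        | none => simp
        | some a => simpa using hsc (mem_eraseNone.mpr ho)
      · rintro t ⟨⟨d, hd, rfl | rfl⟩, hst⟩
        · rw [hu d ⟨hd, fun a ha => by simpa using hst (mem_eraseNone.mp ha)⟩]
        · simpa using hst hn
    · set s' := s.eraseNone with hs'
      have hse : s = s'.map Function.Embedding.some := by
        ext o; cases o <;> simp [hs', hn]
      have h5 : s'.card = 5 := by rw [← card_map Function.Embedding.some, ← hse, hs]
      have hcnt := disjoint_count hα hB h5
      obtain ⟨c, hc, hu⟩ : ∃ c ∈ B, ∀ d ∈ B, ((s' ∩ d).card = 0 ∨ (s' ∩ d).card = 5) → d = c ∧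
          ((s' ∩ c).card = 0 ∨ (s' ∩ c).card = 5) := by
        rw [← card_union_of_disjoint (disjoint_filter.mpr fun d _ h => by omega)] at hcnt
        obtain ⟨c, hc⟩ := card_eq_one.mp hcnt
        have hcm := hc.symm ▸ mem_singleton_self c
        simp only [mem_union, mem_filter, mem_blocks] at hcm
        refine ⟨c, hcm.elim And.left And.left, fun d hd h => ⟨?_, hcm.elim (fun h => Or.inl h.2) (fun h => Or.inr h.2)⟩⟩
        have : d ∈ ({c} : Finset (Finset α)) := by
          rw [← hc]; simp only [mem_union, mem_filter, mem_blocks]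
          exact h.elim (fun h => Or.inl ⟨hd, h⟩) (fun h => Or.inr ⟨hd, h⟩)
        simpa using this
      have hin : ∀ d ∈ B, (s ⊆ d.insertNone ↔ (s' ∩ d).card = 5) := fun d hd => by
        rw [hse]
        constructor
        · intro h
          rw [inter_eq_left.mpr fun a ha => by simpa using h (mem_map_of_mem _ ha), h5]
        · intro h o ho
          obtain ⟨a, ha, rfl⟩ := mem_map.mp ho
          have := eq_of_subset_of_card_le (inter_subset_left : s' ∩ d ⊆ s') (by omega)
          simpa using (mem_inter.mp (this.symm ▸ ha)).2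
      have hout : ∀ d ∈ B, (s ⊆ dᶜ.map Function.Embedding.some ↔ (s' ∩ d).card = 0) := fun d hd => by
        rw [hse, map_subset_map, card_eq_zero, ← disjoint_iff_inter_eq_empty, ← le_compl_iff_disjoint_right]
      have hex : (s' ∩ c).card = 0 ∨ (s' ∩ c).card = 5 := by
        by_cases h : ∃ d ∈ B, (s' ∩ d).card = 0 ∨ (s' ∩ d).card = 5
        · obtain ⟨d, hd, h⟩ := h; exact (hu d hd h).2
        · exfalso
          push Not at h
          rw [filter_eq_empty_iff.mpr fun d hd => (h d (mem_blocks.mp hd)).1,
            filter_eq_empty_iff.mpr fun d hd => (h d (mem_blocks.mp hd)).2] at hcnt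
          simp at hcnt
      rcases hex with h | h
      · refine ⟨cᶜ.map Function.Embedding.some, ⟨⟨c, hc, Or.inr rfl⟩, (hout c hc).mpr h⟩, ?_⟩
        rintro t ⟨⟨d, hd, rfl | rfl⟩, hst⟩
        · have := (hu d hd (Or.inr ((hin d hd).mp hst))).1
          subst this
          have := (hin d hd).mp hst
          omega
        · rw [(hu d hd (Or.inl ((hout d hd).mp hst))).1]
      · refine ⟨c.insertNone, ⟨⟨c, hc, Or.inl rfl⟩, (hin c hc).mpr h⟩, ?_⟩
        rintro t ⟨⟨d, hd, rfl | rfl⟩, hst⟩
        · rw [(hu d hd (Or.inr ((hin d hd).mp hst))).1]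
        · have := (hu d hd (Or.inl ((hout d hd).mp hst))).1
          subst this
          have := (hout d hd).mp hst
          omega

end Cfsg.Agent.Steiner.Eleven
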