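import Cfsg.Agent.Lib.Steiner.Basic

/-! The two graphs of a `(3, 6, 22)` system. -/

set_option autoImplicit false

namespace Cfsg.Agent.Steiner

open Cfsg Finset

variable {α : Type*} [Fintype α] [DecidableEq α] {B : Set (Finset α)}

theorem through_one (hα : Fintype.card α = 22) (hB : IsSteinerSystem 3 6 B) (p : α) :
    ((blocks B).filter (p ∈ ·)).card = 21 := by
  have h := card_sup hB {p} (by simp)
  rw [card_singleton, hα, show Nat.choose (6 - 1) (3 - 1) = 10 by decide,
    show Nat.choose (22 - 1) (3 - 1) = 210 by decide +kernel] at h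
  simp only [singleton_subset_iff] at h
  omega

theorem through_two (hα : Fintype.card α = 22) (hB : IsSteinerSystem 3 6 B) {p q : α} (hpq : p ≠ q) :
    ((blocks B).filter fun c => p ∈ c ∧ q ∈ c).card = 5 := by
  have h := card_sup hB {p, q} (by rw [card_pair hpq]; norm_num)
  rw [card_pair hpq, hα, show Nat.choose (6 - 2) (3 - 2) = 4 by decide,
    show Nat.choose (22 - 2) (3 - 2) = 20 by decide +kernel] at h
  simp only [insert_subset_iff, singleton_subset_iff] at h
  omega

theorem disjoint_through (hα : Fintype.card α = 22) (hB : IsSteinerSystem 3 6 B) {b : Finset α}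
    (hb : b ∈ B) {p : α} (hp : p ∉ b) :
    ((blocks B).filter fun c => p ∈ c ∧ Disjoint b c).card = 6 := by
  have h := sum_choose (B := B) b {p} 1 5 (fun e he hsub => by
    obtain ⟨q, rfl⟩ := card_eq_one.mp he
    have hq : q ≠ p := by
      have := hsub (mem_singleton_self q)
      simp only [mem_sdiff, mem_singleton] at this
      exact this.2
    rw [← through_two hα hB hq.symm]
    congr 1
    ext c
    simp [insert_subset_iff])
  rw [sdiff_singleton_eq_erase, erase_eq_of_notMem hp, hB.1 b hb, Nat.choose_one_right] at h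
  simp only [Nat.choose_one_right, singleton_subset_iff] at h
  have h21 := through_one hα hB p
  rw [← sum_filter_add_sum_filter_not _ (fun c => Disjoint b c)] at h
  rw [← card_filter_add_card_filter_not (fun c => Disjoint b c)] at h21
  have e0 : ∑ c ∈ ((blocks B).filter (p ∈ ·)).filter (fun c => Disjoint b c), (b ∩ c).card = 0 :=
    sum_eq_zero fun c hc => by rw [disjoint_iff_inter_eq_empty.mp (mem_filter.mp hc).2, card_empty]
  have e2 : ∀ c ∈ ((blocks B).filter (p ∈ ·)).filter (fun c => ¬ Disjoint b c), (b ∩ c).card = 2 := by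
    intro c hc
    obtain ⟨hc1, hd⟩ := mem_filter.mp hc
    obtain ⟨hcB, hpc⟩ := mem_filter.mp hc1
    have hne : b ≠ c := fun e => hp (e ▸ hpc)
    rcases inter_22 hα hB hb (mem_blocks.mp hcB) hne with e | e
    · exact absurd (disjoint_iff_inter_eq_empty.mpr (card_eq_zero.mp e)) hd
    · exact e
  rw [e0, sum_const_nat e2] at h
  rw [filter_filter] at h21
  omega

/-- The blocks disjoint from a block. -/
noncomputable def disj (B : Set (Finset α)) (b : Finset α) : Finset (Finset α) :=
  (blocks B).filter fun c => Disjoint b c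

theorem card_disj (hα : Fintype.card α = 22) (hB : IsSteinerSystem 3 6 B) {b : Finset α}
    (hb : b ∈ B) : (disj B b).card = 16 := by
  rw [← (meet_22 hα hB hb).1, meetN]
  congr 1
  ext c
  simp only [disj, mem_filter, mem_erase, card_eq_zero, ← disjoint_iff_inter_eq_empty]
  constructor
  · rintro ⟨hc, hd⟩
    refine ⟨⟨?_, hc⟩, hd⟩
    rintro rfl
    have := hB.1 c hb
    rw [disjoint_self.mp hd] at this
    simp at this
  · rintro ⟨⟨-, hc⟩, hd⟩
    exact ⟨hc, hd⟩

theorem common_disj (hα : Fintype.card α = 22) (hB : IsSteinerSystem 3 6 B) {b c : Finset α}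
    (hb : b ∈ B) (hc : c ∈ B) (hbc : b ≠ c) :
    ((disj B b).filter fun d => Disjoint c d).card = if Disjoint b c then 0 else 4 := by
  have hsum := sum_card_bipartiteAbove_eq_sum_card_bipartiteBelow
    (s := disj B b) (t := c) (fun (d : Finset α) (x : α) => x ∈ d)
  have e1 : ∀ d ∈ disj B b, (bipartiteAbove (fun (d : Finset α) (x : α) => x ∈ d) c d).card = (c ∩ d).card :=
    fun d _ => by rw [bipartiteAbove, filter_mem_eq_inter]
  have e2 : ∀ x ∈ c, (bipartiteBelow (fun (d : Finset α) (x : α) => x ∈ d) (disj B b) x).card =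
      if x ∈ b then 0 else 6 := by
    intro x _
    split_ifs with hx
    · rw [card_eq_zero, eq_empty_iff_forall_notMem]
      intro d hd
      simp only [mem_bipartiteBelow, disj, mem_filter] at hd
      exact disjoint_left.mp hd.1.2 hx hd.2
    · rw [← disjoint_through hα hB hb hx]
      congr 1
      ext d
      simp only [mem_bipartiteBelow, disj, mem_filter]
      tauto
  rw [sum_congr rfl e1, sum_congr rfl e2, sum_ite, sum_const_zero, zero_add, sum_const,
    smul_eq_mul] at hsum
  have hcb : (c.filter fun x => x ∉ b).card = 6 - (b ∩ c).card := by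
    have := card_sdiff_add_card_inter c b
    rw [hB.1 c hc, inter_comm c b] at this
    rw [filter_notMem_eq_sdiff]
    omega
  rw [hcb, ← sum_filter_add_sum_filter_not (disj B b) (fun d => Disjoint c d)] at hsum
  have z : ∑ d ∈ (disj B b).filter (fun d => Disjoint c d), (c ∩ d).card = 0 :=
    sum_eq_zero fun d hd => by rw [disjoint_iff_inter_eq_empty.mp (mem_filter.mp hd).2, card_empty]
  rw [z, zero_add] at hsum
  have htot := card_filter_add_card_filter_not (s := disj B b) (fun d => Disjoint c d)
  rw [card_disj hα hB hb] at htot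
  have hother : ∀ d ∈ (disj B b).filter (fun d => ¬ Disjoint c d), d ≠ c → (c ∩ d).card = 2 := by
    intro d hd hdc
    obtain ⟨hd1, hd2⟩ := mem_filter.mp hd
    rcases inter_22 hα hB hc (mem_blocks.mp (mem_filter.mp hd1).1) hdc.symm with e | e
    · exact absurd (disjoint_iff_inter_eq_empty.mpr (card_eq_zero.mp e)) hd2
    · exact e
  by_cases hd : Disjoint b c
  · rw [if_pos hd]
    rw [disjoint_iff_inter_eq_empty.mp hd, card_empty] at hsum
    have hcmem : c ∈ (disj B b).filter (fun d => ¬ Disjoint c d) := by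
      refine mem_filter.mpr ⟨mem_filter.mpr ⟨mem_blocks.mpr hc, hd⟩, fun h => ?_⟩
      have := hB.1 c hc
      rw [disjoint_self.mp h] at this
      simp at this
    rw [← add_sum_erase _ _ hcmem, inter_self, hB.1 c hc,
      sum_const_nat (fun d hd => hother d (mem_erase.mp hd).2 (mem_erase.mp hd).1),
      card_erase_of_mem hcmem] at hsum
    have : 0 < ((disj B b).filter (fun d => ¬ Disjoint c d)).card := card_pos.mpr ⟨c, hcmem⟩
    omega
  · rw [if_neg hd]
    have h2 : (b ∩ c).card = 2 := by
      rcases inter_22 hα hB hb hc hbc with e | e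
      · exact absurd (disjoint_iff_inter_eq_empty.mpr (card_eq_zero.mp e)) hd
      · exact e
    rw [h2, sum_const_nat (fun d hd' => hother d hd' (fun e => hd (e ▸ (mem_filter.mp (mem_filter.mp hd').1).2)))] at hsum
    omega

theorem self_not_disjoint (hB : IsSteinerSystem 3 6 B) {b : Finset α} (hb : b ∈ B) :
    ¬ Disjoint b b := fun h => by
  have := hB.1 b hb
  rw [disjoint_self.mp h] at this
  simp at this

theorem blockGraph_adj (hB : IsSteinerSystem 3 6 B) (b c : B) :
    (blockGraph B).Adj b c ↔ Disjoint b.1 c.1 := by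
  simp only [blockGraph, SimpleGraph.fromRel_adj]
  constructor
  · rintro ⟨-, h | h⟩
    exacts [h, h.symm]
  · exact fun h => ⟨fun e => self_not_disjoint hB b.2 (by subst e; exact h), Or.inl h⟩

theorem ncard_sub (q : Finset α → Prop) [DecidablePred q] :
    {x : B | q x.1}.ncard = ((blocks B).filter q).card := by
  rw [← Set.ncard_image_of_injective _ Subtype.val_injective, ← Set.ncard_coe_finset]
  congr 1
  ext d
  simp only [Set.mem_image, Set.mem_ofPred_eq, coe_filter, mem_blocks]
  exact ⟨fun ⟨x, hx, e⟩ => e ▸ ⟨x.2, hx⟩, fun ⟨h1, h2⟩ => ⟨⟨d, h1⟩, h2, rfl⟩⟩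

theorem card_B (hα : Fintype.card α = 22) (hB : IsSteinerSystem 3 6 B) : Nat.card B = 77 := by
  have h := card_blocks hB
  rw [hα, show Nat.choose 6 3 = 20 by decide, show Nat.choose 22 3 = 1540 by decide +kernel] at h
  rw [Nat.card_coe_set_eq]
  omega

theorem blockGraph_srg (hα : Fintype.card α = 22) (hB : IsSteinerSystem 3 6 B) [Fintype B]
    [DecidableRel (blockGraph B).Adj] : (blockGraph B).IsSRGWith 77 16 0 4 where
  card := by rw [← Nat.card_eq_fintype_card, card_B hα hB]
  regular v := by
    rw [← SimpleGraph.card_neighborSet_eq_degree, ← Nat.card_eq_fintype_card, Nat.card_coe_set_eq]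
    have : (blockGraph B).neighborSet v = {x : B | Disjoint v.1 x.1} :=
      Set.ext fun x => blockGraph_adj hB v x
    rw [this, ncard_sub fun d => Disjoint v.1 d]
    exact card_disj hα hB v.2
  of_adj v w h := by
    rw [← Nat.card_eq_fintype_card, Nat.card_coe_set_eq]
    have : (blockGraph B).commonNeighbors v w = {x : B | Disjoint v.1 x.1 ∧ Disjoint w.1 x.1} :=
      Set.ext fun x => and_congr (blockGraph_adj hB v x) (blockGraph_adj hB w x)
    rw [this, ncard_sub fun d => Disjoint v.1 d ∧ Disjoint w.1 d, ← filter_filter]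
    have hd := (blockGraph_adj hB v w).mp h
    have := common_disj hα hB v.2 w.2 (fun e => self_not_disjoint hB v.2 (e ▸ hd))
    rwa [if_pos hd] at this
  of_not_adj v w hne h := by
    rw [← Nat.card_eq_fintype_card, Nat.card_coe_set_eq]
    have : (blockGraph B).commonNeighbors v w = {x : B | Disjoint v.1 x.1 ∧ Disjoint w.1 x.1} :=
      Set.ext fun x => and_congr (blockGraph_adj hB v x) (blockGraph_adj hB w x)
    rw [this, ncard_sub fun d => Disjoint v.1 d ∧ Disjoint w.1 d, ← filter_filter]
    have hd := fun hd => h ((blockGraph_adj hB v w).mpr hd)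
    have := common_disj hα hB v.2 w.2 (fun e => hne (Subtype.ext e))
    rwa [if_neg hd] at this

/-! ### The graph on one extra vertex, points and blocks -/

/-- The neighbourhood relation, made symmetric. -/
def nb (B : Set (Finset α)) : Option (α ⊕ B) → Option (α ⊕ B) → Prop
  | none, some (Sum.inl _) => True
  | some (Sum.inl _), none => True
  | some (Sum.inl a), some (Sum.inr b) => a ∈ (b : Finset α)
  | some (Sum.inr b), some (Sum.inl a) => a ∈ (b : Finset α)
  | some (Sum.inr b), some (Sum.inr c) => Disjoint (b : Finset α) (c : Finset α)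
  | _, _ => False

theorem pointBlock_adj (hB : IsSteinerSystem 3 6 B) (u v : Option (α ⊕ B)) :
    (pointBlockGraph B).Adj u v ↔ nb B u v := by
  simp only [pointBlockGraph, SimpleGraph.fromRel_adj]
  rcases u with _ | a | b <;> rcases v with _ | c | d <;>
    simp only [pointBlockRel, nb, ne_eq, reduceCtorEq, not_false_eq_true, true_and, or_false,
      false_or, or_self, and_false, not_true_eq_false, false_and, Option.some.injEq, Sum.inl.injEq,
      Sum.inr.injEq]
  constructor
  · rintro ⟨-, h | h⟩
    exacts [h, h.symm]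
  · exact fun h => ⟨fun e => self_not_disjoint hB b.2 (by subst e; exact h), Or.inl h⟩

theorem ncard_split (S : Set (Option (α ⊕ B))) (z : ℕ) (P : Finset α) (q : Finset α → Prop)
    [DecidablePred q] (h0 : (none ∈ S ↔ z = 1)) (hz : z ≤ 1)
    (h1 : ∀ a, some (Sum.inl a) ∈ S ↔ a ∈ P) (h2 : ∀ b : B, some (Sum.inr b) ∈ S ↔ q b.1) :
    S.ncard = z + P.card + ((blocks B).filter q).card := by
  have hsplit : S = (if z = 1 then {none} else ∅) ∪ (fun a => some (Sum.inl a)) '' (P : Set α) ∪
      (fun b => some (Sum.inr b)) '' {b : B | q b.1} := by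
    ext u
    rcases u with _ | a | b
    · by_cases hzz : z = 1 <;> simp [h0, hzz]
    · by_cases hzz : z = 1 <;> simp [h1, hzz]
    · by_cases hzz : z = 1 <;> simp [h2, hzz]
  rw [hsplit, Set.ncard_union_eq ?_ (Set.toFinite _) (Set.toFinite _),
    Set.ncard_union_eq ?_ (Set.toFinite _) (Set.toFinite _),
    Set.ncard_image_of_injective _ (fun a b e => by simpa using e),
    Set.ncard_image_of_injective _ (fun a b e => by simpa using e), Set.ncard_coe_finset, ncard_sub]
  · congr 2
    by_cases hzz : z = 1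
    · simp [hzz]
    · simp [hzz]; omega
  · rw [Set.disjoint_left]
    rintro u hu ⟨a, -, rfl⟩
    by_cases hzz : z = 1 <;> simp [hzz] at hu
  · rw [Set.disjoint_left]
    rintro u (hu | ⟨a, -, rfl⟩) ⟨b, -, hb⟩
    · subst hb
      by_cases hzz : z = 1 <;> simp [hzz] at hu
    · simp at hb

theorem pointBlock_count (hα : Fintype.card α = 22) (hB : IsSteinerSystem 3 6 B)
    (u v : Option (α ⊕ B)) :
    (u = v → {x | nb B u x}.ncard = 22) ∧
      (u ≠ v → (nb B u v → {x | nb B u x ∧ nb B v x}.ncard = 0) ∧
        (¬ nb B u v → {x | nb B u x ∧ nb B v x}.ncard = 6)) := by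
  refine ⟨fun _ => ?_, fun hne => ?_⟩
  · rcases u with _ | a | b
    · rw [ncard_split _ 0 univ (fun _ => False) (by simp [nb]) (by norm_num) (by simp [nb]) (by simp [nb])]
      simp [hα]
    · rw [ncard_split _ 1 ∅ (fun d => a ∈ d) (by simp [nb]) le_rfl (by simp [nb]) (by simp [nb])]
      simp [through_one hα hB a]
    · rw [ncard_split _ 0 b.1 (fun d => Disjoint b.1 d) (by simp [nb]) (by norm_num) (by simp [nb]) (by simp [nb])]
      rw [hB.1 b.1 b.2, show ((blocks B).filter fun d => Disjoint b.1 d) = disj B b.1 from rfl, card_disj hα hB b.2]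
  rcases u with _ | a | b <;> rcases v with _ | c | d
  · exact absurd rfl hne
  · refine ⟨fun _ => ?_, fun h => absurd trivial h⟩
    rw [ncard_split _ 0 ∅ (fun _ => False) (by simp [nb]) (by norm_num) (by simp [nb]) (by simp [nb])]
    simp
  · refine ⟨fun h => h.elim, fun _ => ?_⟩
    rw [ncard_split _ 0 d.1 (fun _ => False) (by simp [nb]) (by norm_num) (by simp [nb]) (by simp [nb])]
    simp [hB.1 d.1 d.2]
  · refine ⟨fun _ => ?_, fun h => absurd trivial h⟩
    rw [ncard_split _ 0 ∅ (fun _ => False) (by simp [nb]) (by norm_num) (by simp [nb]) (by simp [nb])]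
    simp
  · refine ⟨fun h => h.elim, fun _ => ?_⟩
    have hac : a ≠ c := fun e => hne (by rw [e])
    rw [ncard_split _ 1 ∅ (fun d => a ∈ d ∧ c ∈ d) (by simp [nb]) le_rfl (by simp [nb]) (by simp [nb])]
    simp [through_two hα hB hac]
  · refine ⟨fun h => ?_, fun h => ?_⟩
    · rw [ncard_split _ 0 ∅ (fun e => a ∈ e ∧ Disjoint d.1 e) (by simp [nb]) (by norm_num) (by simp [nb]) (by simp [nb])]
      have : (blocks B).filter (fun e => a ∈ e ∧ Disjoint d.1 e) = ∅ := by
        rw [filter_eq_empty_iff]
        exact fun e _ he => disjoint_left.mp he.2 h he.1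
      simp [this]
    · rw [ncard_split _ 0 ∅ (fun e => a ∈ e ∧ Disjoint d.1 e) (by simp [nb]) (by norm_num) (by simp [nb]) (by simp [nb])]
      simp [disjoint_through hα hB d.2 h]
  · refine ⟨fun h => h.elim, fun _ => ?_⟩
    rw [ncard_split _ 0 b.1 (fun _ => False) (by simp [nb]) (by norm_num) (by simp [nb]) (by simp [nb])]
    simp [hB.1 b.1 b.2]
  · refine ⟨fun h => ?_, fun h => ?_⟩
    · rw [ncard_split _ 0 ∅ (fun e => c ∈ e ∧ Disjoint b.1 e) (by simp [nb]) (by norm_num) (by simp [nb])
        (by simp [nb, and_comm])]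
      have : (blocks B).filter (fun e => c ∈ e ∧ Disjoint b.1 e) = ∅ := by
        rw [filter_eq_empty_iff]
        exact fun e _ he => disjoint_left.mp he.2 h he.1
      simp [this]
    · rw [ncard_split _ 0 ∅ (fun e => c ∈ e ∧ Disjoint b.1 e) (by simp [nb]) (by norm_num) (by simp [nb])
        (by simp [nb, and_comm])]
      simp [disjoint_through hα hB b.2 h]
  · have hbd : b.1 ≠ d.1 := fun e => hne (by rw [Subtype.ext e])
    have hcd := common_disj hα hB b.2 d.2 hbd
    rw [disj, filter_filter] at hcd
    rw [ncard_split _ 0 (b.1 ∩ d.1) (fun e => Disjoint b.1 e ∧ Disjoint d.1 e) (by simp [nb])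
      (by norm_num) (by simp [nb]) (by simp [nb])]
    refine ⟨fun (h : Disjoint b.1 d.1) => ?_, fun (h : ¬ Disjoint b.1 d.1) => ?_⟩
    · rw [hcd, if_pos h, disjoint_iff_inter_eq_empty.mp h]; rfl
    · rw [hcd, if_neg h]
      rcases inter_22 hα hB b.2 d.2 hbd with e | e
      · exact absurd (disjoint_iff_inter_eq_empty.mpr (card_eq_zero.mp e)) h
      · rw [e]

theorem pointBlockGraph_srg (hα : Fintype.card α = 22) (hB : IsSteinerSystem 3 6 B) [Fintype B]
    [DecidableRel (pointBlockGraph B).Adj] : (pointBlockGraph B).IsSRGWith 100 22 0 6 where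
  card := by
    rw [Fintype.card_option, Fintype.card_sum, hα, ← Nat.card_eq_fintype_card, card_B hα hB]
  regular v := by
    rw [← SimpleGraph.card_neighborSet_eq_degree, ← Nat.card_eq_fintype_card, Nat.card_coe_set_eq]
    have : (pointBlockGraph B).neighborSet v = {x | nb B v x} :=
      Set.ext fun x => pointBlock_adj hB v x
    rw [this]; exact (pointBlock_count hα hB v v).1 rfl
  of_adj v w h := by
    rw [← Nat.card_eq_fintype_card, Nat.card_coe_set_eq]
    have : (pointBlockGraph B).commonNeighbors v w = {x | nb B v x ∧ nb B w x} :=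
      Set.ext fun x => and_congr (pointBlock_adj hB v x) (pointBlock_adj hB w x)
    rw [this]; exact ((pointBlock_count hα hB v w).2 h.ne).1 ((pointBlock_adj hB v w).mp h)
  of_not_adj v w hne h := by
    rw [← Nat.card_eq_fintype_card, Nat.card_coe_set_eq]
    have : (pointBlockGraph B).commonNeighbors v w = {x | nb B v x ∧ nb B w x} :=
      Set.ext fun x => and_congr (pointBlock_adj hB v x) (pointBlock_adj hB w x)
    rw [this]; exact ((pointBlock_count hα hB v w).2 hne).2 fun h' => h ((pointBlock_adj hB v w).mpr h')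

theorem leech_triangle (hα : Fintype.card α = 12) (hB : IsSteinerSystem 5 6 B) {b : Finset α}
    (hb : b ∈ B) :
    (∀ c ∈ B, c ≠ b → (b ∩ c).card = 0 ∨ (b ∩ c).card = 2 ∨ (b ∩ c).card = 3 ∨ (b ∩ c).card = 4) ∧
      ∀ s ⊆ b, (s.card = 2 → {c : Finset α | c ∈ B ∧ b ∩ c = s}.ncard = 3) ∧
        (s.card = 3 → {c : Finset α | c ∈ B ∧ b ∩ c = s}.ncard = 2) ∧
        (s.card = 4 → {c : Finset α | c ∈ B ∧ b ∩ c = s}.ncard = 3) := by
  refine ⟨fun c hc hcb => ?_, fun s hs => ?_⟩
  · have := inter_lt hB hb hc hcb.symm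
    have := meet_zero (meet_12 hα hB hb).2.1 hc hcb.symm
    omega
  -- the blocks through `s`, other than `b`, by the size of the meet outside `s`
  set S := ((blocks B).filter (s ⊆ ·)).erase b with hSdef
  set x := fun c : Finset α => ((b \ s) ∩ c).card with hxdef
  have hbS : b ∈ (blocks B).filter (s ⊆ ·) := mem_filter.mpr ⟨mem_blocks.mpr hb, hs⟩
  have hx : ∀ c ∈ S, x c + s.card < 5 := by
    intro c hc
    obtain ⟨hcb, hc'⟩ := mem_erase.mp hc
    obtain ⟨hcB, hsc⟩ := mem_filter.mp hc'
    have h5 := inter_lt hB hb (mem_blocks.mp hcB) hcb.symm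
    have : ((b \ s) ∩ c) ∪ s = b ∩ c := by
      ext y
      simp only [mem_union, mem_inter, mem_sdiff]
      constructor
      · rintro (⟨⟨h1, -⟩, h2⟩ | h)
        exacts [⟨h1, h2⟩, ⟨hs h, hsc h⟩]
      · rintro ⟨h1, h2⟩
        by_cases hy : y ∈ s
        exacts [Or.inr hy, Or.inl ⟨⟨h1, hy⟩, h2⟩]
    rw [← this, card_union_of_disjoint (disjoint_left.mpr fun y hy hys =>
      (mem_sdiff.mp (mem_inter.mp hy).1).2 hys)] at h5
    exact h5
  have hgoal : {c : Finset α | c ∈ B ∧ b ∩ c = s}.ncard =
      if s.card < 6 then (S.filter fun c => x c = 0).card else {c : Finset α | c ∈ B ∧ b ∩ c = s}.ncard := by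
    split_ifs with h6
    · rw [← Set.ncard_coe_finset]
      congr 1
      ext c
      simp only [Set.mem_ofPred_eq, hSdef, coe_filter, mem_erase, mem_filter, mem_blocks, hxdef, card_eq_zero]
      constructor
      · rintro ⟨hc, he⟩
        refine ⟨⟨?_, hc, fun y hy => (mem_inter.mp (he.symm ▸ hy : y ∈ b ∩ c)).2⟩, ?_⟩
        · rintro rfl
          rw [inter_self] at he
          rw [← he, hB.1 c hc] at h6
          omega
        · rw [eq_empty_iff_forall_notMem]
          intro y hy
          simp only [mem_inter, mem_sdiff] at hy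
          exact hy.1.2 (he ▸ mem_inter.mpr ⟨hy.1.1, hy.2⟩)
      · rintro ⟨⟨-, hc, hsc⟩, he⟩
        refine ⟨hc, Subset.antisymm (fun y hy => ?_) (subset_inter hs hsc)⟩
        by_contra hys
        exact notMem_empty y (he ▸ mem_inter.mpr ⟨mem_sdiff.mpr ⟨(mem_inter.mp hy).1, hys⟩, (mem_inter.mp hy).2⟩)
    · rfl
  have hbs : (b \ s).card = 6 - s.card := by rw [card_sdiff_of_subset hs, hB.1 b hb]
  have eqn : ∀ m L K, K + s.card = 5 → s.card + m ≤ 5 →
      L * (6 - (s.card + m)).choose (5 - (s.card + m)) = (12 - (s.card + m)).choose (5 - (s.card + m)) →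
      0 < (6 - (s.card + m)).choose (5 - (s.card + m)) →
      ∑ j ∈ range K, (S.filter fun c => x c = j).card * j.choose m + (6 - s.card).choose m =
        (6 - s.card).choose m * L := by
    intro m L K hK hm hL hpos
    have h := sum_choose (B := B) b s m L (fun e he hsub => by
      have hd : Disjoint s e := disjoint_left.mpr fun y hy hye => (mem_sdiff.mp (hsub hye)).2 hy
      have := card_sup hB (s ∪ e) (by rw [card_union_of_disjoint hd, he]; omega)
      rw [card_union_of_disjoint hd, he, hα] at this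
      exact Nat.eq_of_mul_eq_mul_right hpos (this.trans hL.symm))
    rw [← add_sum_erase _ _ hbS, ← hSdef, inter_eq_left.mpr sdiff_subset, hbs,
      sum_by_value S x K m (fun c hc => by have := hx c hc; omega)] at h
    omega
  refine ⟨fun h2 => ?_, fun h3 => ?_, fun h4 => ?_⟩
  · rw [hgoal, if_pos (by omega)]
    have a0 := eqn 0 30 3 (by omega) (by omega) (by rw [h2]; decide +kernel) (by rw [h2]; decide +kernel)
    have a1 := eqn 1 12 3 (by omega) (by omega) (by rw [h2]; decide +kernel) (by rw [h2]; decide +kernel)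
    have a2 := eqn 2 4 3 (by omega) (by omega) (by rw [h2]; decide +kernel) (by rw [h2]; decide +kernel)
    norm_num [h2, sum_range_succ, Nat.choose] at a0 a1 a2
    omega
  · rw [hgoal, if_pos (by omega)]
    have a0 := eqn 0 12 2 (by omega) (by omega) (by rw [h3]; decide +kernel) (by rw [h3]; decide +kernel)
    have a1 := eqn 1 4 2 (by omega) (by omega) (by rw [h3]; decide +kernel) (by rw [h3]; decide +kernel)
    norm_num [h3, sum_range_succ, Nat.choose] at a0 a1
    omega
  · rw [hgoal, if_pos (by omega)]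
    have a0 := eqn 0 4 1 (by omega) (by omega) (by rw [h4]; decide +kernel) (by rw [h4]; decide +kernel)
    norm_num [h4, sum_range_succ, Nat.choose] at a0
    omega

end Cfsg.Agent.Steiner
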