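import Cfsg.Agent.Lib.Steiner.PlaneOvals

/-! Collineations at a hyperoval of the plane of order four. -/

set_option autoImplicit false
set_option maxRecDepth 100000

namespace Cfsg.Agent.Steiner.PlaneFour

open Cfsg Finset
open scoped Pointwise

/-- collineations moving each hyperoval to the first one -/
def moveList : List (List (Fin 21)) := [[0, 1, 2, 3, 4, 5, 6, 7, 8, 9, 10, 11, 12, 13, 14, 15, 16, 17, 18, 19, 20], [0, 3, 4, 1, 2, 7, 8, 5, 6, 9, 10, 11, 12, 14, 13, 16, 15, 20, 19, 18, 17], [0, 1, 3, 2, 4, 5, 7, 6, 8, 9, 11, 10, 12, 17, 19, 18, 20, 13, 15, 14, 16], [0, 3, 1, 4, 2, 7, 5, 8, 6, 9, 11, 10, 12, 20, 18, 19, 17, 14, 16, 13, 15], [0, 1, 3, 4, 2, 7, 5, 6, 8, 11, 9, 10, 12, 15, 13, 14, 16, 19, 17, 18, 20], [0, 3, 1, 2, 4, 5, 7, 8, 6, 11, 9, 10, 12, 16, 14, 13, 15, 18, 20, 19, 17], [0, 3, 1, 2, 4, 7,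 5, 6, 8, 9, 11, 12, 10, 14, 16, 15, 13, 20, 18, 17, 19], [0, 1, 3, 4, 2, 5, 7, 8, 6, 9, 11, 12, 10, 13, 15, 16, 14, 17, 19, 20, 18], [0, 3, 1, 4, 2, 5, 7, 6, 8, 11, 9, 12, 10, 18, 20, 17, 19, 16, 14, 15, 13], [0, 1, 3, 2, 4, 7, 5, 8, 6, 11, 9, 12, 10, 19, 17, 20, 18, 15, 13, 16, 14], [0, 3, 4, 1, 2, 5, 6, 7, 8, 11, 12, 9, 10, 16, 15, 14, 13, 18, 17, 20, 19], [0, 1, 2, 3, 4, 7, 8, 5, 6, 11, 12, 9, 10, 15, 16, 13, 14, 19, 20, 17, 18], [0, 1, 3, 4, 2, 5, 6, 7, 8, 17, 18, 19, 20, 9, 10, 11, 12, 13, 14, 15, 16], [0, 3, 1, 2, 4, 7, 8, 5, 6, 20, 19, 18, 17, 9, 10, 11, 12, 14, 13, 16, 15], [0, 1, 3, 2, 4, 17, 18, 20, 19, 5, 6, 8, 7, 9, 10, 12, 11, 13, 14, 16, 15], [0, 20, 18, 17, 19, 3, 2, 4, 1, 7, 5, 6, 8, 9, 10, 11, 12, 14, 15, 13, 16], [0, 13, 16, 15, 14, 1, 3, 2, 4, 5, 8, 7, 6, 9, 10, 12, 11, 17, 19, 18, 20], [0,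 3, 2, 4, 1, 14, 13, 16, 15, 7, 8, 5, 6, 9, 10, 11, 12, 20, 19, 18, 17], [0, 1, 2, 3, 4, 5, 8, 6, 7, 17, 20, 18, 19, 9, 12, 10, 11, 13, 16, 14, 15], [0, 3, 4, 2, 1, 7, 5, 8, 6, 14, 16, 13, 15, 9, 11, 10, 12, 20, 18, 19, 17], [0, 17, 18, 19, 20, 1, 3, 4, 2, 5, 6, 7, 8, 9, 12, 10, 11, 13, 15, 16, 14], [0, 1, 3, 4, 2, 13, 16, 14, 15, 5, 8, 6, 7, 9, 12, 10, 11, 17, 20, 18, 19], [0, 3, 2, 1, 4, 20, 18, 19, 17, 7, 5, 8, 6, 9, 11, 10, 12, 14, 16, 13, 15], [0, 20, 19, 18, 17, 3, 1, 2, 4, 7, 8, 5, 6, 9, 12, 10, 11, 14, 16, 15, 13], [0, 1, 3, 2, 4, 8, 5, 6, 7, 16, 13, 14, 15, 12, 9, 10, 11, 20, 17, 18, 19], [0, 3, 2, 4, 1, 5, 7, 8, 6, 18, 20, 19, 17, 11, 9, 10, 12, 16, 14, 13, 15], [0, 18, 19, 17, 20, 3, 4, 1, 2, 5, 8, 6, 7, 11, 9, 10, 12, 16, 15, 14, 13], [0, 1, 2, 3, 4, 15, 13, 14, 16, 7, 5, 6, 8, 11, 9, 10, 12, 19, 17,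 18, 20], [0, 3, 4, 1, 2, 16, 14, 13, 15, 5, 7, 8, 6, 11, 9, 10, 12, 18, 20, 19, 17], [0, 13, 15, 14, 16, 2, 1, 3, 4, 7, 5, 8, 6, 12, 9, 10, 11, 18, 17, 19, 20], [0, 3, 2, 4, 1, 7, 5, 6, 8, 20, 18, 17, 19, 9, 11, 12, 10, 14, 16, 15, 13], [0, 1, 3, 2, 4, 5, 8, 7, 6, 13, 16, 15, 14, 9, 12, 11, 10, 17, 20, 19, 18], [0, 17, 20, 18, 19, 1, 2, 3, 4, 5, 8, 6, 7, 9, 11, 12, 10, 13, 14, 15, 16], [0, 3, 4, 1, 2, 14, 16, 15, 13, 7, 5, 6, 8, 9, 11, 12, 10, 20, 18, 17, 19], [0, 1, 2, 3, 4, 13, 15, 16, 14, 5, 7, 8, 6, 9, 11, 12, 10, 17, 19, 20, 18], [0, 14, 16, 13, 15, 3, 4, 2, 1, 7, 5, 8, 6, 9, 12, 11, 10, 20, 19, 17, 18], [0, 3, 4, 2, 1, 5, 7, 6, 8, 16, 14, 15, 13, 11, 9, 12, 10, 18, 20, 17, 19], [0, 1, 2, 3, 4, 8, 5, 7, 6, 20, 17, 19, 18, 12, 9, 11, 10, 16, 13, 15, 14], [0, 16, 15, 13, 14, 3, 2, 1, 4, 5, 6, 8, 7, 11, 9, 12,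 10, 18, 19, 20, 17], [0, 3, 2, 1, 4, 18, 20, 17, 19, 5, 7, 6, 8, 11, 9, 12, 10, 16, 14, 15, 13], [0, 1, 3, 4, 2, 16, 13, 15, 14, 8, 5, 7, 6, 12, 9, 11, 10, 20, 17, 19, 18], [0, 14, 13, 15, 16, 2, 3, 4, 1, 8, 7, 5, 6, 11, 9, 12, 10, 17, 20, 19, 18], [0, 3, 1, 2, 4, 5, 6, 7, 8, 18, 17, 20, 19, 11, 12, 9, 10, 16, 15, 14, 13], [0, 1, 3, 4, 2, 7, 8, 5, 6, 19, 20, 17, 18, 11, 12, 9, 10, 15, 16, 13, 14], [0, 3, 2, 4, 1, 16, 15, 14, 13, 5, 6, 7, 8, 11, 12, 9, 10, 18, 17, 20, 19], [0, 16, 13, 14, 15, 1, 3, 2, 4, 8, 5, 6, 7, 12, 11, 9, 10, 20, 18, 19, 17], [0, 18, 20, 19, 17, 3, 2, 4, 1, 5, 7, 8, 6, 11, 12, 9, 10, 16, 13, 15, 14], [0, 1, 3, 2, 4, 20, 19, 17, 18, 8, 7, 5, 6, 12, 11, 9, 10, 16, 15, 13, 14], [3, 0, 4, 2, 1, 11, 5, 18, 16, 12, 6, 17, 15, 9, 7, 20, 14, 10, 8, 19, 13], [3, 0, 1, 4, 2, 11, 16, 5, 18, 12, 15, 6,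 17, 9, 14, 7, 20, 10, 13, 8, 19], [3, 0, 2, 1, 4, 11, 18, 16, 5, 12, 17, 15, 6, 9, 20, 14, 7, 10, 19, 13, 8], [3, 1, 0, 2, 4, 18, 5, 16, 11, 6, 17, 12, 15, 14, 9, 20, 7, 10, 13, 8, 19], [3, 2, 0, 4, 1, 5, 16, 18, 11, 15, 6, 12, 17, 20, 9, 7, 14, 10, 19, 13, 8], [3, 4, 0, 1, 2, 16, 18, 5, 11, 17, 15, 12, 6, 7, 9, 14, 20, 10, 8, 19, 13], [3, 1, 4, 0, 2, 18, 11, 5, 16, 6, 15, 17, 12, 14, 7, 9, 20, 10, 19, 13, 8], [3, 4, 2, 0, 1, 16, 11, 18, 5, 17, 6, 15, 12, 7, 20, 9, 14, 10, 13, 8, 19], [3, 2, 1, 0, 4, 5, 11, 16, 18, 15, 17, 6, 12, 20, 14, 9, 7, 10, 8, 19, 13], [3, 1, 2, 4, 0, 18, 16, 11, 5, 6, 12, 15, 17, 14, 20, 7, 9, 10, 8, 19, 13], [3, 4, 1, 2, 0, 16, 5, 11, 18, 17, 12, 6, 15, 7, 14, 20, 9, 10, 19, 13, 8], [3, 2, 4, 1, 0, 5, 18, 11, 16, 15, 12, 17, 6, 20, 7, 14, 9, 10, 13, 8, 19], [3, 2, 0, 4, 1, 16, 5, 11,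 18, 6, 15, 17, 12, 9, 20, 14, 7, 19, 10, 8, 13], [3, 1, 0, 2, 4, 5, 18, 11, 16, 17, 6, 15, 12, 9, 14, 7, 20, 13, 10, 19, 8], [3, 4, 0, 1, 2, 18, 16, 11, 5, 15, 17, 6, 12, 9, 7, 20, 14, 8, 10, 13, 19], [3, 0, 4, 2, 1, 5, 11, 16, 18, 6, 12, 15, 17, 7, 9, 14, 20, 8, 10, 13, 19], [3, 0, 2, 1, 4, 18, 11, 5, 16, 17, 12, 6, 15, 20, 9, 7, 14, 19, 10, 8, 13], [3, 0, 1, 4, 2, 16, 11, 18, 5, 15, 12, 17, 6, 14, 9, 20, 7, 13, 10, 19, 8], [3, 1, 2, 4, 0, 16, 18, 5, 11, 12, 6, 17, 15, 20, 14, 9, 7, 8, 10, 13, 19], [3, 2, 4, 1, 0, 18, 5, 16, 11, 12, 15, 6, 17, 7, 20, 9, 14, 13, 10, 19, 8], [3, 4, 1, 2, 0, 5, 16, 18, 11, 12, 17, 15, 6, 14, 7, 9, 20, 19, 10, 8, 13], [3, 4, 2, 0, 1, 11, 16, 5, 18, 6, 17, 12, 15, 20, 7, 14, 9, 13, 10, 19, 8], [3, 1, 4, 0, 2, 11, 18, 16, 5, 15, 6, 12, 17, 7, 14, 20, 9, 19, 10, 8, 13], [3, 2, 1, 0,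 4, 11, 5, 18, 16, 17, 15, 12, 6, 14, 20, 7, 9, 8, 10, 13, 19], [0, 1, 3, 2, 4, 5, 6, 8, 7, 17, 18, 20, 19, 13, 14, 16, 15, 9, 10, 12, 11], [0, 3, 2, 4, 1, 7, 8, 5, 6, 14, 13, 16, 15, 20, 19, 18, 17, 9, 10, 11, 12], [0, 1, 3, 4, 2, 17, 18, 19, 20, 5, 6, 7, 8, 13, 14, 15, 16, 9, 10, 11, 12], [0, 13, 16, 14, 15, 1, 3, 4, 2, 5, 8, 6, 7, 17, 19, 20, 18, 9, 10, 11, 12], [0, 20, 18, 19, 17, 3, 2, 1, 4, 7, 5, 8, 6, 14, 15, 16, 13, 9, 10, 12, 11], [0, 3, 1, 2, 4, 20, 19, 18, 17, 7, 8, 5, 6, 14, 13, 16, 15, 9, 10, 11, 12], [0, 1, 2, 3, 4, 13, 14, 15, 16, 17, 18, 19, 20, 5, 6, 7, 8, 9, 10, 11, 12], [0, 13, 15, 16, 14, 17, 19, 20, 18, 1, 3, 4, 2, 5, 8, 6, 7, 9, 10, 11, 12], [0, 20, 17, 19, 18, 3, 2, 4, 1, 14, 15, 13, 16, 7, 5, 6, 8, 9, 10, 11, 12], [0, 13, 15, 14, 16, 1, 3, 2, 4, 17, 19, 18, 20, 5, 8, 7, 6, 9, 10, 12, 11],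 [0, 20, 17, 18, 19, 14, 15, 16, 13, 3, 2, 1, 4, 7, 5, 8, 6, 9, 10, 12, 11], [0, 3, 4, 1, 2, 14, 13, 16, 15, 20, 19, 18, 17, 7, 8, 5, 6, 9, 10, 11, 12], [3, 2, 1, 0, 4, 16, 18, 5, 11, 6, 12, 15, 17, 9, 7, 20, 14, 19, 13, 10, 8], [3, 1, 4, 0, 2, 5, 16, 18, 11, 17, 12, 6, 15, 9, 20, 14, 7, 13, 8, 10, 19], [3, 4, 2, 0, 1, 18, 5, 16, 11, 15, 12, 17, 6, 9, 14, 7, 20, 8, 19, 10, 13], [3, 4, 1, 2, 0, 11, 18, 16, 5, 6, 15, 17, 12, 20, 9, 7, 14, 13, 8, 10, 19], [3, 2, 4, 1, 0, 11, 16, 5, 18, 17, 6, 15, 12, 14, 9, 20, 7, 8, 19, 10, 13], [3, 1, 2, 4, 0, 11, 5, 18, 16, 15, 17, 6, 12, 7, 9, 14, 20, 19, 13, 10, 8], [3, 0, 1, 4, 2, 5, 18, 11, 16, 6, 17, 12, 15, 7, 20, 9, 14, 8, 19, 10, 13], [3, 0, 2, 1, 4, 16, 5, 11, 18, 15, 6, 12, 17, 14, 7, 9, 20, 13, 8, 10, 19], [3, 0, 4, 2, 1, 18, 16, 11, 5, 17, 15, 12, 6, 20, 14, 9, 7, 19,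 13, 10, 8], [3, 4, 0, 1, 2, 5, 11, 16, 18, 12, 6, 17, 15, 14, 20, 7, 9, 19, 13, 10, 8], [3, 1, 0, 2, 4, 16, 11, 18, 5, 12, 15, 6, 17, 20, 7, 14, 9, 8, 19, 10, 13], [3, 2, 0, 4, 1, 18, 11, 5, 16, 12, 17, 15, 6, 7, 14, 20, 9, 13, 8, 10, 19], [0, 1, 3, 4, 2, 5, 8, 6, 7, 13, 16, 14, 15, 17, 20, 18, 19, 9, 12, 10, 11], [0, 3, 2, 1, 4, 7, 5, 8, 6, 20, 18, 19, 17, 14, 16, 13, 15, 9, 11, 10, 12], [0, 1, 2, 3, 4, 17, 20, 18, 19, 5, 8, 6, 7, 13, 16, 14, 15, 9, 12, 10, 11], [0, 14, 16, 15, 13, 3, 4, 1, 2, 7, 5, 6, 8, 20, 19, 18, 17, 9, 12, 10, 11], [0, 13, 15, 16, 14, 1, 2, 3, 4, 5, 7, 8, 6, 17, 18, 19, 20, 9, 12, 10, 11], [0, 3, 4, 2, 1, 14, 16, 13, 15, 7, 5, 8, 6, 20, 18, 19, 17, 9, 11, 10, 12], [0, 17, 19, 20, 18, 1, 3, 4, 2, 13, 15, 16, 14, 5, 6, 7, 8, 9, 12, 10, 11], [0, 1, 3, 2, 4, 17, 19, 18, 20, 13, 15, 14, 16, 5,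 7, 6, 8, 9, 11, 10, 12], [0, 14, 13, 16, 15, 20, 19, 18, 17, 3, 4, 1, 2, 7, 5, 6, 8, 9, 12, 10, 11], [0, 13, 14, 15, 16, 17, 18, 19, 20, 1, 2, 3, 4, 5, 7, 8, 6, 9, 12, 10, 11], [0, 3, 1, 4, 2, 20, 18, 19, 17, 14, 16, 13, 15, 7, 5, 8, 6, 9, 11, 10, 12], [0, 20, 18, 17, 19, 3, 1, 2, 4, 14, 16, 15, 13, 7, 8, 5, 6, 9, 12, 10, 11], [0, 1, 2, 3, 4, 7, 5, 6, 8, 15, 13, 14, 16, 19, 17, 18, 20, 11, 9, 10, 12], [0, 3, 4, 1, 2, 5, 7, 8, 6, 16, 14, 13, 15, 18, 20, 19, 17, 11, 9, 10, 12], [0, 16, 15, 14, 13, 3, 2, 4, 1, 5, 6, 7, 8, 18, 19, 17, 20, 11, 9, 10, 12], [0, 1, 3, 2, 4, 16, 13, 14, 15, 8, 5, 6, 7, 20, 17, 18, 19, 12, 9, 10, 11], [0, 3, 2, 4, 1, 18, 20, 19, 17, 5, 7, 8, 6, 16, 14, 13, 15, 11, 9, 10, 12], [0, 20, 19, 17, 18, 1, 3, 2, 4, 8, 7, 5, 6, 16, 14, 15, 13, 12, 9, 10, 11], [0, 16, 13, 15, 14, 18, 19, 17, 20,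 3, 2, 4, 1, 5, 6, 7, 8, 11, 9, 10, 12], [0, 18, 17, 20, 19, 3, 4, 1, 2, 16, 15, 14, 13, 5, 8, 6, 7, 11, 9, 10, 12], [0, 1, 3, 4, 2, 15, 13, 14, 16, 19, 17, 18, 20, 7, 5, 6, 8, 11, 9, 10, 12], [0, 3, 1, 2, 4, 16, 14, 13, 15, 18, 20, 19, 17, 5, 7, 8, 6, 11, 9, 10, 12], [0, 13, 14, 16, 15, 2, 1, 3, 4, 18, 17, 19, 20, 7, 5, 8, 6, 12, 9, 10, 11], [0, 20, 18, 19, 17, 16, 14, 15, 13, 1, 3, 2, 4, 8, 7, 5, 6, 12, 9, 10, 11], [3, 2, 4, 1, 0, 16, 11, 18, 5, 6, 17, 12, 15, 9, 14, 7, 20, 19, 8, 13, 10], [3, 4, 1, 2, 0, 18, 11, 5, 16, 15, 6, 12, 17, 9, 20, 14, 7, 8, 13, 19, 10], [3, 1, 2, 4, 0, 5, 11, 16, 18, 17, 15, 12, 6, 9, 7, 20, 14, 13, 19, 8, 10], [3, 2, 1, 0, 4, 18, 16, 11, 5, 12, 6, 17, 15, 7, 9, 14, 20, 13, 19, 8, 10], [3, 4, 2, 0, 1, 5, 18, 11, 16, 12, 15, 6, 17, 14, 9, 20, 7, 19, 8, 13, 10], [3, 1, 4, 0, 2, 16, 5,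 11, 18, 12, 17, 15, 6, 20, 9, 7, 14, 8, 13, 19, 10], [3, 4, 0, 1, 2, 11, 5, 18, 16, 6, 12, 15, 17, 20, 14, 9, 7, 13, 19, 8, 10], [3, 2, 0, 4, 1, 11, 18, 16, 5, 17, 12, 6, 15, 14, 7, 9, 20, 8, 13, 19, 10], [3, 1, 0, 2, 4, 11, 16, 5, 18, 15, 12, 17, 6, 7, 20, 9, 14, 19, 8, 13, 10], [3, 0, 2, 1, 4, 5, 16, 18, 11, 6, 15, 17, 12, 7, 14, 20, 9, 8, 13, 19, 10], [3, 0, 1, 4, 2, 18, 5, 16, 11, 17, 6, 15, 12, 20, 7, 14, 9, 19, 8, 13, 10], [3, 0, 4, 2, 1, 16, 18, 5, 11, 15, 17, 6, 12, 14, 20, 7, 9, 13, 19, 8, 10], [0, 3, 4, 1, 2, 7, 5, 6, 8, 14, 16, 15, 13, 20, 18, 17, 19, 9, 11, 12, 10], [0, 1, 2, 3, 4, 5, 7, 8, 6, 13, 15, 16, 14, 17, 19, 20, 18, 9, 11, 12, 10], [0, 17, 18, 20, 19, 1, 3, 2, 4, 5, 6, 8, 7, 13, 15, 14, 16, 9, 12, 11, 10], [0, 3, 2, 4, 1, 20, 18, 17, 19, 7, 5, 6, 8, 14, 16, 15, 13, 9, 11, 12, 10], [0, 1, 3,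 2, 4, 13, 16, 15, 14, 5, 8, 7, 6, 17, 20, 19, 18, 9, 12, 11, 10], [0, 14, 13, 16, 15, 3, 2, 4, 1, 7, 8, 5, 6, 20, 17, 19, 18, 9, 11, 12, 10], [0, 17, 19, 18, 20, 13, 15, 14, 16, 1, 3, 2, 4, 5, 6, 8, 7, 9, 12, 11, 10], [0, 17, 18, 19, 20, 1, 2, 3, 4, 13, 14, 15, 16, 5, 8, 6, 7, 9, 11, 12, 10], [0, 3, 1, 2, 4, 14, 16, 15, 13, 20, 18, 17, 19, 7, 5, 6, 8, 9, 11, 12, 10], [0, 1, 3, 4, 2, 13, 15, 16, 14, 17, 19, 20, 18, 5, 7, 8, 6, 9, 11, 12, 10], [0, 14, 13, 15, 16, 3, 4, 2, 1, 20, 19, 17, 18, 7, 5, 8, 6, 9, 12, 11, 10], [0, 14, 15, 13, 16, 20, 17, 19, 18, 3, 2, 4, 1, 7, 8, 5, 6, 9, 11, 12, 10], [0, 3, 2, 1, 4, 5, 7, 6, 8, 18, 20, 17, 19, 16, 14, 15, 13, 11, 9, 12, 10], [0, 1, 3, 4, 2, 8, 5, 7, 6, 16, 13, 15, 14, 20, 17, 19, 18, 12, 9, 11, 10], [0, 3, 4, 2, 1, 16, 14, 15, 13, 5, 7, 6, 8, 18, 20, 17, 19, 11, 9, 12,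 10], [0, 17, 20, 19, 18, 2, 1, 3, 4, 8, 5, 6, 7, 14, 13, 15, 16, 11, 9, 12, 10], [0, 18, 19, 20, 17, 3, 4, 2, 1, 5, 8, 7, 6, 16, 15, 13, 14, 11, 9, 12, 10], [0, 1, 2, 3, 4, 20, 17, 19, 18, 8, 5, 7, 6, 16, 13, 15, 14, 12, 9, 11, 10], [0, 16, 13, 14, 15, 3, 2, 1, 4, 18, 19, 20, 17, 5, 6, 8, 7, 11, 9, 12, 10], [0, 3, 1, 4, 2, 18, 20, 17, 19, 16, 14, 15, 13, 5, 7, 6, 8, 11, 9, 12, 10], [0, 17, 18, 20, 19, 14, 13, 15, 16, 2, 1, 3, 4, 8, 5, 6, 7, 11, 9, 12, 10], [0, 18, 17, 19, 20, 16, 15, 13, 14, 3, 4, 2, 1, 5, 8, 7, 6, 11, 9, 12, 10], [0, 1, 3, 2, 4, 19, 17, 20, 18, 15, 13, 16, 14, 7, 5, 8, 6, 11, 9, 12, 10], [0, 14, 15, 16, 13, 2, 3, 4, 1, 17, 20, 19, 18, 8, 7, 5, 6, 11, 9, 12, 10], [0, 3, 2, 4, 1, 5, 6, 7, 8, 16, 15, 14, 13, 18, 17, 20, 19, 11, 12, 9, 10], [0, 1, 3, 2, 4, 8, 7, 5, 6, 20, 19, 17, 18, 16, 15, 13,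 14, 12, 11, 9, 10], [0, 3, 1, 2, 4, 18, 17, 20, 19, 5, 6, 7, 8, 16, 15, 14, 13, 11, 12, 9, 10], [0, 16, 13, 15, 14, 3, 1, 2, 4, 5, 8, 6, 7, 18, 20, 19, 17, 11, 12, 9, 10], [0, 18, 20, 17, 19, 2, 3, 4, 1, 7, 5, 8, 6, 13, 16, 15, 14, 12, 11, 9, 10], [0, 1, 3, 4, 2, 19, 20, 17, 18, 7, 8, 5, 6, 15, 16, 13, 14, 11, 12, 9, 10], [0, 3, 4, 1, 2, 16, 15, 14, 13, 18, 17, 20, 19, 5, 6, 7, 8, 11, 12, 9, 10], [0, 16, 14, 13, 15, 18, 20, 19, 17, 3, 1, 2, 4, 5, 8, 6, 7, 11, 12, 9, 10], [0, 16, 14, 15, 13, 1, 3, 2, 4, 20, 18, 19, 17, 8, 5, 6, 7, 12, 11, 9, 10], [0, 18, 19, 17, 20, 3, 2, 4, 1, 16, 13, 15, 14, 5, 7, 8, 6, 11, 12, 9, 10], [0, 18, 19, 20, 17, 13, 16, 15, 14, 2, 3, 4, 1, 7, 5, 8, 6, 12, 11, 9, 10], [0, 1, 2, 3, 4, 15, 16, 13, 14, 19, 20, 17, 18, 7, 8, 5, 6, 11, 12, 9, 10]]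

/-- collineations swapping two points of the first hyperoval -/
def swapList : List (List (Fin 21)) := [[0, 1, 2, 4, 3, 5, 6, 8, 7, 9, 10, 12, 11, 17, 18, 20, 19, 13, 14, 16, 15], [12, 14, 19, 5, 4, 3, 6, 17, 15, 9, 10, 11, 0, 20, 1, 8, 16, 7, 18, 2, 13], [11, 13, 20, 6, 4, 5, 3, 16, 18, 9, 10, 0, 12, 1, 19, 15, 7, 17, 8, 14, 2], [8, 18, 15, 9, 4, 5, 6, 7, 0, 3, 10, 13, 19, 11, 14, 2, 17, 16, 1, 12, 20], [7, 17, 16, 10, 4, 5, 6, 0, 8, 9, 3, 20, 14, 13, 12, 18, 2, 1, 15, 19, 11], [11, 18, 16, 3, 5, 4, 6, 20, 13, 9, 10, 0, 12, 8, 14, 17, 2, 15, 1, 19, 7], [12, 17, 15, 3, 6, 5, 4, 14, 19, 9, 10, 11, 0, 13, 7, 2, 18, 1, 16, 8, 20], [7, 14, 20, 3, 9, 5, 6, 0, 8, 4, 10, 16, 17, 19, 1, 15, 11, 12, 18, 13, 2], [8, 13, 19, 3, 10, 5, 6, 7, 0, 9, 4, 18, 15, 1, 20, 12, 16, 17, 11, 2, 14], [0, 2, 1, 3, 4, 6, 5, 7, 8, 9, 10,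 12, 11, 19, 20, 18, 17, 16, 15, 13, 14], [2, 1, 0, 3, 4, 9, 6, 16, 19, 5, 10, 20, 15, 13, 18, 12, 7, 17, 14, 8, 11], [1, 0, 2, 3, 4, 10, 6, 14, 18, 9, 5, 13, 17, 11, 7, 15, 19, 12, 8, 16, 20], [1, 0, 2, 3, 4, 5, 9, 17, 13, 6, 10, 18, 14, 8, 12, 20, 16, 7, 11, 19, 15], [2, 1, 0, 3, 4, 5, 10, 20, 15, 9, 6, 16, 19, 17, 14, 8, 11, 13, 18, 12, 7], [0, 2, 1, 3, 4, 5, 6, 8, 7, 10, 9, 11, 12, 20, 19, 17, 18, 15, 16, 14, 13]]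

/-- the first hyperoval -/
def ovalZero : Finset (Fin 21) := {3, 4, 5, 6, 9, 10}

/-- a listed map -/
def colFn (p : List (Fin 21)) (i : Fin 21) : Fin 21 := p.getD i.val 0

/-- test for a collineation -/
def colOK (p : List (Fin 21)) : Bool :=
  decide (p.length = 21) && (List.finRange 21).all (fun i => p.contains i) && planeStd.all fun m => planeStd.contains (pull21 (colFn p) m)

theorem move_ok : ((List.range 168).all fun n => colOK (moveList.getD n []) && (List.finRange 21).all fun i =>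
    !(hypList.getD n 0).testBit i.val || [3, 4, 5, 6, 9, 10].contains (colFn (moveList.getD n []) i)) = true := by decide +kernel

theorem swap_ok : swapList.all colOK = true := by decide +kernel

theorem swap_has : ∀ x ∈ ([3, 4, 5, 6, 9, 10] : List (Fin 21)), ∀ y ∈ ([3, 4, 5, 6, 9, 10] : List (Fin 21)), x ≠ y →
    ∃ p ∈ swapList, ∀ z ∈ ([3, 4, 5, 6, 9, 10] : List (Fin 21)), colFn p z = if z = x then y else if z = y then x else z := by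
  decide +kernel

theorem secants : ∀ x : Fin 21, x ∈ ([3, 4, 5, 6, 9, 10] : List (Fin 21)) ∨
    ∃ a ∈ ([3, 4, 5, 6, 9, 10] : List (Fin 21)), ∃ b ∈ ([3, 4, 5, 6, 9, 10] : List (Fin 21)),
    ∃ c ∈ ([3, 4, 5, 6, 9, 10] : List (Fin 21)), ∃ d ∈ ([3, 4, 5, 6, 9, 10] : List (Fin 21)),
      a < b ∧ c < d ∧ joinAt a b &&& joinAt c d = 2 ^ x.val := by decide +kernel

theorem mem_aut {α : Type*} [Fintype α] [DecidableEq α] {L : Set (Finset α)} {g : Equiv.Perm α} :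
    g ∈ setSystemAut L ↔ ∀ b ∈ L, b.image g ∈ L := by
  rw [MulAction.mem_stabilizer_iff]
  constructor
  · intro h b hb
    have : g • b ∈ g • L := Set.smul_mem_smul_set hb
    rw [h] at this
    exact this
  · intro h
    refine Set.eq_of_subset_of_ncard_le ?_ ?_ (Set.toFinite _)
    · rintro _ ⟨b, hb, rfl⟩
      exact h b hb
    · exact le_of_eq (Set.ncard_image_of_injective L (MulAction.injective g)).symm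

theorem colFn_bij {p : List (Fin 21)} (h : colOK p = true) : Function.Bijective (colFn p) := by
  simp only [colOK, Bool.and_eq_true, decide_eq_true_eq, List.all_eq_true, List.contains_eq_mem] at h
  refine Finite.surjective_iff_bijective.mp fun y => ?_
  obtain ⟨i, hi, hiy⟩ := List.getElem_of_mem (h.1.2 y (List.mem_finRange y))
  exact ⟨⟨i, h.1.1 ▸ hi⟩, by show p.getD i 0 = y; rw [← List.getElem_eq_getD (h := hi), hiy]⟩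

/-- the listed collineation -/
noncomputable def colPerm (p : List (Fin 21)) (h : colOK p = true) : Equiv.Perm (Fin 21) :=
  Equiv.ofBijective _ (colFn_bij h)

theorem colPerm_aut (p : List (Fin 21)) (h : colOK p = true) : colPerm p h ∈ setSystemAut stdLines := by
  rw [← inv_mem_iff, mem_aut]
  intro b hb
  have h' := h
  simp only [colOK, Bool.and_eq_true, decide_eq_true_eq, List.all_eq_true, List.contains_eq_mem] at h'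
  have h2 := h'.2 _ hb
  show mk21 _ ∈ planeStd
  have : mk21 (b.image ⇑(colPerm p h)⁻¹) = pull21 (colFn p) (mk21 b) := by
    unfold pull21
    conv_lhs => unfold mk21
    congr 1
    funext i
    rw [mk21_bit]
    refine decide_eq_decide.mpr ?_
    rw [mem_image]
    exact ⟨fun ⟨x, hx, e⟩ => by rw [← e]; show colPerm p h ((colPerm p h).symm x) ∈ b; rw [Equiv.apply_symm_apply]; exact hx,
      fun hx => ⟨_, hx, (colPerm p h).symm_apply_apply i⟩⟩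
  rw [this]; exact h2

theorem zero_list {x : Fin 21} : x ∈ ovalZero ↔ x ∈ ([3, 4, 5, 6, 9, 10] : List (Fin 21)) := by
  simp [ovalZero]

theorem ext_exists (σ : Equiv.Perm ↥ovalZero) : ∃ g ∈ setSystemAut stdLines, ∀ p : ↥ovalZero, g p = σ p := by
  refine Equiv.Perm.swap_induction_on σ ⟨1, one_mem _, fun _ => rfl⟩ ?_
  rintro f x y hxy ⟨g, hg, hgf⟩
  obtain ⟨p, hp, hz⟩ := swap_has x.1 (zero_list.mp x.2) y.1 (zero_list.mp y.2) (fun e => hxy (Subtype.ext e))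
  have hc := List.all_eq_true.mp swap_ok p hp
  refine ⟨colPerm p hc * g, mul_mem (colPerm_aut p hc) hg, fun q => ?_⟩
  rw [Equiv.Perm.mul_apply, hgf, Equiv.Perm.mul_apply]
  show colFn p (f q).1 = _
  rw [hz _ (zero_list.mp (f q).2), Equiv.swap_apply_def]
  simp only [← Subtype.ext_iff]
  split_ifs <;> rfl

theorem ext_unique {g : Equiv.Perm (Fin 21)} (hg : g ∈ setSystemAut stdLines) (hfix : ∀ p ∈ ovalZero, g p = p)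
    (hS : IsSteinerSystem 2 5 stdLines) : g = 1 := by
  have hline : ∀ a b : Fin 21, a ∈ ovalZero → b ∈ ovalZero → a < b → ∀ x, (joinAt a b).testBit x.val = true →
      (joinAt a b).testBit (g x).val = true := by
    intro a b ha hb hab x hx
    obtain ⟨hm, h1, h2⟩ := joinAt_ok a b hab
    have hl : set21 (joinAt a b) ∈ stdLines := by
      show mk21 _ ∈ planeStd
      rw [mk21_set (std_line _ hm)]; exact hm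
    have ha' : a ∈ set21 (joinAt a b) := by simp [set21, h1]
    have hb' : b ∈ set21 (joinAt a b) := by simp [set21, h2]
    obtain ⟨l, -, hu⟩ := hS.2 {a, b} (card_pair hab.ne)
    have e1 := hu _ ⟨hl, by simp [insert_subset_iff, ha', hb']⟩
    have e2 := hu ((set21 (joinAt a b)).image g) ⟨mem_aut.mp hg _ hl, by
      simp only [insert_subset_iff, singleton_subset_iff, mem_image]
      exact ⟨⟨a, ha', hfix a ha⟩, ⟨b, hb', hfix b hb⟩⟩⟩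
    have hgx : g x ∈ (set21 (joinAt a b)).image g := mem_image_of_mem _ (by simp [set21, hx])
    rw [e2, ← e1] at hgx
    simpa [set21] using hgx
  refine Equiv.ext fun x => ?_
  rcases secants x with hx | ⟨a, ha, b, hb, c, hc, d, hd, hab, hcd, he⟩
  · exact hfix x (zero_list.mpr hx)
  · have hb1 : (joinAt a b &&& joinAt c d).testBit x.val = true := by rw [he, Nat.testBit_two_pow_self]
    rw [Nat.testBit_and, Bool.and_eq_true] at hb1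
    have h2 : (joinAt a b &&& joinAt c d).testBit (g x).val = true := by
      rw [Nat.testBit_and, hline a b (zero_list.mpr ha) (zero_list.mpr hb) hab x hb1.1,
        hline c d (zero_list.mpr hc) (zero_list.mpr hd) hcd x hb1.2]; rfl
    rw [he, Nat.testBit_two_pow, decide_eq_true_eq] at h2
    exact (Fin.ext h2).symm

theorem oval_std {H : Finset (Fin 21)} (hH : Indep stdLines 6 H) :
    ∃ c ∈ setSystemAut stdLines, H.image c = ovalZero := by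
  classical
  obtain ⟨S, hSH, hS⟩ := exists_subset_card_eq (s := H) (n := 4) (by rw [hH.1]; norm_num)
  obtain ⟨h, hh, -, hmax⟩ := four_oval ⟨hS, fun l hl => (card_le_card (inter_subset_inter_left hSH)).trans (hH.2 l hl)⟩
  have hHh : H = set21 h := eq_of_subset_of_card_le (hmax H hH.2 hSH) (by rw [(hyp_indep hh).1, hH.1])
  obtain ⟨n, hn, rfl⟩ := List.getElem_of_mem hh
  have hk := List.all_eq_true.mp move_ok n (List.mem_range.mpr (hyp_nodup.2 ▸ hn))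
  simp only [Bool.and_eq_true, List.all_eq_true, Bool.or_eq_true, Bool.not_eq_true', List.contains_eq_mem, decide_eq_true_eq] at hk
  refine ⟨colPerm _ hk.1, colPerm_aut _ hk.1, eq_of_subset_of_card_le (fun y hy => ?_) ?_⟩
  · obtain ⟨x, hx, rfl⟩ := mem_image.mp hy
    rw [hHh, set21, mem_filter] at hx
    rcases hk.2 x (List.mem_finRange x) with h0 | h1
    · rw [← List.getElem_eq_getD (h := hn), hx.2] at h0; exact absurd h0 (by simp)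
    · exact zero_list.mpr h1
  · rw [card_image_of_injective _ (Equiv.injective _), hH.1]; rfl

theorem extend_oval {α : Type*} [Fintype α] [DecidableEq α] (hα : Fintype.card α = 21) {L : Set (Finset α)}
    (hL : IsSteinerSystem 2 5 L) {H : Finset α} (hH : Indep L 6 H) (σ : Equiv.Perm ↥H) :
    ∃! g : Equiv.Perm α, g ∈ setSystemAut L ∧ ∀ p : ↥H, g p = σ p := by
  classical
  obtain ⟨e₀, he₀⟩ := standard hα hL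
  have hstd : pullP e₀ L = stdLines := he₀
  have hback : (H.image e₀.symm).image e₀ = H := by rw [image_image]; simp
  have hH0 : Indep stdLines 6 (H.image e₀.symm) := by rw [← hstd, ← indep_image, hback]; exact hH
  obtain ⟨c, hc, hcH⟩ := oval_std hH0
  let e : Fin 21 ≃ α := c.symm.trans e₀
  have he : ∀ b : Finset (Fin 21), b.image e ∈ L ↔ b ∈ stdLines := by
    intro b
    have h1 : b.image e = (b.image ⇑c⁻¹).image e₀ := by rw [image_image]; rfl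
    rw [h1]
    show b.image ⇑c⁻¹ ∈ pullP e₀ L ↔ _
    rw [hstd]
    refine ⟨fun h => ?_, mem_aut.mp (inv_mem hc) b⟩
    have := mem_aut.mp hc _ h
    rwa [image_image, show (⇑c ∘ ⇑c⁻¹) = id from funext fun x => c.apply_symm_apply x, image_id] at this
  have heH : ∀ x, e x ∈ H ↔ x ∈ ovalZero := by
    intro x
    rw [← hcH]
    simp only [mem_image]
    constructor
    · intro h; exact ⟨c.symm x, ⟨e x, h, by simp [e]⟩, c.apply_symm_apply x⟩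
    · rintro ⟨y, ⟨z, hz, rfl⟩, rfl⟩; simpa [e] using hz
  let τ : ↥ovalZero ≃ ↥H := e.subtypeEquiv fun x => (heH x).symm
  have hconj : ∀ g : Equiv.Perm (Fin 21), g ∈ setSystemAut stdLines ↔ e.permCongr g ∈ setSystemAut L := by
    intro g
    rw [mem_aut, mem_aut]
    constructor
    · intro h b hb
      have hb' : b.image e.symm ∈ stdLines := by rw [← he, image_image]; simpa using hb
      have := (he _).mpr (h _ hb')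
      rw [image_image, image_image] at this
      exact this
    · intro h b hb
      rw [← he]
      have := h _ ((he b).mpr hb)
      rw [image_image] at this ⊢
      convert this using 2
      funext x; simp
  obtain ⟨g, hg, hgσ⟩ := ext_exists (τ.symm.permCongr σ)
  have hspec : ∀ p : ↥H, e.permCongr g p = σ p := by
    intro p
    have h := hgσ (τ.symm p)
    simp only [Equiv.permCongr_apply, Equiv.symm_symm, Equiv.apply_symm_apply] at h ⊢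
    rw [show e.symm (p : α) = ((τ.symm p : ↥ovalZero) : Fin 21) from rfl, h]
    exact e.apply_symm_apply _
  refine ⟨e.permCongr g, ⟨(hconj g).mp hg, hspec⟩, ?_⟩
  rintro g' ⟨hg', hg'σ⟩
  obtain ⟨u, rfl⟩ := e.permCongr.surjective g'
  have hu := (hconj u).mpr hg'
  have hS : IsSteinerSystem 2 5 stdLines := hstd ▸ pullP_steiner e₀ hL
  have h1 : g⁻¹ * u = 1 := by
    refine ext_unique (mul_mem (inv_mem hg) hu) (fun x hx => ?_) hS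
    have h := (hg'σ ⟨e x, (heH x).mpr hx⟩).trans (hspec ⟨e x, (heH x).mpr hx⟩).symm
    simp only [Equiv.permCongr_apply, Equiv.symm_apply_apply, e.injective.eq_iff] at h
    rw [Equiv.Perm.mul_apply, h]
    exact g.symm_apply_apply x
  rw [inv_mul_eq_one.mp h1]

end Cfsg.Agent.Steiner.PlaneFour
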