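import Cfsg.Agent.Lib.Steiner.Basic

/-! Uniqueness of the projective plane of order four. -/

set_option autoImplicit false
set_option maxRecDepth 100000

namespace Cfsg.Agent.Steiner.PlaneFour

open Cfsg Finset

/-- nine fixed lines -/
def baseLines : List ℕ := [31, 481, 7681, 122881, 1966081, 139810, 279618, 559234, 1118466]

/-- candidates for the other lines -/
def candLines : List (List ℕ) := [[1082404, 590884, 1067044, 329764, 544804, 299044], [1081924, 590404, 1058884, 198724, 536644, 168004], [1065604, 328324, 1057924, 197764, 274564, 151684], [541444, 295684, 533764, 165124, 272644, 149764], [1082408, 590888, 1067048, 329768, 544808, 299048], [1081928, 590408, 1058888, 198728, 536648, 168008], [1065608, 328328, 1057928, 197768, 274568, 151688], [541448, 295688, 533768, 165128, 272648, 149768], [1082416, 590896, 1067056, 329776, 544816, 299056], [1081936, 590416, 1058896, 198736, 536656, 168016], [1065616, 328336, 1057936, 197776, 274576, 151696], [541456, 295696, 533776, 165136,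 272656, 149776]]

/-- the standard plane -/
def planeStd : List ℕ := [31, 481, 7681, 122881, 139810, 149764, 168008, 197776, 274564, 279618, 295696, 329768, 533768, 544816, 559234, 590404, 1058896, 1065608, 1082404, 1118466, 1966081]

/-- all completions -/
def planeSols : List (List ℕ) := [[0, 1, 4, 5, 3, 5, 0, 2, 4, 2, 3, 1], [0, 1, 4, 5, 4, 2, 3, 1, 3, 5, 0, 2], [1, 0, 5, 4, 2, 4, 1, 3, 5, 3, 2, 0], [1, 0, 5, 4, 5, 3, 2, 0, 2, 4, 1, 3], [2, 4, 1, 3, 1, 0, 5, 4, 5, 3, 2, 0], [2, 4, 1, 3, 5, 3, 2, 0, 1, 0, 5, 4], [3, 5, 0, 2, 0, 1, 4, 5, 4, 2, 3, 1], [3, 5, 0, 2, 4, 2, 3, 1, 0, 1, 4, 5], [4, 2, 3, 1, 0, 1, 4, 5, 3, 5, 0, 2], [4, 2, 3, 1, 3, 5, 0, 2, 0, 1, 4, 5], [5, 3, 2, 0, 1, 0, 5, 4, 2, 4, 1, 3], [5, 3, 2, 0, 2, 4, 1, 3, 1, 0, 5, 4]]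

/-- relabellings to the standard plane -/
def planeRelab : List (List (Fin 21)) := [[0, 1, 2, 3, 4, 5, 6, 7, 8, 9, 10, 11, 12, 13, 14, 15, 16, 17, 18, 19, 20], [0, 1, 2, 4, 3, 5, 6, 7, 8, 9, 10, 11, 12, 13, 14, 15, 16, 17, 18, 19, 20], [0, 1, 2, 4, 3, 5, 6, 8, 7, 9, 10, 12, 11, 13, 14, 16, 15, 17, 18, 20, 19], [0, 1, 2, 3, 4, 5, 6, 8, 7, 9, 10, 12, 11, 13, 14, 16, 15, 17, 18, 20, 19], [0, 1, 3, 4, 2, 5, 6, 8, 7, 9, 10, 12, 11, 13, 14, 16, 15, 17, 18, 20, 19], [0, 1, 4, 3, 2, 5, 6, 8, 7, 9, 10, 12, 11, 13, 14, 16, 15, 17, 18, 20, 19], [0, 1, 3, 2, 4, 5, 6, 7, 8, 9, 10, 11, 12, 13, 14, 15, 16, 17, 18, 19, 20], [0, 1, 4, 2, 3, 5, 6, 7, 8, 9, 10, 11, 12, 13, 14, 15, 16, 17, 18, 19, 20], [0, 1, 3, 4, 2, 5, 6, 7, 8, 9, 10, 11, 12, 13, 14, 15, 16, 17, 18, 19, 20], [0, 1, 4, 3, 2, 5, 6, 7, 8, 9, 10, 11, 12, 13, 14, 15, 16, 17, 18, 19, 20], [0, 1, 3, 2, 4, 5, 6, 8, 7, 9, 10, 12, 11, 13, 14, 16, 15, 17, 18, 20, 19], [0, 1, 4, 2, 3, 5, 6, 8, 7, 9, 10, 12, 11, 13, 14, 16, 15, 17, 18, 20, 19]]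

/-- mask of a set -/
def mk21 (s : Finset (Fin 21)) : ℕ := Nat.ofBits fun i : Fin 21 => decide (i ∈ s)

/-- at least two common points -/
def big2 (a b : ℕ) : Bool := decide (2 ≤ (List.range 21).countP fun i => a.testBit i && b.testBit i)

/-- chosen line -/
def lineAt (k c : ℕ) : ℕ := (candLines.getD k []).getD c 0

/-- extensions -/
def growP (S : List (List ℕ)) : List (List ℕ) :=
  S.flatMap fun L => ((List.range 6).filter fun c =>
    (List.range L.length).all fun t => !big2 (lineAt L.length c) (lineAt t (L.getD t 0))).map fun c => L ++ [c]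

/-- iterated extensions -/
def growPN : ℕ → List (List ℕ) → List (List ℕ)
  | 0, S => S
  | n + 1, S => growPN n (growP S)

theorem planeSols_ok : growPN 12 [[]] = planeSols := by decide +kernel

theorem lines_distinct : ∀ k t : Fin 12, k ≠ t → ∀ c d : Fin 6, lineAt k.val c.val ≠ lineAt t.val d.val := by decide +kernel

/-- the point where a candidate starts -/
def start0 (k : Fin 12) : Fin 21 := ⟨2 + k.val / 4, by omega⟩

/-- its cell in the first row -/
def start1 (k : Fin 12) : Fin 21 := ⟨5 + k.val % 4, by omega⟩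

/-- a cell -/
def cellPt (i j : Fin 4) : Fin 21 := ⟨5 + 4 * i.val + j.val, by omega⟩

/-- pullback of a mask -/
def pull21 (f : Fin 21 → Fin 21) (m : ℕ) : ℕ := Nat.ofBits fun i : Fin 21 => m.testBit (f i).val

theorem relab_plane : ((List.range 12).all fun n =>
    ((List.finRange 21).all fun i => (planeRelab.getD n []).contains i) &&
    (baseLines ++ (List.range 12).map fun k => lineAt k ((planeSols.getD n []).getD k 0)).all fun m =>
      planeStd.contains (pull21 (fun i => (planeRelab.getD n []).getD i.val 0) m)) = true := by decide +kernel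

theorem base_has : ∀ k : Fin 12, ∀ m ∈ baseLines, ¬(m.testBit (start0 k).val = true ∧ m.testBit (start1 k).val = true) := by
  decide +kernel

/-- mask of five chosen points -/
def fiveM (k : Fin 12) (a b c : Fin 4) : ℕ :=
  2 ^ (start0 k).val ||| 2 ^ (start1 k).val ||| 2 ^ (cellPt 1 a).val ||| 2 ^ (cellPt 2 b).val ||| 2 ^ (cellPt 3 c).val

theorem five_cand : ∀ k : Fin 12, ∀ a b c : Fin 4, (∃ d : Fin 6, lineAt k.val d.val = fiveM k a b c) ∨
    ∃ m ∈ baseLines, big2 (fiveM k a b c) m = true := by decide +kernel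

theorem mk21_bit (s : Finset (Fin 21)) (i : Fin 21) : (mk21 s).testBit i.val = decide (i ∈ s) := by
  rw [mk21, Nat.testBit_ofBits_lt _ _ i.isLt]

/-- the set of a mask -/
def set21 (m : ℕ) : Finset (Fin 21) := univ.filter fun i : Fin 21 => m.testBit i.val = true

theorem set21_mk (s : Finset (Fin 21)) : set21 (mk21 s) = s := by ext i; simp [set21, mk21_bit]

theorem mk21_inj {s t : Finset (Fin 21)} (h : mk21 s = mk21 t) : s = t := by rw [← set21_mk s, h, set21_mk]

theorem big2_mk (s t : Finset (Fin 21)) : big2 (mk21 s) (mk21 t) = true ↔ 2 ≤ (s ∩ t).card := by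
  rw [big2, decide_eq_true_eq, show List.range 21 = (List.finRange 21).map Fin.val from by decide, List.countP_map,
    List.countP_eq_length_filter, ← List.toFinset_card_of_nodup ((List.nodup_finRange 21).filter _)]
  refine Iff.of_eq (congrArg (2 ≤ ·) (congrArg Finset.card ?_))
  ext i
  simp [mk21_bit]

/-- lines as masks -/
def IsLn (B : Set (Finset (Fin 21))) (m : ℕ) : Prop := ∃ b ∈ B, mk21 b = m

variable {B : Set (Finset (Fin 21))}

theorem ln_eq (hB : IsSteinerSystem 2 5 B) {a b : ℕ} (ha : IsLn B a) (hb : IsLn B b) (h : big2 a b = true) : a = b := by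
  obtain ⟨s, hs, rfl⟩ := ha
  obtain ⟨t, ht, rfl⟩ := hb
  rw [big2_mk] at h
  by_contra hne
  have := inter_lt hB hs ht (fun e => hne (by rw [e]))
  omega

theorem five_cover : ∀ i : Fin 21, i = 0 ∨ (1 ≤ i.val ∧ i.val ≤ 4) ∨ ∃ r j : Fin 4, i = cellPt r j := by decide +kernel

theorem base_rows : mk21 ({0, 1, 2, 3, 4} : Finset (Fin 21)) ∈ baseLines ∧
    ∀ r : Fin 4, mk21 (insert 0 (univ.image (cellPt r))) ∈ baseLines := by decide +kernel

theorem start0_spec : ∀ k : Fin 12, start0 k ∈ ({0, 1, 2, 3, 4} : Finset (Fin 21)) ∧ start0 k ≠ 0 := by decide +kernel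

theorem exists_line (hB : IsSteinerSystem 2 5 B) (hbase : ∀ m ∈ baseLines, IsLn B m) (k : Fin 12) :
    ∃ d : Fin 6, IsLn B (lineAt k.val d.val) := by
  classical
  have hne : start0 k ≠ start1 k := fun h => by
    have := congrArg Fin.val h; simp only [start0, start1] at this; omega
  obtain ⟨b, ⟨hb, hsub⟩, -⟩ := hB.2 {start0 k, start1 k} (card_pair hne)
  have h0 : start0 k ∈ b := hsub (by simp)
  have h1 : start1 k ∈ b := hsub (by simp)
  have hnot : ∀ m ∈ baseLines, mk21 b ≠ m := fun m hm h => base_has k m hm (by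
    rw [← h, mk21_bit, mk21_bit]; simp [h0, h1])
  have hmeet : ∀ t : Finset (Fin 21), mk21 t ∈ baseLines → (b ∩ t).card ≤ 1 := by
    intro t ht
    by_contra h
    exact hnot _ ht (ln_eq hB ⟨b, hb, rfl⟩ (hbase _ ht) ((big2_mk b t).mpr (by omega)))
  have hA : (b ∩ ({0, 1, 2, 3, 4} : Finset (Fin 21))).card ≤ 1 := hmeet _ base_rows.1
  have h0A : start0 k ∈ b ∩ ({0, 1, 2, 3, 4} : Finset (Fin 21)) := by
    exact mem_inter.mpr ⟨h0, (start0_spec k).1⟩
  have hz : (0 : Fin 21) ∉ b := fun h => by
    exact (start0_spec k).2 (card_le_one.mp hA _ h0A 0 (mem_inter.mpr ⟨h, by simp⟩))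
  have hcov : b ⊆ insert (start0 k) (univ.biUnion fun r : Fin 4 => b ∩ univ.image (cellPt r)) := by
    intro i hi
    rcases five_cover i with rfl | ⟨h1', h4⟩ | ⟨r, j, rfl⟩
    · exact absurd hi hz
    · rw [mem_insert]; left
      refine card_le_one.mp hA i (mem_inter.mpr ⟨hi, ?_⟩) _ h0A
      revert h1' h4; clear * - i; revert i; decide +kernel
    · exact mem_insert_of_mem (mem_biUnion.mpr ⟨r, mem_univ r, mem_inter.mpr ⟨hi, mem_image_of_mem _ (mem_univ j)⟩⟩)
  have hle : ∀ r : Fin 4, (b ∩ univ.image (cellPt r)).card ≤ 1 := fun r =>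
    (card_le_card (inter_subset_inter_left (subset_insert _ _))).trans (hmeet _ (base_rows.2 r))
  have hpos : ∀ r : Fin 4, ∃ j, cellPt r j ∈ b := by
    intro r
    by_contra h
    push Not at h
    have hr : b ∩ univ.image (cellPt r) = ∅ := by
      ext i; simp only [mem_inter, mem_image, mem_univ, true_and, notMem_empty, iff_false, not_and, not_exists]
      intro hi j e; exact h j (e ▸ hi)
    have hc := (card_le_card hcov).trans ((card_insert_le _ _).trans (Nat.add_le_add_right card_biUnion_le 1))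
    rw [hB.1 b hb, ← add_sum_erase _ _ (mem_univ r), hr, card_empty, zero_add] at hc
    have := (sum_le_card_nsmul ((univ : Finset (Fin 4)).erase r) _ 1 fun x _ => hle x)
    rw [card_erase_of_mem (mem_univ r), card_univ, Fintype.card_fin] at this
    simp at this
    omega
  obtain ⟨a, ha⟩ := hpos 1
  obtain ⟨c, hc⟩ := hpos 2
  obtain ⟨d, hd⟩ := hpos 3
  have hfive : ({start0 k, start1 k, cellPt 1 a, cellPt 2 c, cellPt 3 d} : Finset (Fin 21)) = b := by
    refine eq_of_subset_of_card_le ?_ ?_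
    · simp [insert_subset_iff, h0, h1, ha, hc, hd]
    · rw [hB.1 b hb]
      clear * - k a c d
      revert k a c d; decide +kernel
  have hmask : mk21 b = fiveM k a c d := by
    rw [← hfive]
    refine Nat.eq_of_testBit_eq fun i => ?_
    by_cases hi : i < 21
    · have := mk21_bit {start0 k, start1 k, cellPt 1 a, cellPt 2 c, cellPt 3 d} ⟨i, hi⟩
      simp only at this
      rw [this]
      simp [fiveM, Nat.testBit_two_pow, Fin.ext_iff, @eq_comm ℕ i, Bool.or_assoc]
    · have hl : mk21 ({start0 k, start1 k, cellPt 1 a, cellPt 2 c, cellPt 3 d} : Finset (Fin 21)) < 2 ^ i :=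
        lt_of_lt_of_le (Nat.ofBits_lt_two_pow _) (Nat.pow_le_pow_right (by norm_num) (not_lt.mp hi))
      rw [Nat.testBit_eq_false_of_lt hl]
      simp [fiveM, Nat.testBit_two_pow, start0, start1, cellPt]
      omega
  rcases five_cand k a c d with ⟨e, he⟩ | ⟨m, hm, hbig⟩
  · exact ⟨e, b, hb, hmask.trans he.symm⟩
  · exact absurd (ln_eq hB ⟨b, hb, rfl⟩ (hbase m hm) (hmask ▸ hbig)) (hnot m hm)

theorem growPN_sound (hB : IsSteinerSystem 2 5 B) (f : ℕ → ℕ) (hf : ∀ k, k < 12 → f k < 6 ∧ IsLn B (lineAt k (f k))) :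
    ∀ n S j, j + n ≤ 12 → (List.range j).map f ∈ S → (List.range (j + n)).map f ∈ growPN n S
  | 0, S, j, _, h => h
  | n + 1, S, j, hj, h => by
    rw [show j + (n + 1) = (j + 1) + n by omega]
    refine growPN_sound hB f hf n (growP S) (j + 1) (by omega) ?_
    simp only [growP, List.mem_flatMap, List.mem_map, List.mem_filter, List.mem_range]
    refine ⟨_, h, f j, ⟨(hf j (by omega)).1, ?_⟩, by rw [List.range_succ, List.map_append]; rfl⟩
    simp only [List.all_eq_true, List.mem_range, List.length_map, List.length_range, Bool.not_eq_true']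
    intro t ht
    rw [show ((List.range j).map f).getD t 0 = f t by
      rw [← List.getElem_eq_getD (h := by simpa using ht), List.getElem_map, List.getElem_range]]
    rw [← Bool.not_eq_true]
    intro hbig
    exact lines_distinct ⟨j, by omega⟩ ⟨t, by omega⟩ (fun e => by have := congrArg Fin.val e; simp at this; omega)
      ⟨f j, (hf j (by omega)).1⟩ ⟨f t, (hf t (by omega)).1⟩ (ln_eq hB (hf j (by omega)).2 (hf t (by omega)).2 hbig)

/-- pulled back family -/
def pullP {α : Type*} [DecidableEq α] (e : Fin 21 ≃ α) (L : Set (Finset α)) : Set (Finset (Fin 21)) := {s | s.image e ∈ L}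

theorem pullP_steiner {α : Type*} [DecidableEq α] (e : Fin 21 ≃ α) {L : Set (Finset α)} (hL : IsSteinerSystem 2 5 L) :
    IsSteinerSystem 2 5 (pullP e L) := by
  refine ⟨fun b hb => by rw [← card_image_of_injective b e.injective]; exact hL.1 _ hb, fun s hs => ?_⟩
  obtain ⟨b, ⟨hb, hsb⟩, hu⟩ := hL.2 (s.image e) (by rw [card_image_of_injective s e.injective, hs])
  have himg : (b.image e.symm).image e = b := by rw [image_image]; simp
  refine ⟨b.image e.symm, ⟨by show _ ∈ L; rw [himg]; exact hb, fun i hi => ?_⟩, fun c hc => ?_⟩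
  · exact mem_image.mpr ⟨e i, hsb (mem_image_of_mem e hi), e.symm_apply_apply i⟩
  · have h : c.image e = b := hu _ ⟨hc.1, image_subset_image hc.2⟩
    rw [← h, image_image]; simp

theorem pull21_ln {α : Type*} [DecidableEq α] (π : Equiv.Perm (Fin 21)) (e : Fin 21 ≃ α) {L : Set (Finset α)} {m : ℕ}
    (hm : IsLn (pullP e L) m) : IsLn (pullP (π.trans e) L) (pull21 π m) := by
  obtain ⟨b, hb, rfl⟩ := hm
  refine ⟨b.image π.symm, ?_, ?_⟩
  · show (b.image π.symm).image (π.trans e) ∈ L
    rw [image_image, show (⇑(π.trans e) ∘ ⇑π.symm) = ⇑e from funext fun x => by simp]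
    exact hb
  · unfold pull21
    conv_lhs => unfold mk21
    congr 1
    funext i
    rw [mk21_bit]
    refine decide_eq_decide.mpr ?_
    exact ⟨fun h => by obtain ⟨x, hx, hxe⟩ := mem_image.mp h; rw [← hxe, Equiv.apply_symm_apply]; exact hx,
      fun h => mem_image.mpr ⟨π i, h, π.symm_apply_apply i⟩⟩

/-- the position of a point -/
def placeF {α : Type*} (p q : α) (r : Fin 3 → α) (g : Fin 4 → Fin 4 → α) (i : Fin 21) : α :=
  if i.val = 0 then p else if i.val = 1 then q else if h : i.val < 5 then r ⟨(i.val - 2) % 3, Nat.mod_lt _ (by norm_num)⟩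
  else g ⟨(i.val - 5) / 4 % 4, Nat.mod_lt _ (by norm_num)⟩ ⟨(i.val - 5) % 4, Nat.mod_lt _ (by norm_num)⟩

theorem labelling {α : Type*} [Fintype α] [DecidableEq α] (hα : Fintype.card α = 21) {L : Set (Finset α)}
    (hL : IsSteinerSystem 2 5 L) : ∃ e : Fin 21 ≃ α, ∀ m ∈ baseLines, IsLn (pullP e L) m := by
  classical
  obtain ⟨s, -, hs⟩ := exists_subset_card_eq (s := (univ : Finset α)) (n := 2) (by rw [card_univ, hα]; norm_num)
  obtain ⟨p, q, hpq, rfl⟩ := card_eq_two.mp hs
  obtain ⟨l, ⟨hl, hlsub⟩, -⟩ := hL.2 {p, q} (card_pair hpq)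
  have hp : p ∈ l := hlsub (by simp)
  have hq : q ∈ l := hlsub (by simp)
  have hrest : ((l.erase p).erase q).card = 3 := by
    rw [card_erase_of_mem (mem_erase.mpr ⟨hpq.symm, hq⟩), card_erase_of_mem hp, hL.1 l hl]
  let R := ((l.erase p).erase q).equivFinOfCardEq hrest
  let r : Fin 3 → α := fun i => (R.symm i).1
  have pencil : ∀ z ∈ l, ∃ A : Fin 4 → Finset α, Function.Injective A ∧ ∀ i, A i ∈ L ∧ z ∈ A i ∧ A i ≠ l := by
    intro z hz
    have h := card_sup hL {z} (by simp)
    rw [card_singleton, hα, show Nat.choose (5 - 1) (2 - 1) = 4 by decide, show Nat.choose (21 - 1) (2 - 1) = 20 by decide +kernel] at h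
    have h4 : (((blocks L).filter ({z} ⊆ ·)).erase l).card = 4 := by
      rw [card_erase_of_mem (mem_filter.mpr ⟨mem_blocks.mpr hl, by simpa using hz⟩)]; omega
    refine ⟨fun i => ((equivFinOfCardEq h4).symm i).1, Subtype.val_injective.comp (Equiv.injective _), fun i => ?_⟩
    have := ((equivFinOfCardEq h4).symm i).2
    simp only [mem_erase, mem_filter, mem_blocks, singleton_subset_iff] at this
    exact ⟨this.2.1, this.2.2, this.1⟩
  obtain ⟨A, hAi, hA⟩ := pencil p hp
  obtain ⟨C, hCi, hC⟩ := pencil q hq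
  have hmeetl : ∀ i z, z ∈ A i → z ∈ l → z = p := by
    intro i z h1 h2
    by_contra hne
    obtain ⟨b, -, hu⟩ := hL.2 {z, p} (card_pair hne)
    exact (hA i).2.2 ((hu (A i) ⟨(hA i).1, by simp [insert_subset_iff, h1, (hA i).2.1]⟩).trans
      (hu l ⟨hl, by simp [insert_subset_iff, h2, hp]⟩).symm)
  have hmeetl' : ∀ i z, z ∈ C i → z ∈ l → z = q := by
    intro i z h1 h2
    by_contra hne
    obtain ⟨b, -, hu⟩ := hL.2 {z, q} (card_pair hne)
    exact (hC i).2.2 ((hu (C i) ⟨(hC i).1, by simp [insert_subset_iff, h1, (hC i).2.1]⟩).trans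
      (hu l ⟨hl, by simp [insert_subset_iff, h2, hq]⟩).symm)
  have hAA : ∀ i i' z, z ∈ A i → z ∈ A i' → z ≠ p → i = i' := fun i i' z h h' hne => by
    obtain ⟨b, -, hu⟩ := hL.2 {z, p} (card_pair hne)
    exact hAi ((hu (A i) ⟨(hA i).1, by simp [insert_subset_iff, h, (hA i).2.1]⟩).trans
      (hu (A i') ⟨(hA i').1, by simp [insert_subset_iff, h', (hA i').2.1]⟩).symm)
  have hCC : ∀ i i' z, z ∈ C i → z ∈ C i' → z ≠ q → i = i' := fun i i' z h h' hne => by
    obtain ⟨b, -, hu⟩ := hL.2 {z, q} (card_pair hne)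
    exact hCi ((hu (C i) ⟨(hC i).1, by simp [insert_subset_iff, h, (hC i).2.1]⟩).trans
      (hu (C i') ⟨(hC i').1, by simp [insert_subset_iff, h', (hC i').2.1]⟩).symm)
  have hAC : ∀ i j, ∃ z, z ∈ A i ∧ z ∈ C j := by
    intro i j
    by_contra hno
    push Not at hno
    -- every point of `C j` other than `q` lies on a different line through `p`
    have hmap : ∀ z ∈ (C j).erase q, ∃ i', z ∈ A i' ∧ i' ≠ i := by
      intro z hz
      obtain ⟨hzq, hzC⟩ := mem_erase.mp hz
      have hzl : z ∉ l := fun h => hzq (hmeetl' j z hzC h)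
      have hzp : z ≠ p := fun h => hzl (h ▸ hp)
      obtain ⟨b, ⟨hb, hbs⟩, -⟩ := hL.2 {z, p} (card_pair hzp)
      have hbl : b ≠ l := fun h => hzl (h ▸ hbs (by simp))
      have h := card_sup hL {p} (by simp)
      rw [card_singleton, hα, show Nat.choose (5 - 1) (2 - 1) = 4 by decide, show Nat.choose (21 - 1) (2 - 1) = 20 by decide +kernel] at h
      have hall : (univ.image A) = ((blocks L).filter ({p} ⊆ ·)).erase l := by
        refine eq_of_subset_of_card_le (fun x hx => ?_) ?_
        · obtain ⟨i', -, rfl⟩ := mem_image.mp hx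
          simp [(hA i').1, (hA i').2.1, (hA i').2.2, mem_blocks]
        · rw [card_image_of_injective _ hAi, card_univ, Fintype.card_fin,
            card_erase_of_mem (mem_filter.mpr ⟨mem_blocks.mpr hl, by simpa using hp⟩)]
          omega
      have : b ∈ univ.image A := by
        rw [hall]; simp [hb, hbl, mem_blocks, hbs (show p ∈ ({z, p} : Finset α) by simp)]
      obtain ⟨i', -, rfl⟩ := mem_image.mp this
      exact ⟨i', hbs (by simp), fun e => hno z (e ▸ hbs (by simp)) hzC⟩
    choose m hm hmi using hmap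
    have := card_le_card_of_injOn (f := fun z => if h : z ∈ (C j).erase q then m z h else i)
      (s := (C j).erase q) (t := (univ : Finset (Fin 4)).erase i)
      (fun z hz => by simp only [Finset.mem_coe] at hz ⊢; simp [hz, hmi z hz])
      (fun z hz w hw e => by
        simp only [Finset.mem_coe] at hz hw
        simp only [dif_pos hz, dif_pos hw] at e
        by_contra hne
        obtain ⟨b, -, hu⟩ := hL.2 {z, w} (card_pair hne)
        have h1 : A (m z hz) = b := hu _ ⟨(hA _).1, by simp [insert_subset_iff, hm z hz, e ▸ hm w hw]⟩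
        have h2 : C j = b := hu _ ⟨(hC j).1, by simp [insert_subset_iff, (mem_erase.mp hz).2, (mem_erase.mp hw).2]⟩
        have hpC : p ∈ C j := h2.trans h1.symm ▸ (hA _).2.1
        exact hpq (hmeetl' j p hpC hp))
    rw [card_erase_of_mem (hC j).2.1, hL.1 _ (hC j).1, card_erase_of_mem (mem_univ i), card_univ, Fintype.card_fin] at this
    omega
  choose g hgA hgC using hAC
  have hgl : ∀ i j, g i j ∉ l := fun i j h => hpq ((hmeetl i _ (hgA i j) h).symm.trans (hmeetl' j _ (hgC i j) h))
  have hginj : ∀ i j i' j', g i j = g i' j' → i = i' ∧ j = j' := by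
    intro i j i' j' e
    exact ⟨hAA i i' _ (hgA i j) (e ▸ hgA i' j') (fun h => hgl i j (h ▸ hp)),
      hCC j j' _ (hgC i j) (e ▸ hgC i' j') (fun h => hgl i j (h ▸ hq))⟩
  have hr : ∀ a, r a ∈ l ∧ r a ≠ p ∧ r a ≠ q := fun a => by
    have := (R.symm a).2
    simp only [mem_erase] at this
    exact ⟨this.2.2, this.2.1, this.1⟩
  have hrinj : Function.Injective r := Subtype.val_injective.comp R.symm.injective
  let F := placeF p q r g
  have hF : Function.Injective F := by
    intro x y e
    have hxl := x.isLt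
    have hyl := y.isLt
    simp only [F, placeF] at e
    split_ifs at e with a1 a2 a3 a4 a5 a6 <;> first
      | exact Fin.ext (by omega)
      | exact absurd e hpq
      | exact absurd e.symm hpq
      | exact absurd e.symm (hr _).2.1
      | exact absurd e (hr _).2.1
      | exact absurd e.symm (hr _).2.2
      | exact absurd e (hr _).2.2
      | exact absurd (e ▸ hp) (hgl _ _)
      | exact absurd (e.symm ▸ hp) (hgl _ _)
      | exact absurd (e ▸ hq) (hgl _ _)
      | exact absurd (e.symm ▸ hq) (hgl _ _)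
      | exact absurd (e ▸ (hr _).1) (hgl _ _)
      | exact absurd (e.symm ▸ (hr _).1) (hgl _ _)
      | (have := congrArg Fin.val (hrinj e); simp only at this; exact Fin.ext (by omega))
      | (obtain ⟨u, v⟩ := hginj _ _ _ _ e
         have := congrArg Fin.val u; have := congrArg Fin.val v; simp only at *; exact Fin.ext (by omega))
  let e : Fin 21 ≃ α := Equiv.ofBijective F ((Fintype.bijective_iff_injective_and_card F).mpr ⟨hF, by simp [hα]⟩)
  refine ⟨e, fun m hm => ?_⟩
  have hblock : ∀ (S : Finset (Fin 21)) (b : Finset α), b ∈ L → S.card = 5 → (∀ i ∈ S, F i ∈ b) → IsLn (pullP e L) (mk21 S) := by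
    intro S b hb hS hsub
    refine ⟨S, ?_, rfl⟩
    show S.image F ∈ L
    rw [eq_of_subset_of_card_le (image_subset_iff.mpr hsub) (by rw [card_image_of_injective _ hF, hS, hL.1 b hb])]
    exact hb
  have cases9 : ∀ m ∈ baseLines, m = mk21 ({0, 1, 2, 3, 4} : Finset (Fin 21)) ∨
      (∃ i : Fin 4, m = mk21 (insert 0 (univ.image (cellPt i)))) ∨
      ∃ j : Fin 4, m = mk21 (insert 1 (univ.image fun i => cellPt i j)) := by decide +kernel
  have hg' : ∀ i j, F (cellPt i j) = g i j := by
    intro i j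
    have := i.isLt; have := j.isLt
    simp only [F, placeF, cellPt]
    rw [if_neg (by omega), if_neg (by omega), dif_neg (by omega)]
    congr 1 <;> exact Fin.ext (by simp only; omega)
  rcases cases9 m hm with rfl | ⟨i, rfl⟩ | ⟨j, rfl⟩
  · refine hblock _ l hl (by decide +kernel) fun i hi => ?_
    simp only [mem_insert, mem_singleton] at hi
    rcases hi with rfl | rfl | rfl | rfl | rfl <;> simp [F, placeF, hp, hq, (hr _).1]
  · refine hblock _ (A i) (hA i).1 (by revert i; decide +kernel) fun x hx => ?_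
    rcases mem_insert.mp hx with rfl | hx
    · simpa [F, placeF] using (hA i).2.1
    · obtain ⟨j, -, rfl⟩ := mem_image.mp hx
      rw [hg']; exact hgA i j
  · refine hblock _ (C j) (hC j).1 (by revert j; decide +kernel) fun x hx => ?_
    rcases mem_insert.mp hx with rfl | hx
    · simpa [F, placeF] using (hC j).2.1
    · obtain ⟨i, -, rfl⟩ := mem_image.mp hx
      rw [hg']; exact hgC i j

theorem standard {α : Type*} [Fintype α] [DecidableEq α] (hα : Fintype.card α = 21) {L : Set (Finset α)}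
    (hL : IsSteinerSystem 2 5 L) : ∃ e : Fin 21 ≃ α, pullP e L = {b | mk21 b ∈ planeStd} := by
  obtain ⟨e, he⟩ := labelling hα hL
  have h1 := pullP_steiner e hL
  choose c hc using exists_line h1 he
  let f : ℕ → ℕ := fun k => if h : k < 12 then (c ⟨k, h⟩).val else 0
  have hf : ∀ k, k < 12 → f k < 6 ∧ IsLn (pullP e L) (lineAt k (f k)) := fun k hk => by
    simp only [f, hk, dif_pos]; exact ⟨(c _).isLt, hc ⟨k, hk⟩⟩
  have hmem := growPN_sound h1 f hf 12 [[]] 0 le_rfl (by simp)
  rw [planeSols_ok, Nat.zero_add] at hmem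
  obtain ⟨n, hn, hfn⟩ := List.getElem_of_mem hmem
  have hlen : planeSols.length = 12 := by decide +kernel
  have hr := List.all_eq_true.mp relab_plane n (List.mem_range.mpr (hlen ▸ hn))
  simp only [Bool.and_eq_true, List.all_eq_true, List.mem_range, List.contains_eq_mem, decide_eq_true_eq] at hr
  obtain ⟨hsurj, hQ⟩ := hr
  have hbij : Function.Bijective fun i : Fin 21 => (planeRelab.getD n []).getD i.val 0 := by
    refine Finite.surjective_iff_bijective.mp fun y => ?_
    obtain ⟨i, hi, hiy⟩ := List.getElem_of_mem (hsurj y (List.mem_finRange y))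
    have hl : ∀ n : Fin 12, (planeRelab.getD n.val []).length = 21 := by decide +kernel
    exact ⟨⟨i, lt_of_lt_of_eq hi (hl ⟨n, hlen ▸ hn⟩)⟩, by
      show (planeRelab.getD n []).getD i 0 = y
      rw [← List.getElem_eq_getD (h := hi), hiy]⟩
  let π : Equiv.Perm (Fin 21) := Equiv.ofBijective _ hbij
  refine ⟨π.trans e, ?_⟩
  have h2 := pullP_steiner (π.trans e) hL
  set K := baseLines ++ (List.range 12).map fun k => lineAt k ((planeSols.getD n []).getD k 0) with hK
  have hget : ∀ k, k < 12 → (planeSols.getD n []).getD k 0 = f k := fun k hk => by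
    rw [← List.getElem_eq_getD (h := hn), hfn, ← List.getElem_eq_getD (h := by simpa using hk), List.getElem_map, List.getElem_range]
  have hKln : ∀ m ∈ K, IsLn (pullP e L) m := by
    intro m hm
    simp only [hK, List.mem_append, List.mem_map, List.mem_range] at hm
    rcases hm with hm | ⟨k, hk, rfl⟩
    · exact he m hm
    · rw [hget k hk]; exact (hf k hk).2
  have hnd : ∀ n : Fin 12, ((baseLines ++ (List.range 12).map fun k => lineAt k ((planeSols.getD n.val []).getD k 0)).map
      (pull21 fun i => (planeRelab.getD n.val []).getD i.val 0)).Nodup := by decide +kernel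
  have hnd' := hnd ⟨n, hlen ▸ hn⟩
  have hlin : ∀ m ∈ K, IsLn (pullP (π.trans e) L) (pull21 π m) := fun m hm => pull21_ln π e (hKln m hm)
  have hcount : (pullP (π.trans e) L).ncard = 21 := by
    have := card_blocks h2
    rw [Fintype.card_fin, show Nat.choose 5 2 = 10 by decide, show Nat.choose 21 2 = 210 by decide +kernel] at this
    omega
  set S : Finset (Finset (Fin 21)) := ((K.map (pull21 π)).map set21).toFinset with hS
  have hSsub : (S : Set (Finset (Fin 21))) ⊆ pullP (π.trans e) L := by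
    intro b hb
    simp only [hS, List.coe_toFinset, List.mem_map, Set.mem_ofPred_eq] at hb
    obtain ⟨_, ⟨m, hm, rfl⟩, rfl⟩ := hb
    obtain ⟨d, hd, hdm⟩ := hlin m hm
    rw [← hdm, set21_mk]; exact hd
  have hScard : S.card = 21 := by
    rw [hS, List.toFinset_card_of_nodup]
    · simp [hK, baseLines]
    · refine List.Nodup.map_on (fun x hx y hy exy => ?_) hnd'
      obtain ⟨a, ha, rfl⟩ := List.mem_map.mp hx
      obtain ⟨b, hb, rfl⟩ := List.mem_map.mp hy
      obtain ⟨u, -, hu⟩ := hlin a ha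
      obtain ⟨v, -, hv⟩ := hlin b hb
      rw [← hu, ← hv, set21_mk, set21_mk] at exy
      rw [← hu, ← hv, exy]
  have heq := Set.eq_of_subset_of_ncard_le hSsub (by rw [hcount, Set.ncard_coe_finset, hScard]) (Set.toFinite _)
  have hstd : planeStd.Nodup ∧ planeStd.length = 21 := by decide +kernel
  refine Set.eq_of_subset_of_ncard_le (fun b hb => ?_) ?_ (Set.toFinite _)
  · rw [← heq] at hb
    simp only [hS, List.coe_toFinset, List.mem_map, Set.mem_ofPred_eq] at hb
    obtain ⟨_, ⟨m, hm, rfl⟩, rfl⟩ := hb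
    obtain ⟨d, -, hdm⟩ := hlin m hm
    show mk21 (set21 _) ∈ planeStd
    rw [← hdm, set21_mk, hdm]
    exact hQ m hm
  · rw [hcount]
    have : ({b | mk21 b ∈ planeStd} : Set (Finset (Fin 21))) ⊆ ↑(planeStd.map set21).toFinset := fun b hb => by
      simp only [List.coe_toFinset, List.mem_map, Set.mem_ofPred_eq]; exact ⟨_, hb, set21_mk b⟩
    refine (Set.ncard_le_ncard this (Set.toFinite _)).trans ?_
    rw [Set.ncard_coe_finset]
    exact (List.toFinset_card_le _).trans (by rw [List.length_map, hstd.2])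

theorem iso {α β : Type*} [Fintype α] [DecidableEq α] [Fintype β] [DecidableEq β] (hα : Fintype.card α = 21)
    (hβ : Fintype.card β = 21) {L : Set (Finset α)} {L' : Set (Finset β)} (hL : IsSteinerSystem 2 5 L)
    (hL' : IsSteinerSystem 2 5 L') : SetSystemIso L L' := by
  obtain ⟨e, he⟩ := standard hα hL
  obtain ⟨e', he'⟩ := standard hβ hL'
  refine ⟨e.symm.trans e', Set.ext fun c => ?_⟩
  have key : pullP e L = pullP e' L' := he.trans he'.symm
  constructor
  · rintro ⟨b, hb, rfl⟩
    have h : b.image e.symm ∈ pullP e L := by show _ ∈ L; rw [image_image]; simpa using hb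
    rw [key] at h
    have h' : (b.image e.symm).image e' ∈ L' := h
    rwa [image_image] at h'
  · intro hc
    have h : c.image e'.symm ∈ pullP e' L' := by show _ ∈ L'; rw [image_image]; simpa using hc
    rw [← key] at h
    refine ⟨_, h, ?_⟩
    show ((c.image e'.symm).image e).image (e.symm.trans e') = c
    rw [image_image, image_image]
    simp [Function.comp_def]

end Cfsg.Agent.Steiner.PlaneFour
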