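import Cfsg.Agent.Lib.Steiner.PlaneFour

/-! Hyperovals of the projective plane of order four. -/

set_option autoImplicit false
set_option maxRecDepth 100000

namespace Cfsg.Agent.Steiner.PlaneFour

open Cfsg Finset

/-- hyperovals of the standard plane -/
def hypList : List ℕ := [1656, 1926, 2740, 2890, 3276, 3378, 4818, 4908, 5290, 5460, 6246, 6552, 24684, 24978, 26132, 27808, 29504, 30730, 41144, 41286, 42688, 43532, 46098, 47392, 49364, 49450, 51808, 52248, 53766, 54656, 73930, 74036, 76672, 76806, 78360, 78944, 82086, 82264, 83744, 84498, 87052, 88256, 98418, 98700, 99850, 101696, 103072, 104468, 140357, 141449, 143633, 148049, 148521, 151683, 164485, 165123, 165937, 197385, 198723, 200741, 270921, 271409, 272643, 279077, 280721, 282889, 296073, 297029, 299043, 328323, 328965, 331857, 393332, 393610, 394764, 395968, 398624, 399378, 417816, 437248, 442528, 467264, 479744, 491526, 533137, 534565, 536643, 541443, 541829, 542793, 557609, 558161, 561413, 590883, 592145, 594057, 655532, 655698, 657944, 658528, 660352, 660486, 680128,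 696340, 706048, 735232, 737290, 753952, 786648, 786726, 788128, 789524, 791050, 792896, 813568, 827488, 835596, 860178, 868736, 889856, 1057541, 1057923, 1060905, 1066257, 1067043, 1069125, 1081923, 1083657, 1085585, 1114673, 1115209, 1116293, 1179846, 1179960, 1181504, 1182730, 1184276, 1185952, 1209344, 1220992, 1228818, 1253388, 1261664, 1280512, 1310898, 1311052, 1313286, 1314176, 1315424, 1315864, 1335584, 1351690, 1366016, 1385984, 1392660, 1409216, 1572970, 1573268, 1574418, 1575712, 1578176, 1579020, 1597446, 1618432, 1622336, 1646752, 1657856, 1671192]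

/-- joining lines -/
def joinTab : List (List ℕ) := [[0, 31, 31, 31, 31, 481, 481, 481, 481, 7681, 7681, 7681, 7681, 122881, 122881, 122881, 122881, 1966081, 1966081, 1966081, 1966081], [31, 0, 31, 31, 31, 139810, 279618, 559234, 1118466, 139810, 279618, 559234, 1118466, 139810, 279618, 559234, 1118466, 139810, 279618, 559234, 1118466], [31, 31, 0, 31, 31, 1082404, 590404, 274564, 149764, 590404, 1082404, 149764, 274564, 274564, 149764, 1082404, 590404, 149764, 274564, 590404, 1082404], [31, 31, 31, 0, 31, 329768, 168008, 1065608, 533768, 1065608, 533768, 329768, 168008, 533768, 1065608, 168008, 329768, 168008, 329768, 533768, 1065608], [31, 31, 31, 31, 0, 544816, 1058896, 197776, 295696, 295696, 197776, 1058896, 544816, 1058896, 544816, 295696, 197776, 197776, 295696, 544816, 1058896], [481, 139810, 1082404, 329768, 544816, 0, 481, 481, 481, 139810, 1082404, 329768, 544816, 139810, 544816, 1082404, 329768, 139810, 329768, 544816, 1082404], [481, 279618, 590404, 168008, 1058896, 481, 0, 481, 481, 590404, 279618, 1058896, 168008, 1058896,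 279618, 168008, 590404, 168008, 279618, 590404, 1058896], [481, 559234, 274564, 1065608, 197776, 481, 481, 0, 481, 1065608, 197776, 559234, 274564, 274564, 1065608, 559234, 197776, 197776, 274564, 559234, 1065608], [481, 1118466, 149764, 533768, 295696, 481, 481, 481, 0, 295696, 533768, 149764, 1118466, 533768, 149764, 295696, 1118466, 149764, 295696, 533768, 1118466], [7681, 139810, 590404, 1065608, 295696, 139810, 590404, 1065608, 295696, 0, 7681, 7681, 7681, 139810, 1065608, 295696, 590404, 139810, 295696, 590404, 1065608], [7681, 279618, 1082404, 533768, 197776, 1082404, 279618, 197776, 533768, 7681, 0, 7681, 7681, 533768, 279618, 1082404, 197776, 197776, 279618, 533768, 1082404], [7681, 559234, 149764, 329768, 1058896, 329768, 1058896, 559234, 149764, 7681, 7681, 0, 7681, 1058896, 149764, 559234, 329768, 149764, 329768, 559234, 1058896], [7681, 1118466, 274564, 168008, 544816, 544816, 168008, 274564, 1118466, 7681, 7681, 7681, 0, 274564, 544816, 168008, 1118466, 168008, 274564, 544816, 1118466], [122881, 139810, 274564, 533768,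 1058896, 139810, 1058896, 274564, 533768, 139810, 533768, 1058896, 274564, 0, 122881, 122881, 122881, 139810, 274564, 533768, 1058896], [122881, 279618, 149764, 1065608, 544816, 544816, 279618, 1065608, 149764, 1065608, 279618, 149764, 544816, 122881, 0, 122881, 122881, 149764, 279618, 544816, 1065608], [122881, 559234, 1082404, 168008, 295696, 1082404, 168008, 559234, 295696, 295696, 1082404, 559234, 168008, 122881, 122881, 0, 122881, 168008, 295696, 559234, 1082404], [122881, 1118466, 590404, 329768, 197776, 329768, 590404, 197776, 1118466, 590404, 197776, 329768, 1118466, 122881, 122881, 122881, 0, 197776, 329768, 590404, 1118466], [1966081, 139810, 149764, 168008, 197776, 139810, 168008, 197776, 149764, 139810, 197776, 149764, 168008, 139810, 149764, 168008, 197776, 0, 1966081, 1966081, 1966081], [1966081, 279618, 274564, 329768, 295696, 329768, 279618, 274564, 295696, 295696, 279618, 329768, 274564, 274564, 279618, 295696, 329768, 1966081, 0, 1966081, 1966081], [1966081, 559234, 590404, 533768, 544816, 544816, 590404, 559234, 533768,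 590404, 533768, 559234, 544816, 533768, 544816, 559234, 590404, 1966081, 1966081, 0, 1966081], [1966081, 1118466, 1082404, 1065608, 1058896, 1082404, 1058896, 1065608, 1118466, 1065608, 1082404, 1058896, 1118466, 1058896, 1065608, 1082404, 1118466, 1966081, 1966081, 1966081, 0]]

/-- the line joining two points -/
def joinAt (a b : Fin 21) : ℕ := (joinTab.getD a.val []).getD b.val 0

theorem joinAt_ok : ∀ a b : Fin 21, a < b → joinAt a b ∈ planeStd ∧ (joinAt a b).testBit a.val = true ∧ (joinAt a b).testBit b.val = true := by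
  decide +kernel

/-- union of the six joining lines -/
def joinSix (a b c d : Fin 21) : ℕ := joinAt a b ||| joinAt a c ||| joinAt a d ||| joinAt b c ||| joinAt b d ||| joinAt c d

/-- the hyperoval through four points -/
def ovalOf (a b c d : Fin 21) : ℕ :=
  (2 ^ a.val ||| 2 ^ b.val ||| 2 ^ c.val ||| 2 ^ d.val) ||| ((2 ^ 21 - 1) ^^^ joinSix a b c d)

theorem four_check : ((List.finRange 21).all fun a => (List.finRange 21).all fun b => !decide (a.val < b.val) ||
    (List.finRange 21).all fun c => !decide (b.val < c.val) || (joinAt a b).testBit c.val ||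
    (List.finRange 21).all fun d => !decide (c.val < d.val) || (joinAt a b).testBit d.val || (joinAt a c).testBit d.val ||
      (joinAt b c).testBit d.val || hypList.contains (ovalOf a b c d)) = true := by decide +kernel

theorem hyp_good : (hypList.all fun h => decide ((set21 h).card = 6) && decide (h < 2 ^ 21) &&
    planeStd.all fun l => decide (((List.range 21).countP fun i => h.testBit i && l.testBit i) ≤ 2)) = true := by decide +kernel

theorem hyp_nodup : hypList.Nodup ∧ hypList.length = 168 := by decide +kernel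

theorem count_mk (s t : Finset (Fin 21)) :
    ((List.range 21).countP fun i => (mk21 s).testBit i && (mk21 t).testBit i) = (s ∩ t).card := by
  rw [show List.range 21 = (List.finRange 21).map Fin.val from by decide, List.countP_map,
    List.countP_eq_length_filter, ← List.toFinset_card_of_nodup ((List.nodup_finRange 21).filter _)]
  refine congrArg Finset.card ?_
  ext i
  simp [mk21_bit]

theorem mk21_set {m : ℕ} (h : m < 2 ^ 21) : mk21 (set21 m) = m := by
  refine Nat.eq_of_testBit_eq fun i => ?_
  by_cases hi : i < 21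
  · have := mk21_bit (set21 m) ⟨i, hi⟩
    simp only at this
    rw [this]
    simp [set21]
  · rw [Nat.testBit_eq_false_of_lt (lt_of_lt_of_le h (Nat.pow_le_pow_right (by norm_num) (not_lt.mp hi))),
      Nat.testBit_eq_false_of_lt (show mk21 (set21 m) < 2 ^ i from lt_of_lt_of_le (Nat.ofBits_lt_two_pow _) (Nat.pow_le_pow_right (by norm_num) (not_lt.mp hi)))]

/-- the standard lines -/
def stdLines : Set (Finset (Fin 21)) := {b | mk21 b ∈ planeStd}

theorem std_line : ∀ l ∈ planeStd, l < 2 ^ 21 := by decide +kernel

/-- independence -/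
def Indep {α : Type*} [DecidableEq α] (L : Set (Finset α)) (n : ℕ) (S : Finset α) : Prop := S.card = n ∧ ∀ l ∈ L, (l ∩ S).card ≤ 2

theorem hyp_indep {h : ℕ} (hh : h ∈ hypList) : Indep stdLines 6 (set21 h) := by
  have := List.all_eq_true.mp hyp_good h hh
  simp only [Bool.and_eq_true, decide_eq_true_eq, List.all_eq_true] at this
  refine ⟨this.1.1, fun l hl => ?_⟩
  have h2 := this.2 _ hl
  rw [show h = mk21 (set21 h) from (mk21_set this.1.2).symm, count_mk] at h2
  rwa [inter_comm]

theorem not_third {S : Finset (Fin 21)} (hS : ∀ l ∈ stdLines, (l ∩ S).card ≤ 2) {a b x : Fin 21} (hab : a < b)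
    (ha : a ∈ S) (hb : b ∈ S) (hx : x ∈ S) (hxa : x ≠ a) (hxb : x ≠ b) : (joinAt a b).testBit x.val = false := by
  by_contra h
  rw [Bool.not_eq_false] at h
  obtain ⟨hm, h1, h2⟩ := joinAt_ok a b hab
  have hl : set21 (joinAt a b) ∈ stdLines := by
    show mk21 _ ∈ planeStd
    rw [mk21_set (std_line _ hm)]; exact hm
  have hsub : ({a, b, x} : Finset (Fin 21)) ⊆ set21 (joinAt a b) ∩ S := by
    simp [insert_subset_iff, set21, h1, h2, h, ha, hb, hx]
  have := (card_le_card hsub).trans (hS _ hl)
  rw [card_eq_three.mpr ⟨a, b, x, hab.ne, hxa.symm, hxb.symm, rfl⟩] at this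
  omega

theorem four_oval {S : Finset (Fin 21)} (hS : Indep stdLines 4 S) :
    ∃ h ∈ hypList, S ⊆ set21 h ∧ ∀ H, (∀ l ∈ stdLines, (l ∩ H).card ≤ 2) → S ⊆ H → H ⊆ set21 h := by
  obtain ⟨hc, hl⟩ := hS
  let f := S.orderEmbOfFin hc
  have hm : ∀ i, f i ∈ S := fun i => orderEmbOfFin_mem S hc i
  have h01 : f 0 < f 1 := f.strictMono (by decide)
  have h02 : f 0 < f 2 := f.strictMono (by decide)
  have h12 : f 1 < f 2 := f.strictMono (by decide)
  have h03 : f 0 < f 3 := f.strictMono (by decide)
  have h13 : f 1 < f 3 := f.strictMono (by decide)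
  have h23 : f 2 < f 3 := f.strictMono (by decide)
  have hh := four_check
  simp only [List.all_eq_true, Bool.or_eq_true, Bool.not_eq_true', decide_eq_false_iff_not, List.contains_eq_mem, decide_eq_true_eq] at hh
  have h1 := ((hh (f 0) (List.mem_finRange _) (f 1) (List.mem_finRange _)).resolve_left (not_not.mpr h01)) (f 2) (List.mem_finRange _)
  have hc2 := not_third hl h01 (hm 0) (hm 1) (hm 2) h02.ne' h12.ne'
  simp only [hc2, Bool.false_eq_true, or_false, not_not.mpr (show (f 1).val < (f 2).val from h12), false_or] at h1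
  have h2 := h1 (f 3) (List.mem_finRange _)
  simp only [not_third hl h01 (hm 0) (hm 1) (hm 3) h03.ne' h13.ne', not_third hl h02 (hm 0) (hm 2) (hm 3) h03.ne' h23.ne',
    not_third hl h12 (hm 1) (hm 2) (hm 3) h13.ne' h23.ne', Bool.false_eq_true, or_false, not_not.mpr (show (f 2).val < (f 3).val from h23), false_or] at h2
  refine ⟨_, h2, ?_, ?_⟩
  · intro x hx
    have : x ∈ Set.range f := by rw [range_orderEmbOfFin]; exact hx
    obtain ⟨i, rfl⟩ := this
    fin_cases i <;> simp [set21, ovalOf, Nat.testBit_two_pow]
  · intro H hH hSH x hx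
    simp only [set21, mem_filter, mem_univ, true_and, ovalOf, Nat.testBit_or, Nat.testBit_xor, Nat.testBit_two_pow_sub_one,
      Nat.testBit_two_pow, Bool.or_eq_true, decide_eq_true_eq]
    by_contra hno
    push Not at hno
    obtain ⟨⟨⟨⟨n0, n1⟩, n2⟩, n3⟩, n4⟩ := hno
    have e : ∀ i, (f i).val ≠ x.val → x ≠ f i := fun i h e => h (by rw [e])
    have hbit : ∀ i j, f i < f j → x ≠ f i → x ≠ f j → (joinAt (f i) (f j)).testBit x.val = false := fun i j h u v =>
      not_third hH h (hSH (hm i)) (hSH (hm j)) hx u v
    apply n4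
    simp [joinSix, x.isLt, hbit 0 1 h01 (e 0 n0) (e 1 n1), hbit 0 2 h02 (e 0 n0) (e 2 n2), hbit 0 3 h03 (e 0 n0) (e 3 n3),
      hbit 1 2 h12 (e 1 n1) (e 2 n2), hbit 1 3 h13 (e 1 n1) (e 3 n3), hbit 2 3 h23 (e 2 n2) (e 3 n3)]

theorem oval_counts : {S | Indep stdLines 4 S}.ncard = 2520 ∧ {H | Indep stdLines 6 H}.ncard = 168 ∧
    ∀ S, Indep stdLines 4 S → ∃! H, Indep stdLines 6 H ∧ S ⊆ H := by
  classical
  have huniq : ∀ S, Indep stdLines 4 S → ∃! H, Indep stdLines 6 H ∧ S ⊆ H := by
    intro S hS
    obtain ⟨h, hh, hsub, hmax⟩ := four_oval hS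
    refine ⟨set21 h, ⟨hyp_indep hh, hsub⟩, fun H hH => ?_⟩
    exact eq_of_subset_of_card_le (hmax H hH.1.2 hH.2) (by rw [(hyp_indep hh).1, hH.1.1])
  let T := (hypList.map set21).toFinset
  have hT : ∀ H, Indep stdLines 6 H ↔ H ∈ T := by
    intro H
    simp only [T, List.mem_toFinset, List.mem_map]
    refine ⟨fun hH => ?_, fun ⟨h, hh, e⟩ => e ▸ hyp_indep hh⟩
    obtain ⟨S, hSH, hS⟩ := exists_subset_card_eq (s := H) (n := 4) (by rw [hH.1]; norm_num)
    obtain ⟨h, hh, -, hmax⟩ := four_oval ⟨hS, fun l hl => (card_le_card (inter_subset_inter_left hSH)).trans (hH.2 l hl)⟩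
    exact ⟨h, hh, (eq_of_subset_of_card_le (hmax H hH.2 hSH) (by rw [(hyp_indep hh).1, hH.1])).symm⟩
  have hTc : T.card = 168 := by
    rw [List.toFinset_card_of_nodup, List.length_map, hyp_nodup.2]
    refine List.Nodup.map_on (fun x hx y hy e => ?_) hyp_nodup.1
    have hx' := List.all_eq_true.mp hyp_good x hx
    have hy' := List.all_eq_true.mp hyp_good y hy
    simp only [Bool.and_eq_true, decide_eq_true_eq] at hx' hy'
    rw [← mk21_set hx'.1.2, ← mk21_set hy'.1.2, e]
  refine ⟨?_, ?_, huniq⟩
  · have he : {S | Indep stdLines 4 S} = ↑(T.biUnion fun H => H.powersetCard 4) := by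
      ext S
      simp only [Set.mem_ofPred_eq, coe_biUnion, Set.mem_iUnion, Finset.mem_coe, mem_powersetCard, exists_prop]
      constructor
      · intro hS
        obtain ⟨H, ⟨hH, hsub⟩, -⟩ := huniq S hS
        exact ⟨H, (hT H).mp hH, hsub, hS.1⟩
      · rintro ⟨H, hH, hsub, hS⟩
        exact ⟨hS, fun l hl => (card_le_card (inter_subset_inter_left hsub)).trans (((hT H).mpr hH).2 l hl)⟩
    rw [he, Set.ncard_coe_finset, card_biUnion]
    · rw [sum_congr rfl (fun H hH => by rw [card_powersetCard, ((hT H).mpr hH).1]), sum_const, hTc]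
      rfl
    · intro H hH K hK hne
      refine Finset.disjoint_left.mpr fun S h1 h2 => hne ?_
      simp only [mem_powersetCard] at h1 h2
      exact (huniq S ⟨h1.2, fun l hl => (card_le_card (inter_subset_inter_left h1.1)).trans (((hT H).mpr hH).2 l hl)⟩).unique
        ⟨(hT H).mpr hH, h1.1⟩ ⟨(hT K).mpr hK, h2.1⟩
  · rw [show {H | Indep stdLines 6 H} = ↑T from Set.ext fun H => hT H, Set.ncard_coe_finset, hTc]

theorem indep_image {α : Type*} [DecidableEq α] (e : Fin 21 ≃ α) (L : Set (Finset α)) (n : ℕ) (S : Finset (Fin 21)) :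
    Indep L n (S.image e) ↔ Indep (pullP e L) n S := by
  unfold Indep
  rw [card_image_of_injective _ e.injective]
  refine and_congr_right fun _ => ⟨fun h b hb => ?_, fun h l hl => ?_⟩
  · rw [← card_image_of_injective (b ∩ S) e.injective, image_inter _ _ e.injective]
    exact h _ hb
  · have hl' : (l.image e.symm).image e = l := by rw [image_image]; simp
    rw [← hl', ← image_inter _ _ e.injective, card_image_of_injective _ e.injective]
    exact h _ (show (l.image e.symm).image e ∈ L by rw [hl']; exact hl)

theorem counts {α : Type*} [Fintype α] [DecidableEq α] (hα : Fintype.card α = 21) {L : Set (Finset α)}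
    (hL : IsSteinerSystem 2 5 L) : {S | Indep L 4 S}.ncard = 2520 ∧ {H | Indep L 6 H}.ncard = 168 ∧
    ∀ S, Indep L 4 S → ∃! H, Indep L 6 H ∧ S ⊆ H := by
  obtain ⟨e, he⟩ := standard hα hL
  have hstd : pullP e L = stdLines := he
  obtain ⟨c4, c6, hu⟩ := oval_counts
  have hback : ∀ S : Finset α, (S.image e.symm).image e = S := fun S => by rw [image_image]; simp
  have key : ∀ n, {S | Indep L n S} = (fun S : Finset (Fin 21) => S.image e) '' {S | Indep stdLines n S} := by
    intro n
    ext S
    refine ⟨fun h => ⟨S.image e.symm, ?_, hback S⟩, ?_⟩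
    · show Indep stdLines n _
      rw [← hstd, ← indep_image, hback]; exact h
    · rintro ⟨T, hT, rfl⟩
      show Indep L n _
      rw [indep_image, hstd]; exact hT
  refine ⟨by rw [key, Set.ncard_image_of_injective _ (image_injective e.injective), c4],
    by rw [key, Set.ncard_image_of_injective _ (image_injective e.injective), c6], fun S hS => ?_⟩
  rw [← hback S, indep_image, hstd] at hS
  obtain ⟨H, ⟨hH, hsub⟩, huniq⟩ := hu _ hS
  refine ⟨H.image e, ⟨(indep_image e L 6 H).mpr (hstd ▸ hH), ?_⟩, fun K hK => ?_⟩
  · rw [← hback S]; exact image_subset_image hsub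
  · rw [← huniq (K.image e.symm) ⟨?_, image_subset_image hK.2⟩, hback]
    rw [← hstd, ← indep_image, hback]; exact hK.1

end Cfsg.Agent.Steiner.PlaneFour
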