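import Cfsg.Agent.Lib.Steiner.Basic

/-! Uniqueness of the Steiner system on twelve points with blocks of six, five-wise balanced. -/

set_option autoImplicit false
set_option maxRecDepth 100000

namespace Cfsg.Agent.Steiner.Twelve

open Cfsg Finset

/-- the pairs in the first six points -/
def pairQ : List ℕ := [60, 58, 54, 46, 30, 57, 53, 45, 29, 51, 43, 27, 39, 23, 15]

/-- the matchings of the last six points -/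
def matchY : List (List ℕ) := [[192, 768, 3072], [192, 1280, 2560], [192, 1536, 2304], [320, 640, 3072], [320, 1152, 2560], [320, 1536, 2176], [384, 576, 3072], [576, 1152, 2304], [576, 1280, 2176], [384, 1088, 2560], [640, 1088, 2304], [768, 1088, 2176], [384, 1536, 2112], [640, 1280, 2112], [768, 1152, 2112]]

/-- the standard choice -/
def stdL : List ℕ := [13, 11, 6, 4, 2, 7, 5, 0, 9, 1, 12, 3, 10, 14, 8]

/-- the standard system -/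
def stdBlocks : List ℕ := [63, 222, 237, 243, 347, 366, 373, 413, 427, 438, 455, 504, 591, 630, 633, 667, 679, 700, 725, 746, 791, 813, 826, 860, 867, 910, 945, 969, 978, 996, 1117, 1127, 1146, 1175, 1198, 1209, 1227, 1268, 1295, 1331, 1340, 1366, 1385, 1434, 1445, 1484, 1489, 1506, 1566, 1579, 1589, 1619, 1644, 1677, 1714, 1734, 1752, 1761, 1817, 1830, 1861, 1866, 1904, 1923, 1940, 1960, 2135, 2155, 2172, 2191, 2229, 2234, 2265, 2278, 2334, 2343, 2361, 2381, 2418, 2451, 2476, 2506, 2516, 2529, 2589, 2606, 2611, 2650, 2661, 2710, 2729, 2755, 2764, 2800, 2827, 2868, 2886, 2897, 2920, 2949, 2968, 2978, 3099, 3117, 3126, 3150, 3185, 3228, 3235, 3269, 3282, 3304, 3349, 3370, 3395, 3416, 3428, 3462, 3465, 3504, 3591, 3640, 3657, 3668, 3682, 3722, 3729, 3748, 3852, 3858, 3873, 4032]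

/-- relabellings of the last six points -/
def relab : List (List (Fin 12)) := [[10, 9, 6, 8, 7, 11],
  [8, 11, 7, 10, 6, 9],
  [7, 8, 11, 9, 10, 6],
  [9, 6, 10, 7, 11, 8],
  [6, 10, 9, 11, 8, 7],
  [11, 7, 8, 6, 9, 10],
  [8, 10, 7, 11, 6, 9],
  [11, 9, 6, 8, 7, 10],
  [6, 11, 9, 10, 8, 7],
  [10, 7, 8, 6, 9, 11],
  [7, 8, 10, 9, 11, 6],
  [9, 6, 11, 7, 10, 8],
  [10, 8, 6, 9, 7, 11],
  [9, 11, 7, 10, 6, 8],
  [7, 9, 11, 8, 10, 6],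
  [8, 6, 10, 7, 11, 9],
  [6, 10, 8, 11, 9, 7],
  [11, 7, 9, 6, 8, 10],
  [9, 10, 7, 11, 6, 8],
  [11, 8, 6, 9, 7, 10],
  [6, 11, 8, 10, 9, 7],
  [10, 7, 9, 6, 8, 11],
  [7, 9, 10, 8, 11, 6],
  [8, 6, 11, 7, 10, 9],
  [11, 6, 8, 7, 9, 10],
  [7, 10, 9, 11, 8, 6],
  [9, 7, 10, 6, 11, 8],
  [6, 8, 11, 9, 10, 7],
  [8, 11, 6, 10, 7, 9],
  [10, 9, 7, 8, 6, 11],
  [8, 7, 10, 6, 11, 9],
  [6, 9, 11, 8, 10, 7],
  [11, 6, 9, 7, 8, 10],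
  [7, 10, 8, 11, 9, 6],
  [10, 8, 7, 9, 6, 11],
  [9, 11, 6, 10, 7, 8],
  [10, 6, 8, 7, 9, 11],
  [7, 11, 9, 10, 8, 6],
  [9, 7, 11, 6, 10, 8],
  [6, 8, 10, 9, 11, 7],
  [8, 10, 6, 11, 7, 9],
  [11, 9, 7, 8, 6, 10],
  [8, 7, 11, 6, 10, 9],
  [6, 9, 10, 8, 11, 7],
  [10, 6, 9, 7, 8, 11],
  [7, 11, 8, 10, 9, 6],
  [11, 8, 7, 9, 6, 10],
  [9, 10, 6, 11, 7, 8],
  [7, 8, 11, 10, 9, 6],
  [10, 6, 9, 7, 11, 8],
  [9, 10, 6, 8, 7, 11],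
  [8, 11, 7, 9, 6, 10],
  [11, 7, 8, 6, 10, 9],
  [6, 9, 10, 11, 8, 7],
  [6, 11, 10, 9, 8, 7],
  [9, 7, 8, 6, 10, 11],
  [8, 9, 7, 11, 6, 10],
  [11, 10, 6, 8, 7, 9],
  [10, 6, 11, 7, 9, 8],
  [7, 8, 9, 10, 11, 6],
  [11, 6, 8, 7, 10, 9],
  [7, 9, 10, 11, 8, 6],
  [10, 7, 9, 6, 11, 8],
  [6, 8, 11, 10, 9, 7],
  [8, 11, 6, 9, 7, 10],
  [9, 10, 7, 8, 6, 11],
  [8, 7, 9, 6, 11, 10],
  [6, 10, 11, 8, 9, 7],
  [11, 6, 10, 7, 8, 9],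
  [7, 9, 8, 11, 10, 6],
  [9, 8, 7, 10, 6, 11],
  [10, 11, 6, 9, 7, 8],
  [9, 8, 6, 10, 7, 11],
  [10, 11, 7, 9, 6, 8],
  [7, 10, 11, 8, 9, 6],
  [8, 6, 9, 7, 11, 10],
  [6, 9, 8, 11, 10, 7],
  [11, 7, 10, 6, 8, 9],
  [10, 9, 7, 11, 6, 8],
  [11, 8, 6, 10, 7, 9],
  [6, 11, 8, 9, 10, 7],
  [9, 7, 10, 6, 8, 11],
  [7, 10, 9, 8, 11, 6],
  [8, 6, 11, 7, 9, 10],
  [7, 11, 10, 9, 8, 6],
  [9, 6, 8, 7, 10, 11],
  [8, 9, 6, 11, 7, 10],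
  [11, 10, 7, 8, 6, 9],
  [10, 7, 11, 6, 9, 8],
  [6, 8, 9, 10, 11, 7],
  [6, 10, 9, 8, 11, 7],
  [8, 7, 11, 6, 9, 10],
  [11, 8, 7, 10, 6, 9],
  [10, 9, 6, 11, 7, 8],
  [9, 6, 10, 7, 8, 11],
  [7, 11, 8, 9, 10, 6],
  [11, 6, 9, 7, 10, 8],
  [7, 8, 10, 11, 9, 6],
  [10, 7, 8, 6, 11, 9],
  [6, 9, 11, 10, 8, 7],
  [9, 11, 6, 8, 7, 10],
  [8, 10, 7, 9, 6, 11],
  [9, 7, 8, 6, 11, 10],
  [6, 10, 11, 9, 8, 7],
  [11, 6, 10, 7, 9, 8],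
  [7, 8, 9, 11, 10, 6],
  [8, 9, 7, 10, 6, 11],
  [10, 11, 6, 8, 7, 9],
  [7, 9, 11, 10, 8, 6],
  [10, 6, 8, 7, 11, 9],
  [8, 10, 6, 9, 7, 11],
  [9, 11, 7, 8, 6, 10],
  [11, 7, 9, 6, 10, 8],
  [6, 8, 10, 11, 9, 7],
  [6, 11, 10, 8, 9, 7],
  [8, 7, 9, 6, 10, 11],
  [9, 8, 7, 11, 6, 10],
  [11, 10, 6, 9, 7, 8],
  [10, 6, 11, 7, 8, 9],
  [7, 9, 8, 10, 11, 6],
  [7, 10, 11, 9, 8, 6],
  [9, 6, 8, 7, 11, 10],
  [8, 9, 6, 10, 7, 11],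
  [10, 11, 7, 8, 6, 9],
  [11, 7, 10, 6, 9, 8],
  [6, 8, 9, 11, 10, 7],
  [6, 11, 9, 8, 10, 7],
  [8, 7, 10, 6, 9, 11],
  [10, 8, 7, 11, 6, 9],
  [11, 9, 6, 10, 7, 8],
  [9, 6, 11, 7, 8, 10],
  [7, 10, 8, 9, 11, 6],
  [9, 8, 6, 11, 7, 10],
  [11, 10, 7, 9, 6, 8],
  [7, 11, 10, 8, 9, 6],
  [8, 6, 9, 7, 10, 11],
  [6, 9, 8, 10, 11, 7],
  [10, 7, 11, 6, 8, 9],
  [11, 9, 7, 10, 6, 8],
  [10, 8, 6, 11, 7, 9],
  [6, 10, 8, 9, 11, 7],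
  [9, 7, 11, 6, 8, 10],
  [7, 11, 9, 8, 10, 6],
  [8, 6, 10, 7, 9, 11],
  [10, 9, 6, 7, 8, 11],
  [7, 11, 8, 10, 6, 9],
  [8, 7, 11, 9, 10, 6],
  [9, 6, 10, 8, 11, 7],
  [6, 10, 9, 11, 7, 8],
  [11, 8, 7, 6, 9, 10],
  [7, 10, 8, 11, 6, 9],
  [11, 9, 6, 7, 8, 10],
  [6, 11, 9, 10, 7, 8],
  [10, 8, 7, 6, 9, 11],
  [8, 7, 10, 9, 11, 6],
  [9, 6, 11, 8, 10, 7],
  [9, 10, 8, 11, 6, 7],
  [11, 7, 6, 9, 8, 10],
  [6, 11, 7, 10, 9, 8],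
  [10, 8, 9, 6, 7, 11],
  [8, 9, 10, 7, 11, 6],
  [7, 6, 11, 8, 10, 9],
  [10, 7, 6, 9, 8, 11],
  [9, 11, 8, 10, 6, 7],
  [8, 9, 11, 7, 10, 6],
  [7, 6, 10, 8, 11, 9],
  [6, 10, 7, 11, 9, 8],
  [11, 8, 9, 6, 7, 10],
  [11, 6, 7, 8, 9, 10],
  [8, 10, 9, 11, 7, 6],
  [9, 8, 10, 6, 11, 7],
  [6, 7, 11, 9, 10, 8],
  [7, 11, 6, 10, 8, 9],
  [10, 9, 8, 7, 6, 11],
  [7, 8, 10, 6, 11, 9],
  [6, 9, 11, 7, 10, 8],
  [11, 6, 9, 8, 7, 10],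
  [8, 10, 7, 11, 9, 6],
  [10, 7, 8, 9, 6, 11],
  [9, 11, 6, 10, 8, 7],
  [10, 6, 7, 8, 9, 11],
  [8, 11, 9, 10, 7, 6],
  [9, 8, 11, 6, 10, 7],
  [6, 7, 10, 9, 11, 8],
  [7, 10, 6, 11, 8, 9],
  [11, 9, 8, 7, 6, 10],
  [7, 8, 11, 6, 10, 9],
  [6, 9, 10, 7, 11, 8],
  [10, 6, 9, 8, 7, 11],
  [8, 11, 7, 10, 9, 6],
  [11, 7, 8, 9, 6, 10],
  [9, 10, 6, 11, 8, 7],
  [8, 7, 11, 10, 9, 6],
  [10, 6, 9, 8, 11, 7],
  [9, 10, 6, 7, 8, 11],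
  [7, 11, 8, 9, 6, 10],
  [11, 8, 7, 6, 10, 9],
  [6, 9, 10, 11, 7, 8],
  [6, 11, 10, 9, 7, 8],
  [9, 8, 7, 6, 10, 11],
  [7, 9, 8, 11, 6, 10],
  [11, 10, 6, 7, 8, 9],
  [10, 6, 11, 8, 9, 7],
  [8, 7, 9, 10, 11, 6],
  [11, 6, 7, 8, 10, 9],
  [8, 9, 10, 11, 7, 6],
  [10, 8, 9, 6, 11, 7],
  [6, 7, 11, 10, 9, 8],
  [7, 11, 6, 9, 8, 10],
  [9, 10, 8, 7, 6, 11],
  [7, 8, 9, 6, 11, 10],
  [6, 10, 11, 7, 9, 8],
  [11, 6, 10, 8, 7, 9],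
  [8, 9, 7, 11, 10, 6],
  [9, 7, 8, 10, 6, 11],
  [10, 11, 6, 9, 8, 7],
  [10, 9, 8, 11, 6, 7],
  [11, 7, 6, 10, 8, 9],
  [6, 11, 7, 9, 10, 8],
  [9, 8, 10, 6, 7, 11],
  [8, 10, 9, 7, 11, 6],
  [7, 6, 11, 8, 9, 10],
  [9, 7, 6, 10, 8, 11],
  [10, 11, 8, 9, 6, 7],
  [8, 10, 11, 7, 9, 6],
  [7, 6, 9, 8, 11, 10],
  [6, 9, 7, 11, 10, 8],
  [11, 8, 10, 6, 7, 9],
  [8, 11, 10, 9, 7, 6],
  [9, 6, 7, 8, 10, 11],
  [7, 9, 6, 11, 8, 10],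
  [11, 10, 8, 7, 6, 9],
  [10, 8, 11, 6, 9, 7],
  [6, 7, 9, 10, 11, 8],
  [6, 10, 9, 7, 11, 8],
  [7, 8, 11, 6, 9, 10],
  [11, 7, 8, 10, 6, 9],
  [10, 9, 6, 11, 8, 7],
  [9, 6, 10, 8, 7, 11],
  [8, 11, 7, 9, 10, 6],
  [11, 6, 9, 8, 10, 7],
  [8, 7, 10, 11, 9, 6],
  [10, 8, 7, 6, 11, 9],
  [6, 9, 11, 10, 7, 8],
  [9, 11, 6, 7, 8, 10],
  [7, 10, 8, 9, 6, 11],
  [9, 8, 7, 6, 11, 10],
  [6, 10, 11, 9, 7, 8],
  [11, 6, 10, 8, 9, 7],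
  [8, 7, 9, 11, 10, 6],
  [7, 9, 8, 10, 6, 11],
  [10, 11, 6, 7, 8, 9],
  [8, 9, 11, 10, 7, 6],
  [10, 6, 7, 8, 11, 9],
  [7, 10, 6, 9, 8, 11],
  [9, 11, 8, 7, 6, 10],
  [11, 8, 9, 6, 10, 7],
  [6, 7, 10, 11, 9, 8],
  [6, 11, 10, 7, 9, 8],
  [7, 8, 9, 6, 10, 11],
  [9, 7, 8, 11, 6, 10],
  [11, 10, 6, 9, 8, 7],
  [10, 6, 11, 8, 7, 9],
  [8, 9, 7, 10, 11, 6],
  [8, 10, 11, 9, 7, 6],
  [9, 6, 7, 8, 11, 10],
  [7, 9, 6, 10, 8, 11],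
  [10, 11, 8, 7, 6, 9],
  [11, 8, 10, 6, 9, 7],
  [6, 7, 9, 11, 10, 8],
  [6, 11, 9, 7, 10, 8],
  [7, 8, 10, 6, 9, 11],
  [10, 7, 8, 11, 6, 9],
  [11, 9, 6, 10, 8, 7],
  [9, 6, 11, 8, 7, 10],
  [8, 10, 7, 9, 11, 6],
  [11, 9, 8, 10, 6, 7],
  [10, 7, 6, 11, 8, 9],
  [6, 10, 7, 9, 11, 8],
  [9, 8, 11, 6, 7, 10],
  [8, 11, 9, 7, 10, 6],
  [7, 6, 10, 8, 9, 11],
  [9, 7, 6, 11, 8, 10],
  [11, 10, 8, 9, 6, 7],
  [8, 11, 10, 7, 9, 6],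
  [7, 6, 9, 8, 10, 11],
  [6, 9, 7, 10, 11, 8],
  [10, 8, 11, 6, 7, 9],
  [7, 10, 9, 11, 6, 8],
  [11, 8, 6, 7, 9, 10],
  [6, 11, 8, 10, 7, 9],
  [10, 9, 7, 6, 8, 11],
  [9, 7, 10, 8, 11, 6],
  [8, 6, 11, 9, 10, 7],
  [10, 8, 6, 7, 9, 11],
  [7, 11, 9, 10, 6, 8],
  [9, 7, 11, 8, 10, 6],
  [8, 6, 10, 9, 11, 7],
  [6, 10, 8, 11, 7, 9],
  [11, 9, 7, 6, 8, 10],
  [8, 10, 9, 11, 6, 7],
  [11, 7, 6, 8, 9, 10],
  [6, 11, 7, 10, 8, 9],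
  [10, 9, 8, 6, 7, 11],
  [9, 8, 10, 7, 11, 6],
  [7, 6, 11, 9, 10, 8],
  [10, 7, 6, 8, 9, 11],
  [8, 11, 9, 10, 6, 7],
  [9, 8, 11, 7, 10, 6],
  [7, 6, 10, 9, 11, 8],
  [6, 10, 7, 11, 8, 9],
  [11, 9, 8, 6, 7, 10],
  [11, 6, 7, 9, 8, 10],
  [9, 10, 8, 11, 7, 6],
  [8, 9, 10, 6, 11, 7],
  [6, 7, 11, 8, 10, 9],
  [7, 11, 6, 10, 9, 8],
  [10, 8, 9, 7, 6, 11],
  [7, 9, 10, 6, 11, 8],
  [6, 8, 11, 7, 10, 9],
  [11, 6, 8, 9, 7, 10],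
  [9, 10, 7, 11, 8, 6],
  [10, 7, 9, 8, 6, 11],
  [8, 11, 6, 10, 9, 7],
  [10, 6, 7, 9, 8, 11],
  [9, 11, 8, 10, 7, 6],
  [8, 9, 11, 6, 10, 7],
  [6, 7, 10, 8, 11, 9],
  [7, 10, 6, 11, 9, 8],
  [11, 8, 9, 7, 6, 10],
  [7, 9, 11, 6, 10, 8],
  [6, 8, 10, 7, 11, 9],
  [10, 6, 8, 9, 7, 11],
  [9, 11, 7, 10, 8, 6],
  [11, 7, 9, 8, 6, 10],
  [8, 10, 6, 11, 9, 7],
  [9, 7, 11, 10, 8, 6],
  [10, 6, 8, 9, 11, 7],
  [8, 10, 6, 7, 9, 11],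
  [7, 11, 9, 8, 6, 10],
  [11, 9, 7, 6, 10, 8],
  [6, 8, 10, 11, 7, 9],
  [6, 11, 10, 8, 7, 9],
  [8, 9, 7, 6, 10, 11],
  [7, 8, 9, 11, 6, 10],
  [11, 10, 6, 7, 9, 8],
  [10, 6, 11, 9, 8, 7],
  [9, 7, 8, 10, 11, 6],
  [11, 6, 7, 9, 10, 8],
  [9, 8, 10, 11, 7, 6],
  [10, 9, 8, 6, 11, 7],
  [6, 7, 11, 10, 8, 9],
  [7, 11, 6, 8, 9, 10],
  [8, 10, 9, 7, 6, 11],
  [7, 9, 8, 6, 11, 10],
  [6, 10, 11, 7, 8, 9],
  [11, 6, 10, 9, 7, 8],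
  [9, 8, 7, 11, 10, 6],
  [8, 7, 9, 10, 6, 11],
  [10, 11, 6, 8, 9, 7],
  [10, 8, 9, 11, 6, 7],
  [11, 7, 6, 10, 9, 8],
  [6, 11, 7, 8, 10, 9],
  [8, 9, 10, 6, 7, 11],
  [9, 10, 8, 7, 11, 6],
  [7, 6, 11, 9, 8, 10],
  [8, 7, 6, 10, 9, 11],
  [10, 11, 9, 8, 6, 7],
  [9, 10, 11, 7, 8, 6],
  [7, 6, 8, 9, 11, 10],
  [6, 8, 7, 11, 10, 9],
  [11, 9, 10, 6, 7, 8],
  [6, 10, 8, 7, 11, 9],
  [7, 9, 11, 6, 8, 10],
  [11, 7, 9, 10, 6, 8],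
  [10, 8, 6, 11, 9, 7],
  [8, 6, 10, 9, 7, 11],
  [9, 11, 7, 8, 10, 6],
  [9, 11, 10, 8, 7, 6],
  [8, 6, 7, 9, 10, 11],
  [7, 8, 6, 11, 9, 10],
  [11, 10, 9, 7, 6, 8],
  [10, 9, 11, 6, 8, 7],
  [6, 7, 8, 10, 11, 9],
  [11, 6, 8, 9, 10, 7],
  [9, 7, 10, 11, 8, 6],
  [10, 9, 7, 6, 11, 8],
  [6, 8, 11, 10, 7, 9],
  [8, 11, 6, 7, 9, 10],
  [7, 10, 9, 8, 6, 11],
  [8, 9, 7, 6, 11, 10],
  [6, 10, 11, 8, 7, 9],
  [11, 6, 10, 9, 8, 7],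
  [9, 7, 8, 11, 10, 6],
  [7, 8, 9, 10, 6, 11],
  [10, 11, 6, 7, 9, 8],
  [9, 8, 11, 10, 7, 6],
  [10, 6, 7, 9, 11, 8],
  [7, 10, 6, 8, 9, 11],
  [8, 11, 9, 7, 6, 10],
  [11, 9, 8, 6, 10, 7],
  [6, 7, 10, 11, 8, 9],
  [6, 11, 10, 7, 8, 9],
  [7, 9, 8, 6, 10, 11],
  [8, 7, 9, 11, 6, 10],
  [11, 10, 6, 8, 9, 7],
  [10, 6, 11, 9, 7, 8],
  [9, 8, 7, 10, 11, 6],
  [6, 11, 8, 7, 10, 9],
  [7, 9, 10, 6, 8, 11],
  [10, 7, 9, 11, 6, 8],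
  [11, 8, 6, 10, 9, 7],
  [8, 6, 11, 9, 7, 10],
  [9, 10, 7, 8, 11, 6],
  [9, 10, 11, 8, 7, 6],
  [8, 6, 7, 9, 11, 10],
  [7, 8, 6, 10, 9, 11],
  [10, 11, 9, 7, 6, 8],
  [11, 9, 10, 6, 8, 7],
  [6, 7, 8, 11, 10, 9],
  [11, 8, 9, 10, 6, 7],
  [10, 7, 6, 11, 9, 8],
  [6, 10, 7, 8, 11, 9],
  [8, 9, 11, 6, 7, 10],
  [9, 11, 8, 7, 10, 6],
  [7, 6, 10, 9, 8, 11],
  [8, 7, 6, 11, 9, 10],
  [11, 10, 9, 8, 6, 7],
  [9, 11, 10, 7, 8, 6],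
  [7, 6, 8, 9, 10, 11],
  [6, 8, 7, 10, 11, 9],
  [10, 9, 11, 6, 7, 8],
  [7, 9, 10, 11, 6, 8],
  [11, 8, 6, 7, 10, 9],
  [6, 11, 8, 9, 7, 10],
  [9, 10, 7, 6, 8, 11],
  [10, 7, 9, 8, 11, 6],
  [8, 6, 11, 10, 9, 7],
  [9, 8, 6, 7, 10, 11],
  [7, 11, 10, 9, 6, 8],
  [10, 7, 11, 8, 9, 6],
  [8, 6, 9, 10, 11, 7],
  [6, 9, 8, 11, 7, 10],
  [11, 10, 7, 6, 8, 9],
  [8, 9, 10, 11, 6, 7],
  [11, 7, 6, 8, 10, 9],
  [6, 11, 7, 9, 8, 10],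
  [9, 10, 8, 6, 7, 11],
  [10, 8, 9, 7, 11, 6],
  [7, 6, 11, 10, 9, 8],
  [9, 7, 6, 8, 10, 11],
  [8, 11, 10, 9, 6, 7],
  [10, 8, 11, 7, 9, 6],
  [7, 6, 9, 10, 11, 8],
  [6, 9, 7, 11, 8, 10],
  [11, 10, 8, 6, 7, 9],
  [11, 6, 7, 10, 8, 9],
  [10, 9, 8, 11, 7, 6],
  [8, 10, 9, 6, 11, 7],
  [6, 7, 11, 8, 9, 10],
  [7, 11, 6, 9, 10, 8],
  [9, 8, 10, 7, 6, 11],
  [7, 10, 9, 6, 11, 8],
  [6, 8, 11, 7, 9, 10],
  [11, 6, 8, 10, 7, 9],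
  [10, 9, 7, 11, 8, 6],
  [9, 7, 10, 8, 6, 11],
  [8, 11, 6, 9, 10, 7],
  [7, 10, 11, 6, 9, 8],
  [6, 8, 9, 7, 11, 10],
  [9, 6, 8, 10, 7, 11],
  [10, 11, 7, 9, 8, 6],
  [11, 7, 10, 8, 6, 9],
  [8, 9, 6, 11, 10, 7],
  [9, 6, 7, 10, 8, 11],
  [10, 11, 8, 9, 7, 6],
  [8, 10, 11, 6, 9, 7],
  [6, 7, 9, 8, 11, 10],
  [7, 9, 6, 11, 10, 8],
  [11, 8, 10, 7, 6, 9],
  [6, 11, 9, 8, 7, 10],
  [8, 10, 7, 6, 9, 11],
  [7, 8, 10, 11, 6, 9],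
  [11, 9, 6, 7, 10, 8],
  [9, 6, 11, 10, 8, 7],
  [10, 7, 8, 9, 11, 6],
  [10, 7, 11, 9, 8, 6],
  [9, 6, 8, 10, 11, 7],
  [8, 9, 6, 7, 10, 11],
  [7, 11, 10, 8, 6, 9],
  [11, 10, 7, 6, 9, 8],
  [6, 8, 9, 11, 7, 10],
  [11, 6, 7, 10, 9, 8],
  [10, 8, 9, 11, 7, 6],
  [9, 10, 8, 6, 11, 7],
  [6, 7, 11, 9, 8, 10],
  [7, 11, 6, 8, 10, 9],
  [8, 9, 10, 7, 6, 11],
  [7, 10, 8, 6, 11, 9],
  [6, 9, 11, 7, 8, 10],
  [11, 6, 9, 10, 7, 8],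
  [10, 8, 7, 11, 9, 6],
  [8, 7, 10, 9, 6, 11],
  [9, 11, 6, 8, 10, 7],
  [9, 8, 10, 11, 6, 7],
  [11, 7, 6, 9, 10, 8],
  [6, 11, 7, 8, 9, 10],
  [8, 10, 9, 6, 7, 11],
  [10, 9, 8, 7, 11, 6],
  [7, 6, 11, 10, 8, 9],
  [8, 7, 6, 9, 10, 11],
  [9, 11, 10, 8, 6, 7],
  [10, 9, 11, 7, 8, 6],
  [7, 6, 8, 10, 11, 9],
  [6, 8, 7, 11, 9, 10],
  [11, 10, 9, 6, 7, 8],
  [6, 9, 8, 7, 11, 10],
  [7, 10, 11, 6, 8, 9],
  [11, 7, 10, 9, 6, 8],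
  [9, 8, 6, 11, 10, 7],
  [8, 6, 9, 10, 7, 11],
  [10, 11, 7, 8, 9, 6],
  [10, 11, 9, 8, 7, 6],
  [8, 6, 7, 10, 9, 11],
  [7, 8, 6, 11, 10, 9],
  [11, 9, 10, 7, 6, 8],
  [9, 10, 11, 6, 8, 7],
  [6, 7, 8, 9, 11, 10],
  [11, 6, 8, 10, 9, 7],
  [10, 7, 9, 11, 8, 6],
  [9, 10, 7, 6, 11, 8],
  [6, 8, 11, 9, 7, 10],
  [8, 11, 6, 7, 10, 9],
  [7, 9, 10, 8, 6, 11],
  [8, 10, 7, 6, 11, 9],
  [6, 9, 11, 8, 7, 10],
  [11, 6, 9, 10, 8, 7],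
  [10, 7, 8, 11, 9, 6],
  [7, 8, 10, 9, 6, 11],
  [9, 11, 6, 7, 10, 8],
  [6, 11, 9, 7, 8, 10],
  [7, 10, 8, 6, 9, 11],
  [8, 7, 10, 11, 6, 9],
  [11, 9, 6, 8, 10, 7],
  [9, 6, 11, 10, 7, 8],
  [10, 8, 7, 9, 11, 6],
  [10, 8, 11, 9, 7, 6],
  [9, 6, 7, 10, 11, 8],
  [7, 9, 6, 8, 10, 11],
  [8, 11, 10, 7, 6, 9],
  [11, 10, 8, 6, 9, 7],
  [6, 7, 9, 11, 8, 10],
  [6, 11, 8, 7, 9, 10],
  [7, 10, 9, 6, 8, 11],
  [9, 7, 10, 11, 6, 8],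
  [11, 8, 6, 9, 10, 7],
  [8, 6, 11, 10, 7, 9],
  [10, 9, 7, 8, 11, 6],
  [10, 9, 11, 8, 7, 6],
  [8, 6, 7, 10, 11, 9],
  [7, 8, 6, 9, 10, 11],
  [9, 11, 10, 7, 6, 8],
  [11, 10, 9, 6, 8, 7],
  [6, 7, 8, 11, 9, 10],
  [11, 8, 10, 9, 6, 7],
  [9, 7, 6, 11, 10, 8],
  [6, 9, 7, 8, 11, 10],
  [8, 10, 11, 6, 7, 9],
  [10, 11, 8, 7, 9, 6],
  [7, 6, 9, 10, 8, 11],
  [8, 7, 6, 11, 10, 9],
  [11, 9, 10, 8, 6, 7],
  [10, 11, 9, 7, 8, 6],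
  [7, 6, 8, 10, 9, 11],
  [6, 8, 7, 9, 11, 10],
  [9, 10, 11, 6, 7, 8],
  [7, 9, 11, 10, 6, 8],
  [10, 8, 6, 7, 11, 9],
  [6, 10, 8, 9, 7, 11],
  [9, 11, 7, 6, 8, 10],
  [11, 7, 9, 8, 10, 6],
  [8, 6, 10, 11, 9, 7],
  [9, 8, 6, 7, 11, 10],
  [7, 10, 11, 9, 6, 8],
  [11, 7, 10, 8, 9, 6],
  [8, 6, 9, 11, 10, 7],
  [6, 9, 8, 10, 7, 11],
  [10, 11, 7, 6, 8, 9],
  [8, 9, 11, 10, 6, 7],
  [10, 7, 6, 8, 11, 9],
  [6, 10, 7, 9, 8, 11],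
  [9, 11, 8, 6, 7, 10],
  [11, 8, 9, 7, 10, 6],
  [7, 6, 10, 11, 9, 8],
  [9, 7, 6, 8, 11, 10],
  [8, 10, 11, 9, 6, 7],
  [11, 8, 10, 7, 9, 6],
  [7, 6, 9, 11, 10, 8],
  [6, 9, 7, 10, 8, 11],
  [10, 11, 8, 6, 7, 9],
  [7, 11, 9, 6, 10, 8],
  [6, 8, 10, 7, 9, 11],
  [10, 6, 8, 11, 7, 9],
  [11, 9, 7, 10, 8, 6],
  [9, 7, 11, 8, 6, 10],
  [8, 10, 6, 9, 11, 7],
  [10, 6, 7, 11, 8, 9],
  [11, 9, 8, 10, 7, 6],
  [8, 11, 9, 6, 10, 7],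
  [6, 7, 10, 8, 9, 11],
  [7, 10, 6, 9, 11, 8],
  [9, 8, 11, 7, 6, 10],
  [7, 11, 10, 6, 9, 8],
  [6, 8, 9, 7, 10, 11],
  [9, 6, 8, 11, 7, 10],
  [11, 10, 7, 9, 8, 6],
  [10, 7, 11, 8, 6, 9],
  [8, 9, 6, 10, 11, 7],
  [9, 6, 7, 11, 8, 10],
  [11, 10, 8, 9, 7, 6],
  [8, 11, 10, 6, 9, 7],
  [6, 7, 9, 8, 10, 11],
  [7, 9, 6, 10, 11, 8],
  [10, 8, 11, 7, 6, 9],
  [6, 10, 9, 8, 7, 11],
  [8, 11, 7, 6, 9, 10],
  [7, 8, 11, 10, 6, 9],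
  [10, 9, 6, 7, 11, 8],
  [9, 6, 10, 11, 8, 7],
  [11, 7, 8, 9, 10, 6],
  [11, 7, 10, 9, 8, 6],
  [9, 6, 8, 11, 10, 7],
  [8, 9, 6, 7, 11, 10],
  [7, 10, 11, 8, 6, 9],
  [10, 11, 7, 6, 9, 8],
  [6, 8, 9, 10, 7, 11],
  [7, 11, 8, 6, 10, 9],
  [6, 9, 10, 7, 8, 11],
  [10, 6, 9, 11, 7, 8],
  [11, 8, 7, 10, 9, 6],
  [8, 7, 11, 9, 6, 10],
  [9, 10, 6, 8, 11, 7],
  [10, 6, 7, 11, 9, 8],
  [11, 8, 9, 10, 7, 6],
  [9, 11, 8, 6, 10, 7],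
  [6, 7, 10, 9, 8, 11],
  [7, 10, 6, 8, 11, 9],
  [8, 9, 11, 7, 6, 10],
  [9, 8, 11, 10, 6, 7],
  [10, 7, 6, 9, 11, 8],
  [6, 10, 7, 8, 9, 11],
  [8, 11, 9, 6, 7, 10],
  [11, 9, 8, 7, 10, 6],
  [7, 6, 10, 11, 8, 9],
  [8, 7, 6, 9, 11, 10],
  [9, 10, 11, 8, 6, 7],
  [11, 9, 10, 7, 8, 6],
  [7, 6, 8, 11, 10, 9],
  [6, 8, 7, 10, 9, 11],
  [10, 11, 9, 6, 7, 8],
  [6, 9, 8, 7, 10, 11],
  [7, 11, 10, 6, 8, 9],
  [10, 7, 11, 9, 6, 8],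
  [9, 8, 6, 10, 11, 7],
  [8, 6, 9, 11, 7, 10],
  [11, 10, 7, 8, 9, 6],
  [11, 10, 9, 8, 7, 6],
  [8, 6, 7, 11, 9, 10],
  [7, 8, 6, 10, 11, 9],
  [10, 9, 11, 7, 6, 8],
  [9, 11, 10, 6, 8, 7],
  [6, 7, 8, 9, 10, 11],
  [8, 11, 7, 6, 10, 9],
  [6, 9, 10, 8, 7, 11],
  [10, 6, 9, 11, 8, 7],
  [11, 7, 8, 10, 9, 6],
  [7, 8, 11, 9, 6, 10],
  [9, 10, 6, 7, 11, 8],
  [10, 6, 8, 11, 9, 7],
  [11, 7, 9, 10, 8, 6],
  [9, 11, 7, 6, 10, 8],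
  [6, 8, 10, 9, 7, 11],
  [8, 10, 6, 7, 11, 9],
  [7, 9, 11, 8, 6, 10],
  [6, 10, 9, 7, 8, 11],
  [7, 11, 8, 6, 9, 10],
  [8, 7, 11, 10, 6, 9],
  [10, 9, 6, 8, 11, 7],
  [9, 6, 10, 11, 7, 8],
  [11, 8, 7, 9, 10, 6],
  [11, 8, 10, 9, 7, 6],
  [9, 6, 7, 11, 10, 8],
  [7, 9, 6, 8, 11, 10],
  [8, 10, 11, 7, 6, 9],
  [10, 11, 8, 6, 9, 7],
  [6, 7, 9, 10, 8, 11],
  [6, 10, 8, 7, 9, 11],
  [7, 11, 9, 6, 8, 10],
  [9, 7, 11, 10, 6, 8],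
  [10, 8, 6, 9, 11, 7],
  [8, 6, 10, 11, 7, 9],
  [11, 9, 7, 8, 10, 6],
  [11, 9, 10, 8, 7, 6],
  [8, 6, 7, 11, 10, 9],
  [7, 8, 6, 9, 11, 10],
  [9, 10, 11, 7, 6, 8],
  [10, 11, 9, 6, 8, 7],
  [6, 7, 8, 10, 9, 11],
  [10, 8, 11, 9, 6, 7],
  [9, 7, 6, 10, 11, 8],
  [6, 9, 7, 8, 10, 11],
  [8, 11, 10, 6, 7, 9],
  [11, 10, 8, 7, 9, 6],
  [7, 6, 9, 11, 8, 10],
  [8, 7, 6, 10, 11, 9],
  [10, 9, 11, 8, 6, 7],
  [11, 10, 9, 7, 8, 6],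
  [7, 6, 8, 11, 9, 10],
  [6, 8, 7, 9, 10, 11],
  [9, 11, 10, 6, 7, 8]]

/-- all first fives -/
def fives : List (List ℕ) := [[0, 4, 8, 10, 12],
  [0, 4, 8, 12, 10],
  [0, 4, 10, 8, 12],
  [0, 4, 10, 12, 8],
  [0, 4, 12, 8, 10],
  [0, 4, 12, 10, 8],
  [0, 5, 7, 9, 13],
  [0, 5, 7, 13, 9],
  [0, 5, 9, 7, 13],
  [0, 5, 9, 13, 7],
  [0, 5, 13, 7, 9],
  [0, 5, 13, 9, 7],
  [0, 7, 5, 9, 13],
  [0, 7, 5, 13, 9],
  [0, 7, 9, 5, 13],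
  [0, 7, 9, 13, 5],
  [0, 7, 13, 5, 9],
  [0, 7, 13, 9, 5],
  [0, 8, 4, 10, 12],
  [0, 8, 4, 12, 10],
  [0, 8, 10, 4, 12],
  [0, 8, 10, 12, 4],
  [0, 8, 12, 4, 10],
  [0, 8, 12, 10, 4],
  [0, 9, 5, 7, 13],
  [0, 9, 5, 13, 7],
  [0, 9, 7, 5, 13],
  [0, 9, 7, 13, 5],
  [0, 9, 13, 5, 7],
  [0, 9, 13, 7, 5],
  [0, 10, 4, 8, 12],
  [0, 10, 4, 12, 8],
  [0, 10, 8, 4, 12],
  [0, 10, 8, 12, 4],
  [0, 10, 12, 4, 8],
  [0, 10, 12, 8, 4],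
  [0, 12, 4, 8, 10],
  [0, 12, 4, 10, 8],
  [0, 12, 8, 4, 10],
  [0, 12, 8, 10, 4],
  [0, 12, 10, 4, 8],
  [0, 12, 10, 8, 4],
  [0, 13, 5, 7, 9],
  [0, 13, 5, 9, 7],
  [0, 13, 7, 5, 9],
  [0, 13, 7, 9, 5],
  [0, 13, 9, 5, 7],
  [0, 13, 9, 7, 5],
  [1, 3, 7, 11, 12],
  [1, 3, 7, 12, 11],
  [1, 3, 11, 7, 12],
  [1, 3, 11, 12, 7],
  [1, 3, 12, 7, 11],
  [1, 3, 12, 11, 7],
  [1, 5, 6, 10, 14],
  [1, 5, 6, 14, 10],
  [1, 5, 10, 6, 14],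
  [1, 5, 10, 14, 6],
  [1, 5, 14, 6, 10],
  [1, 5, 14, 10, 6],
  [1, 6, 5, 10, 14],
  [1, 6, 5, 14, 10],
  [1, 6, 10, 5, 14],
  [1, 6, 10, 14, 5],
  [1, 6, 14, 5, 10],
  [1, 6, 14, 10, 5],
  [1, 7, 3, 11, 12],
  [1, 7, 3, 12, 11],
  [1, 7, 11, 3, 12],
  [1, 7, 11, 12, 3],
  [1, 7, 12, 3, 11],
  [1, 7, 12, 11, 3],
  [1, 10, 5, 6, 14],
  [1, 10, 5, 14, 6],
  [1, 10, 6, 5, 14],
  [1, 10, 6, 14, 5],
  [1, 10, 14, 5, 6],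
  [1, 10, 14, 6, 5],
  [1, 11, 3, 7, 12],
  [1, 11, 3, 12, 7],
  [1, 11, 7, 3, 12],
  [1, 11, 7, 12, 3],
  [1, 11, 12, 3, 7],
  [1, 11, 12, 7, 3],
  [1, 12, 3, 7, 11],
  [1, 12, 3, 11, 7],
  [1, 12, 7, 3, 11],
  [1, 12, 7, 11, 3],
  [1, 12, 11, 3, 7],
  [1, 12, 11, 7, 3],
  [1, 14, 5, 6, 10],
  [1, 14, 5, 10, 6],
  [1, 14, 6, 5, 10],
  [1, 14, 6, 10, 5],
  [1, 14, 10, 5, 6],
  [1, 14, 10, 6, 5],
  [2, 3, 8, 9, 14],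
  [2, 3, 8, 14, 9],
  [2, 3, 9, 8, 14],
  [2, 3, 9, 14, 8],
  [2, 3, 14, 8, 9],
  [2, 3, 14, 9, 8],
  [2, 4, 6, 11, 13],
  [2, 4, 6, 13, 11],
  [2, 4, 11, 6, 13],
  [2, 4, 11, 13, 6],
  [2, 4, 13, 6, 11],
  [2, 4, 13, 11, 6],
  [2, 6, 4, 11, 13],
  [2, 6, 4, 13, 11],
  [2, 6, 11, 4, 13],
  [2, 6, 11, 13, 4],
  [2, 6, 13, 4, 11],
  [2, 6, 13, 11, 4],
  [2, 8, 3, 9, 14],
  [2, 8, 3, 14, 9],
  [2, 8, 9, 3, 14],
  [2, 8, 9, 14, 3],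
  [2, 8, 14, 3, 9],
  [2, 8, 14, 9, 3],
  [2, 9, 3, 8, 14],
  [2, 9, 3, 14, 8],
  [2, 9, 8, 3, 14],
  [2, 9, 8, 14, 3],
  [2, 9, 14, 3, 8],
  [2, 9, 14, 8, 3],
  [2, 11, 4, 6, 13],
  [2, 11, 4, 13, 6],
  [2, 11, 6, 4, 13],
  [2, 11, 6, 13, 4],
  [2, 11, 13, 4, 6],
  [2, 11, 13, 6, 4],
  [2, 13, 4, 6, 11],
  [2, 13, 4, 11, 6],
  [2, 13, 6, 4, 11],
  [2, 13, 6, 11, 4],
  [2, 13, 11, 4, 6],
  [2, 13, 11, 6, 4],
  [2, 14, 3, 8, 9],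
  [2, 14, 3, 9, 8],
  [2, 14, 8, 3, 9],
  [2, 14, 8, 9, 3],
  [2, 14, 9, 3, 8],
  [2, 14, 9, 8, 3],
  [3, 1, 7, 11, 12],
  [3, 1, 7, 12, 11],
  [3, 1, 11, 7, 12],
  [3, 1, 11, 12, 7],
  [3, 1, 12, 7, 11],
  [3, 1, 12, 11, 7],
  [3, 2, 8, 9, 14],
  [3, 2, 8, 14, 9],
  [3, 2, 9, 8, 14],
  [3, 2, 9, 14, 8],
  [3, 2, 14, 8, 9],
  [3, 2, 14, 9, 8],
  [3, 7, 1, 11, 12],
  [3, 7, 1, 12, 11],
  [3, 7, 11, 1, 12],
  [3, 7, 11, 12, 1],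
  [3, 7, 12, 1, 11],
  [3, 7, 12, 11, 1],
  [3, 8, 2, 9, 14],
  [3, 8, 2, 14, 9],
  [3, 8, 9, 2, 14],
  [3, 8, 9, 14, 2],
  [3, 8, 14, 2, 9],
  [3, 8, 14, 9, 2],
  [3, 9, 2, 8, 14],
  [3, 9, 2, 14, 8],
  [3, 9, 8, 2, 14],
  [3, 9, 8, 14, 2],
  [3, 9, 14, 2, 8],
  [3, 9, 14, 8, 2],
  [3, 11, 1, 7, 12],
  [3, 11, 1, 12, 7],
  [3, 11, 7, 1, 12],
  [3, 11, 7, 12, 1],
  [3, 11, 12, 1, 7],
  [3, 11, 12, 7, 1],
  [3, 12, 1, 7, 11],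
  [3, 12, 1, 11, 7],
  [3, 12, 7, 1, 11],
  [3, 12, 7, 11, 1],
  [3, 12, 11, 1, 7],
  [3, 12, 11, 7, 1],
  [3, 14, 2, 8, 9],
  [3, 14, 2, 9, 8],
  [3, 14, 8, 2, 9],
  [3, 14, 8, 9, 2],
  [3, 14, 9, 2, 8],
  [3, 14, 9, 8, 2],
  [4, 0, 8, 10, 12],
  [4, 0, 8, 12, 10],
  [4, 0, 10, 8, 12],
  [4, 0, 10, 12, 8],
  [4, 0, 12, 8, 10],
  [4, 0, 12, 10, 8],
  [4, 2, 6, 11, 13],
  [4, 2, 6, 13, 11],
  [4, 2, 11, 6, 13],
  [4, 2, 11, 13, 6],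
  [4, 2, 13, 6, 11],
  [4, 2, 13, 11, 6],
  [4, 6, 2, 11, 13],
  [4, 6, 2, 13, 11],
  [4, 6, 11, 2, 13],
  [4, 6, 11, 13, 2],
  [4, 6, 13, 2, 11],
  [4, 6, 13, 11, 2],
  [4, 8, 0, 10, 12],
  [4, 8, 0, 12, 10],
  [4, 8, 10, 0, 12],
  [4, 8, 10, 12, 0],
  [4, 8, 12, 0, 10],
  [4, 8, 12, 10, 0],
  [4, 10, 0, 8, 12],
  [4, 10, 0, 12, 8],
  [4, 10, 8, 0, 12],
  [4, 10, 8, 12, 0],
  [4, 10, 12, 0, 8],
  [4, 10, 12, 8, 0],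
  [4, 11, 2, 6, 13],
  [4, 11, 2, 13, 6],
  [4, 11, 6, 2, 13],
  [4, 11, 6, 13, 2],
  [4, 11, 13, 2, 6],
  [4, 11, 13, 6, 2],
  [4, 12, 0, 8, 10],
  [4, 12, 0, 10, 8],
  [4, 12, 8, 0, 10],
  [4, 12, 8, 10, 0],
  [4, 12, 10, 0, 8],
  [4, 12, 10, 8, 0],
  [4, 13, 2, 6, 11],
  [4, 13, 2, 11, 6],
  [4, 13, 6, 2, 11],
  [4, 13, 6, 11, 2],
  [4, 13, 11, 2, 6],
  [4, 13, 11, 6, 2],
  [5, 0, 7, 9, 13],
  [5, 0, 7, 13, 9],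
  [5, 0, 9, 7, 13],
  [5, 0, 9, 13, 7],
  [5, 0, 13, 7, 9],
  [5, 0, 13, 9, 7],
  [5, 1, 6, 10, 14],
  [5, 1, 6, 14, 10],
  [5, 1, 10, 6, 14],
  [5, 1, 10, 14, 6],
  [5, 1, 14, 6, 10],
  [5, 1, 14, 10, 6],
  [5, 6, 1, 10, 14],
  [5, 6, 1, 14, 10],
  [5, 6, 10, 1, 14],
  [5, 6, 10, 14, 1],
  [5, 6, 14, 1, 10],
  [5, 6, 14, 10, 1],
  [5, 7, 0, 9, 13],
  [5, 7, 0, 13, 9],
  [5, 7, 9, 0, 13],
  [5, 7, 9, 13, 0],
  [5, 7, 13, 0, 9],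
  [5, 7, 13, 9, 0],
  [5, 9, 0, 7, 13],
  [5, 9, 0, 13, 7],
  [5, 9, 7, 0, 13],
  [5, 9, 7, 13, 0],
  [5, 9, 13, 0, 7],
  [5, 9, 13, 7, 0],
  [5, 10, 1, 6, 14],
  [5, 10, 1, 14, 6],
  [5, 10, 6, 1, 14],
  [5, 10, 6, 14, 1],
  [5, 10, 14, 1, 6],
  [5, 10, 14, 6, 1],
  [5, 13, 0, 7, 9],
  [5, 13, 0, 9, 7],
  [5, 13, 7, 0, 9],
  [5, 13, 7, 9, 0],
  [5, 13, 9, 0, 7],
  [5, 13, 9, 7, 0],
  [5, 14, 1, 6, 10],
  [5, 14, 1, 10, 6],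
  [5, 14, 6, 1, 10],
  [5, 14, 6, 10, 1],
  [5, 14, 10, 1, 6],
  [5, 14, 10, 6, 1],
  [6, 1, 5, 10, 14],
  [6, 1, 5, 14, 10],
  [6, 1, 10, 5, 14],
  [6, 1, 10, 14, 5],
  [6, 1, 14, 5, 10],
  [6, 1, 14, 10, 5],
  [6, 2, 4, 11, 13],
  [6, 2, 4, 13, 11],
  [6, 2, 11, 4, 13],
  [6, 2, 11, 13, 4],
  [6, 2, 13, 4, 11],
  [6, 2, 13, 11, 4],
  [6, 4, 2, 11, 13],
  [6, 4, 2, 13, 11],
  [6, 4, 11, 2, 13],
  [6, 4, 11, 13, 2],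
  [6, 4, 13, 2, 11],
  [6, 4, 13, 11, 2],
  [6, 5, 1, 10, 14],
  [6, 5, 1, 14, 10],
  [6, 5, 10, 1, 14],
  [6, 5, 10, 14, 1],
  [6, 5, 14, 1, 10],
  [6, 5, 14, 10, 1],
  [6, 10, 1, 5, 14],
  [6, 10, 1, 14, 5],
  [6, 10, 5, 1, 14],
  [6, 10, 5, 14, 1],
  [6, 10, 14, 1, 5],
  [6, 10, 14, 5, 1],
  [6, 11, 2, 4, 13],
  [6, 11, 2, 13, 4],
  [6, 11, 4, 2, 13],
  [6, 11, 4, 13, 2],
  [6, 11, 13, 2, 4],
  [6, 11, 13, 4, 2],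
  [6, 13, 2, 4, 11],
  [6, 13, 2, 11, 4],
  [6, 13, 4, 2, 11],
  [6, 13, 4, 11, 2],
  [6, 13, 11, 2, 4],
  [6, 13, 11, 4, 2],
  [6, 14, 1, 5, 10],
  [6, 14, 1, 10, 5],
  [6, 14, 5, 1, 10],
  [6, 14, 5, 10, 1],
  [6, 14, 10, 1, 5],
  [6, 14, 10, 5, 1],
  [7, 0, 5, 9, 13],
  [7, 0, 5, 13, 9],
  [7, 0, 9, 5, 13],
  [7, 0, 9, 13, 5],
  [7, 0, 13, 5, 9],
  [7, 0, 13, 9, 5],
  [7, 1, 3, 11, 12],
  [7, 1, 3, 12, 11],
  [7, 1, 11, 3, 12],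
  [7, 1, 11, 12, 3],
  [7, 1, 12, 3, 11],
  [7, 1, 12, 11, 3],
  [7, 3, 1, 11, 12],
  [7, 3, 1, 12, 11],
  [7, 3, 11, 1, 12],
  [7, 3, 11, 12, 1],
  [7, 3, 12, 1, 11],
  [7, 3, 12, 11, 1],
  [7, 5, 0, 9, 13],
  [7, 5, 0, 13, 9],
  [7, 5, 9, 0, 13],
  [7, 5, 9, 13, 0],
  [7, 5, 13, 0, 9],
  [7, 5, 13, 9, 0],
  [7, 9, 0, 5, 13],
  [7, 9, 0, 13, 5],
  [7, 9, 5, 0, 13],
  [7, 9, 5, 13, 0],
  [7, 9, 13, 0, 5],
  [7, 9, 13, 5, 0],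
  [7, 11, 1, 3, 12],
  [7, 11, 1, 12, 3],
  [7, 11, 3, 1, 12],
  [7, 11, 3, 12, 1],
  [7, 11, 12, 1, 3],
  [7, 11, 12, 3, 1],
  [7, 12, 1, 3, 11],
  [7, 12, 1, 11, 3],
  [7, 12, 3, 1, 11],
  [7, 12, 3, 11, 1],
  [7, 12, 11, 1, 3],
  [7, 12, 11, 3, 1],
  [7, 13, 0, 5, 9],
  [7, 13, 0, 9, 5],
  [7, 13, 5, 0, 9],
  [7, 13, 5, 9, 0],
  [7, 13, 9, 0, 5],
  [7, 13, 9, 5, 0],
  [8, 0, 4, 10, 12],
  [8, 0, 4, 12, 10],
  [8, 0, 10, 4, 12],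
  [8, 0, 10, 12, 4],
  [8, 0, 12, 4, 10],
  [8, 0, 12, 10, 4],
  [8, 2, 3, 9, 14],
  [8, 2, 3, 14, 9],
  [8, 2, 9, 3, 14],
  [8, 2, 9, 14, 3],
  [8, 2, 14, 3, 9],
  [8, 2, 14, 9, 3],
  [8, 3, 2, 9, 14],
  [8, 3, 2, 14, 9],
  [8, 3, 9, 2, 14],
  [8, 3, 9, 14, 2],
  [8, 3, 14, 2, 9],
  [8, 3, 14, 9, 2],
  [8, 4, 0, 10, 12],
  [8, 4, 0, 12, 10],
  [8, 4, 10, 0, 12],
  [8, 4, 10, 12, 0],
  [8, 4, 12, 0, 10],
  [8, 4, 12, 10, 0],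
  [8, 9, 2, 3, 14],
  [8, 9, 2, 14, 3],
  [8, 9, 3, 2, 14],
  [8, 9, 3, 14, 2],
  [8, 9, 14, 2, 3],
  [8, 9, 14, 3, 2],
  [8, 10, 0, 4, 12],
  [8, 10, 0, 12, 4],
  [8, 10, 4, 0, 12],
  [8, 10, 4, 12, 0],
  [8, 10, 12, 0, 4],
  [8, 10, 12, 4, 0],
  [8, 12, 0, 4, 10],
  [8, 12, 0, 10, 4],
  [8, 12, 4, 0, 10],
  [8, 12, 4, 10, 0],
  [8, 12, 10, 0, 4],
  [8, 12, 10, 4, 0],
  [8, 14, 2, 3, 9],
  [8, 14, 2, 9, 3],
  [8, 14, 3, 2, 9],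
  [8, 14, 3, 9, 2],
  [8, 14, 9, 2, 3],
  [8, 14, 9, 3, 2],
  [9, 0, 5, 7, 13],
  [9, 0, 5, 13, 7],
  [9, 0, 7, 5, 13],
  [9, 0, 7, 13, 5],
  [9, 0, 13, 5, 7],
  [9, 0, 13, 7, 5],
  [9, 2, 3, 8, 14],
  [9, 2, 3, 14, 8],
  [9, 2, 8, 3, 14],
  [9, 2, 8, 14, 3],
  [9, 2, 14, 3, 8],
  [9, 2, 14, 8, 3],
  [9, 3, 2, 8, 14],
  [9, 3, 2, 14, 8],
  [9, 3, 8, 2, 14],
  [9, 3, 8, 14, 2],
  [9, 3, 14, 2, 8],
  [9, 3, 14, 8, 2],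
  [9, 5, 0, 7, 13],
  [9, 5, 0, 13, 7],
  [9, 5, 7, 0, 13],
  [9, 5, 7, 13, 0],
  [9, 5, 13, 0, 7],
  [9, 5, 13, 7, 0],
  [9, 7, 0, 5, 13],
  [9, 7, 0, 13, 5],
  [9, 7, 5, 0, 13],
  [9, 7, 5, 13, 0],
  [9, 7, 13, 0, 5],
  [9, 7, 13, 5, 0],
  [9, 8, 2, 3, 14],
  [9, 8, 2, 14, 3],
  [9, 8, 3, 2, 14],
  [9, 8, 3, 14, 2],
  [9, 8, 14, 2, 3],
  [9, 8, 14, 3, 2],
  [9, 13, 0, 5, 7],
  [9, 13, 0, 7, 5],
  [9, 13, 5, 0, 7],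
  [9, 13, 5, 7, 0],
  [9, 13, 7, 0, 5],
  [9, 13, 7, 5, 0],
  [9, 14, 2, 3, 8],
  [9, 14, 2, 8, 3],
  [9, 14, 3, 2, 8],
  [9, 14, 3, 8, 2],
  [9, 14, 8, 2, 3],
  [9, 14, 8, 3, 2],
  [10, 0, 4, 8, 12],
  [10, 0, 4, 12, 8],
  [10, 0, 8, 4, 12],
  [10, 0, 8, 12, 4],
  [10, 0, 12, 4, 8],
  [10, 0, 12, 8, 4],
  [10, 1, 5, 6, 14],
  [10, 1, 5, 14, 6],
  [10, 1, 6, 5, 14],
  [10, 1, 6, 14, 5],
  [10, 1, 14, 5, 6],
  [10, 1, 14, 6, 5],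
  [10, 4, 0, 8, 12],
  [10, 4, 0, 12, 8],
  [10, 4, 8, 0, 12],
  [10, 4, 8, 12, 0],
  [10, 4, 12, 0, 8],
  [10, 4, 12, 8, 0],
  [10, 5, 1, 6, 14],
  [10, 5, 1, 14, 6],
  [10, 5, 6, 1, 14],
  [10, 5, 6, 14, 1],
  [10, 5, 14, 1, 6],
  [10, 5, 14, 6, 1],
  [10, 6, 1, 5, 14],
  [10, 6, 1, 14, 5],
  [10, 6, 5, 1, 14],
  [10, 6, 5, 14, 1],
  [10, 6, 14, 1, 5],
  [10, 6, 14, 5, 1],
  [10, 8, 0, 4, 12],
  [10, 8, 0, 12, 4],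
  [10, 8, 4, 0, 12],
  [10, 8, 4, 12, 0],
  [10, 8, 12, 0, 4],
  [10, 8, 12, 4, 0],
  [10, 12, 0, 4, 8],
  [10, 12, 0, 8, 4],
  [10, 12, 4, 0, 8],
  [10, 12, 4, 8, 0],
  [10, 12, 8, 0, 4],
  [10, 12, 8, 4, 0],
  [10, 14, 1, 5, 6],
  [10, 14, 1, 6, 5],
  [10, 14, 5, 1, 6],
  [10, 14, 5, 6, 1],
  [10, 14, 6, 1, 5],
  [10, 14, 6, 5, 1],
  [11, 1, 3, 7, 12],
  [11, 1, 3, 12, 7],
  [11, 1, 7, 3, 12],
  [11, 1, 7, 12, 3],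
  [11, 1, 12, 3, 7],
  [11, 1, 12, 7, 3],
  [11, 2, 4, 6, 13],
  [11, 2, 4, 13, 6],
  [11, 2, 6, 4, 13],
  [11, 2, 6, 13, 4],
  [11, 2, 13, 4, 6],
  [11, 2, 13, 6, 4],
  [11, 3, 1, 7, 12],
  [11, 3, 1, 12, 7],
  [11, 3, 7, 1, 12],
  [11, 3, 7, 12, 1],
  [11, 3, 12, 1, 7],
  [11, 3, 12, 7, 1],
  [11, 4, 2, 6, 13],
  [11, 4, 2, 13, 6],
  [11, 4, 6, 2, 13],
  [11, 4, 6, 13, 2],
  [11, 4, 13, 2, 6],
  [11, 4, 13, 6, 2],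
  [11, 6, 2, 4, 13],
  [11, 6, 2, 13, 4],
  [11, 6, 4, 2, 13],
  [11, 6, 4, 13, 2],
  [11, 6, 13, 2, 4],
  [11, 6, 13, 4, 2],
  [11, 7, 1, 3, 12],
  [11, 7, 1, 12, 3],
  [11, 7, 3, 1, 12],
  [11, 7, 3, 12, 1],
  [11, 7, 12, 1, 3],
  [11, 7, 12, 3, 1],
  [11, 12, 1, 3, 7],
  [11, 12, 1, 7, 3],
  [11, 12, 3, 1, 7],
  [11, 12, 3, 7, 1],
  [11, 12, 7, 1, 3],
  [11, 12, 7, 3, 1],
  [11, 13, 2, 4, 6],
  [11, 13, 2, 6, 4],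
  [11, 13, 4, 2, 6],
  [11, 13, 4, 6, 2],
  [11, 13, 6, 2, 4],
  [11, 13, 6, 4, 2],
  [12, 0, 4, 8, 10],
  [12, 0, 4, 10, 8],
  [12, 0, 8, 4, 10],
  [12, 0, 8, 10, 4],
  [12, 0, 10, 4, 8],
  [12, 0, 10, 8, 4],
  [12, 1, 3, 7, 11],
  [12, 1, 3, 11, 7],
  [12, 1, 7, 3, 11],
  [12, 1, 7, 11, 3],
  [12, 1, 11, 3, 7],
  [12, 1, 11, 7, 3],
  [12, 3, 1, 7, 11],
  [12, 3, 1, 11, 7],
  [12, 3, 7, 1, 11],
  [12, 3, 7, 11, 1],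
  [12, 3, 11, 1, 7],
  [12, 3, 11, 7, 1],
  [12, 4, 0, 8, 10],
  [12, 4, 0, 10, 8],
  [12, 4, 8, 0, 10],
  [12, 4, 8, 10, 0],
  [12, 4, 10, 0, 8],
  [12, 4, 10, 8, 0],
  [12, 7, 1, 3, 11],
  [12, 7, 1, 11, 3],
  [12, 7, 3, 1, 11],
  [12, 7, 3, 11, 1],
  [12, 7, 11, 1, 3],
  [12, 7, 11, 3, 1],
  [12, 8, 0, 4, 10],
  [12, 8, 0, 10, 4],
  [12, 8, 4, 0, 10],
  [12, 8, 4, 10, 0],
  [12, 8, 10, 0, 4],
  [12, 8, 10, 4, 0],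
  [12, 10, 0, 4, 8],
  [12, 10, 0, 8, 4],
  [12, 10, 4, 0, 8],
  [12, 10, 4, 8, 0],
  [12, 10, 8, 0, 4],
  [12, 10, 8, 4, 0],
  [12, 11, 1, 3, 7],
  [12, 11, 1, 7, 3],
  [12, 11, 3, 1, 7],
  [12, 11, 3, 7, 1],
  [12, 11, 7, 1, 3],
  [12, 11, 7, 3, 1],
  [13, 0, 5, 7, 9],
  [13, 0, 5, 9, 7],
  [13, 0, 7, 5, 9],
  [13, 0, 7, 9, 5],
  [13, 0, 9, 5, 7],
  [13, 0, 9, 7, 5],
  [13, 2, 4, 6, 11],
  [13, 2, 4, 11, 6],
  [13, 2, 6, 4, 11],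
  [13, 2, 6, 11, 4],
  [13, 2, 11, 4, 6],
  [13, 2, 11, 6, 4],
  [13, 4, 2, 6, 11],
  [13, 4, 2, 11, 6],
  [13, 4, 6, 2, 11],
  [13, 4, 6, 11, 2],
  [13, 4, 11, 2, 6],
  [13, 4, 11, 6, 2],
  [13, 5, 0, 7, 9],
  [13, 5, 0, 9, 7],
  [13, 5, 7, 0, 9],
  [13, 5, 7, 9, 0],
  [13, 5, 9, 0, 7],
  [13, 5, 9, 7, 0],
  [13, 6, 2, 4, 11],
  [13, 6, 2, 11, 4],
  [13, 6, 4, 2, 11],
  [13, 6, 4, 11, 2],
  [13, 6, 11, 2, 4],
  [13, 6, 11, 4, 2],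
  [13, 7, 0, 5, 9],
  [13, 7, 0, 9, 5],
  [13, 7, 5, 0, 9],
  [13, 7, 5, 9, 0],
  [13, 7, 9, 0, 5],
  [13, 7, 9, 5, 0],
  [13, 9, 0, 5, 7],
  [13, 9, 0, 7, 5],
  [13, 9, 5, 0, 7],
  [13, 9, 5, 7, 0],
  [13, 9, 7, 0, 5],
  [13, 9, 7, 5, 0],
  [13, 11, 2, 4, 6],
  [13, 11, 2, 6, 4],
  [13, 11, 4, 2, 6],
  [13, 11, 4, 6, 2],
  [13, 11, 6, 2, 4],
  [13, 11, 6, 4, 2],
  [14, 1, 5, 6, 10],
  [14, 1, 5, 10, 6],
  [14, 1, 6, 5, 10],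
  [14, 1, 6, 10, 5],
  [14, 1, 10, 5, 6],
  [14, 1, 10, 6, 5],
  [14, 2, 3, 8, 9],
  [14, 2, 3, 9, 8],
  [14, 2, 8, 3, 9],
  [14, 2, 8, 9, 3],
  [14, 2, 9, 3, 8],
  [14, 2, 9, 8, 3],
  [14, 3, 2, 8, 9],
  [14, 3, 2, 9, 8],
  [14, 3, 8, 2, 9],
  [14, 3, 8, 9, 2],
  [14, 3, 9, 2, 8],
  [14, 3, 9, 8, 2],
  [14, 5, 1, 6, 10],
  [14, 5, 1, 10, 6],
  [14, 5, 6, 1, 10],
  [14, 5, 6, 10, 1],
  [14, 5, 10, 1, 6],
  [14, 5, 10, 6, 1],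
  [14, 6, 1, 5, 10],
  [14, 6, 1, 10, 5],
  [14, 6, 5, 1, 10],
  [14, 6, 5, 10, 1],
  [14, 6, 10, 1, 5],
  [14, 6, 10, 5, 1],
  [14, 8, 2, 3, 9],
  [14, 8, 2, 9, 3],
  [14, 8, 3, 2, 9],
  [14, 8, 3, 9, 2],
  [14, 8, 9, 2, 3],
  [14, 8, 9, 3, 2],
  [14, 9, 2, 3, 8],
  [14, 9, 2, 8, 3],
  [14, 9, 3, 2, 8],
  [14, 9, 3, 8, 2],
  [14, 9, 8, 2, 3],
  [14, 9, 8, 3, 2],
  [14, 10, 1, 5, 6],
  [14, 10, 1, 6, 5],
  [14, 10, 5, 1, 6],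
  [14, 10, 5, 6, 1],
  [14, 10, 6, 1, 5],
  [14, 10, 6, 5, 1]]

/-- the choices that do not complete -/
def badL : List (List ℕ × ℕ) := [([13, 11, 6, 4, 2, 2, 4, 11, 6, 13, 6, 4, 2, 11, 13], 203),
  ([13, 11, 6, 4, 2, 2, 11, 6, 4, 4, 13, 6, 2, 13, 11], 203),
  ([13, 11, 6, 4, 2, 4, 2, 6, 11, 13, 2, 6, 11, 4, 13], 199),
  ([13, 11, 6, 4, 2, 4, 11, 2, 6, 2, 6, 13, 13, 4, 11], 199),
  ([13, 11, 6, 4, 2, 6, 2, 11, 4, 4, 2, 13, 13, 11, 6], 199),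
  ([13, 11, 6, 4, 2, 6, 4, 2, 11, 2, 13, 4, 11, 13, 6], 199)]

/-- mask of a set of positions -/
def mk12 (s : Finset (Fin 12)) : ℕ := Nat.ofBits fun i : Fin 12 => decide (i ∈ s)

/-- the set of a mask -/
def set12 (m : ℕ) : Finset (Fin 12) := univ.filter fun i : Fin 12 => m.testBit i.val = true

/-- at least five common positions -/
def big (a b : ℕ) : Bool := decide (5 ≤ (List.range 12).countP fun i => a.testBit i && b.testBit i)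

/-- the six masks of a pair and a matching -/
def lift3 (k c : ℕ) : List ℕ := (matchY.getD c []).map fun P => pairQ.getD k 0 ||| P

/-- pairs sharing a point -/
def adjTab : List ℕ := [510, 3645, 12891, 21655, 26895, 4035, 13221, 21865, 26865, 15462, 23210, 26418, 26316, 23380, 15768]

/-- matchings without a common pair -/
def discTab : List ℕ := [14256, 23784, 27480, 23430, 15685, 26307, 27702, 14891, 22045, 25005, 20851, 12510, 3483, 2805, 1902]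

/-- the pairs of the last six points -/
def pairsY : List ℕ := [192, 320, 384, 576, 640, 768, 1088, 1152, 1280, 1536, 2112, 2176, 2304, 2560, 3072]

theorem adj_big : ∀ k t : Fin 15, (adjTab.getD k.val 0).testBit t.val = true → ∀ P ∈ pairsY,
    big (pairQ.getD k.val 0 ||| P) (pairQ.getD t.val 0 ||| P) = true ∧
      pairQ.getD k.val 0 ||| P ≠ pairQ.getD t.val 0 ||| P := by decide +kernel

theorem disc_shared : ∀ c d : Fin 15, (discTab.getD c.val 0).testBit d.val = false →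
    ∃ P ∈ pairsY, P ∈ matchY.getD c.val [] ∧ P ∈ matchY.getD d.val [] := by decide +kernel

/-- admissible next choice -/
def okNext (L : List ℕ) (c : ℕ) : Bool :=
  (List.range L.length).all fun t => !(adjTab.getD L.length 0).testBit t || (discTab.getD c 0).testBit (L.getD t 0)

/-- admissible extensions -/
def grow (S : List (List ℕ)) : List (List ℕ) := S.flatMap fun L => ((List.range 15).filter (okNext L)).map fun c => L ++ [c]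

/-- iterated extensions -/
def growN : ℕ → List (List ℕ) → List (List ℕ)
  | 0, S => S
  | n + 1, S => growN n (grow S)

theorem fives_ok : growN 5 [[]] = fives := by decide +kernel

theorem sols_ok : ((growN 10 [stdL.take 5]).all fun L => L == stdL || (badL.map Prod.fst).contains L) = true := by decide +kernel

/-- the known blocks of a choice -/
def known (L : List ℕ) : List ℕ :=
  let A := (List.range 15).flatMap fun k => lift3 k (L.getD k 0)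
  63 :: 4032 :: A ++ A.map (4095 ^^^ ·)

theorem bad_ok : (badL.all fun e => decide (((List.range 12).countP fun i => e.2.testBit i) = 5) && decide (e.2 < 4096) &&
    (List.range 12).all fun w => e.2.testBit w || (!(known e.1).contains (e.2 ||| 2 ^ w) && (known e.1).any (big (e.2 ||| 2 ^ w)))) = true := by
  decide +kernel

/-- all six-element masks -/
def combs : ℕ → ℕ → List ℕ
  | _, 0 => [0]
  | 0, _ + 1 => []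
  | n + 1, k + 1 => combs n (k + 1) ++ (combs n k).map (2 ^ n ||| ·)

theorem combs_complete : ∀ (n k m : ℕ), m < 2 ^ n → ((List.range n).countP fun i => m.testBit i) = k → m ∈ combs n k
  | n, 0, m, hm, h => by
    have : m = 0 := Nat.eq_of_testBit_eq fun i => by
      rw [Nat.zero_testBit]
      by_cases hi : i < n
      · by_contra hb
        rw [List.countP_eq_zero] at h
        exact h i (List.mem_range.mpr hi) (by simpa using hb)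
      · exact Nat.testBit_eq_false_of_lt (lt_of_lt_of_le hm (Nat.pow_le_pow_right (by norm_num) (by omega)))
    subst this
    cases n <;> simp [combs]
  | 0, k + 1, m, _, h => by simp at h
  | n + 1, k + 1, m, hm, h => by
    rw [List.range_succ, List.countP_append] at h
    simp only [combs, List.mem_append, List.mem_map]
    rw [pow_succ] at hm
    by_cases hb : m.testBit n = true
    · refine Or.inr ⟨m % 2 ^ n, combs_complete n k _ (Nat.mod_lt _ (by positivity)) ?_, ?_⟩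
      · have : List.countP (fun i => (m % 2 ^ n).testBit i) (List.range n) = List.countP (fun i => m.testBit i) (List.range n) :=
          List.countP_congr fun i hi => by simp [Nat.testBit_mod_two_pow, List.mem_range.mp hi]
        simp [hb] at h
        omega
      · refine Nat.eq_of_testBit_eq fun i => ?_
        rw [Nat.testBit_or, Nat.testBit_two_pow, Nat.testBit_mod_two_pow]
        by_cases e : n = i
        · subst e; simp [hb]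
        · rcases lt_or_gt_of_ne e with h' | h'
          · have hle : 2 ^ n * 2 ≤ 2 ^ i := by rw [← pow_succ]; exact Nat.pow_le_pow_right (by norm_num) h'
            simp [e, not_lt.mpr h'.le, Nat.testBit_eq_false_of_lt (lt_of_lt_of_le hm hle)]
          · simp [e, h']
    · have hlt : m < 2 ^ n := by
        refine Nat.lt_pow_two_of_testBit _ fun i hi => ?_
        rcases eq_or_lt_of_le hi with rfl | h'
        · simpa using hb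
        · exact Nat.testBit_eq_false_of_lt (lt_of_lt_of_le hm (by rw [← pow_succ]; exact Nat.pow_le_pow_right (by norm_num) h'))
      refine Or.inl (combs_complete n (k + 1) m hlt ?_)
      simp [hb] at h
      omega

theorem std_forced : ((combs 12 6).all fun m => stdBlocks.contains m || (!(known stdL).contains m && (known stdL).any (big m))) = true := by
  decide +kernel

theorem stdBlocks_card : stdBlocks.length = 132 ∧ stdBlocks.Nodup := by decide +kernel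

/-- pullback of a mask along a map -/
def pull12 (f : Fin 12 → Fin 12) (m : ℕ) : ℕ := Nat.ofBits fun i : Fin 12 => m.testBit (f i).val

/-- relabelling of the last six -/
def relabFn (p : List (Fin 12)) (i : Fin 12) : Fin 12 := if i.val < 6 then i else p.getD (i.val - 6) 0

theorem relab_ok : ((List.range 720).all fun n =>
    ((List.finRange 12).all fun i => (List.finRange 12).all fun j => i == j || relabFn (relab.getD n []) i != relabFn (relab.getD n []) j) &&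
    (List.range 5).all fun k => (lift3 k (stdL.getD k 0)).all fun Q =>
      ((lift3 k ((fives.getD n []).getD k 0)).map (pull12 (relabFn (relab.getD n [])))).contains Q) = true := by
  decide +kernel

theorem unique_lift : ∀ k : Fin 15, ∀ c d : Fin 15,
    ((lift3 k.val c.val).all fun a => (lift3 k.val d.val).all fun b => a == b || !big a b) = true → c = d := by
  decide +kernel

/-- pairs among the last six -/
def pairY (y z : Fin 12) : ℕ := 2 ^ y.val ||| 2 ^ z.val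

/-- second starting point -/
def secondY (z1 : Fin 12) : Fin 12 := if z1 = 7 then 8 else 7

/-- third starting point -/
def thirdY (z1 z2 : Fin 12) : Fin 12 :=
  (([7, 8, 9, 10, 11] : List (Fin 12)).filter fun y => y != z1 && y != z2 && y != secondY z1).getD 0 0

theorem find_match_expl : ∀ k : Fin 15, ∀ z1 : Fin 12, 6 < z1.val → ∀ z2 : Fin 12, 6 ≤ z2.val → z2 ≠ secondY z1 →
      (big (pairQ.getD k.val 0 ||| pairY 6 z1) (pairQ.getD k.val 0 ||| pairY (secondY z1) z2) = true ∧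
        pairQ.getD k.val 0 ||| pairY 6 z1 ≠ pairQ.getD k.val 0 ||| pairY (secondY z1) z2) ∨
      (6 ≤ (thirdY z1 z2).val ∧ ∀ z3 : Fin 12, 6 ≤ z3.val → z3 ≠ thirdY z1 z2 →
        (∃ a ∈ [pairQ.getD k.val 0 ||| pairY 6 z1, pairQ.getD k.val 0 ||| pairY (secondY z1) z2],
          big a (pairQ.getD k.val 0 ||| pairY (thirdY z1 z2) z3) = true ∧ a ≠ pairQ.getD k.val 0 ||| pairY (thirdY z1 z2) z3) ∨
        ∃ c : Fin 15, ∀ Q ∈ lift3 k.val c.val, Q ∈ [pairQ.getD k.val 0 ||| pairY 6 z1, pairQ.getD k.val 0 ||| pairY (secondY z1) z2,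
          pairQ.getD k.val 0 ||| pairY (thirdY z1 z2) z3]) := by
  decide +kernel

theorem secondY_ge : ∀ z : Fin 12, 6 ≤ (secondY z).val := by decide +kernel

theorem find_match (k : Fin 15) (z1 : Fin 12) (h1 : 6 < z1.val) :
    ∃ y2 : Fin 12, 6 ≤ y2.val ∧ ∀ z2 : Fin 12, 6 ≤ z2.val → z2 ≠ y2 →
      (big (pairQ.getD k.val 0 ||| pairY 6 z1) (pairQ.getD k.val 0 ||| pairY y2 z2) = true ∧
        pairQ.getD k.val 0 ||| pairY 6 z1 ≠ pairQ.getD k.val 0 ||| pairY y2 z2) ∨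
      ∃ y3 : Fin 12, 6 ≤ y3.val ∧ ∀ z3 : Fin 12, 6 ≤ z3.val → z3 ≠ y3 →
        (∃ a ∈ [pairQ.getD k.val 0 ||| pairY 6 z1, pairQ.getD k.val 0 ||| pairY y2 z2],
          big a (pairQ.getD k.val 0 ||| pairY y3 z3) = true ∧ a ≠ pairQ.getD k.val 0 ||| pairY y3 z3) ∨
        ∃ c : Fin 15, ∀ Q ∈ lift3 k.val c.val, Q ∈ [pairQ.getD k.val 0 ||| pairY 6 z1, pairQ.getD k.val 0 ||| pairY y2 z2,
          pairQ.getD k.val 0 ||| pairY y3 z3] :=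
  ⟨secondY z1, secondY_ge z1, fun z2 h2 hne => (find_match_expl k z1 h1 z2 h2 hne).imp_right fun h => ⟨_, h.1, h.2⟩⟩

theorem mk12_bit (s : Finset (Fin 12)) (i : Fin 12) : (mk12 s).testBit i.val = decide (i ∈ s) := by
  rw [mk12, Nat.testBit_ofBits_lt _ _ i.isLt]

theorem mk12_lt (s : Finset (Fin 12)) : mk12 s < 4096 := Nat.ofBits_lt_two_pow _

theorem set12_mk (s : Finset (Fin 12)) : set12 (mk12 s) = s := by ext i; simp [set12, mk12_bit]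

theorem count_eq (a : ℕ) : ((List.range 12).countP fun i => a.testBit i) = (set12 a).card := by
  rw [show List.range 12 = (List.finRange 12).map Fin.val from by decide, List.countP_map, List.countP_eq_length_filter,
    ← List.toFinset_card_of_nodup ((List.nodup_finRange 12).filter _)]
  congr 1
  ext i
  simp [set12]

theorem big_mk (s t : Finset (Fin 12)) : big (mk12 s) (mk12 t) = true ↔ 5 ≤ (s ∩ t).card := by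
  have h : (fun i => (mk12 s).testBit i && (mk12 t).testBit i) = fun i => ((mk12 s) &&& (mk12 t)).testBit i := by
    funext i; rw [Nat.testBit_and]
  rw [big, decide_eq_true_eq, h, count_eq]
  refine Iff.of_eq (congrArg (5 ≤ ·) (congrArg Finset.card ?_))
  ext i
  simp [set12, mk12_bit]

/-- the blocks as masks -/
def IsBlk (B : Set (Finset (Fin 12))) (m : ℕ) : Prop := ∃ b ∈ B, mk12 b = m

variable {B : Set (Finset (Fin 12))}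

theorem blk_eq (hB : IsSteinerSystem 5 6 B) {a b : ℕ} (ha : IsBlk B a) (hb : IsBlk B b) (h : big a b = true) : a = b := by
  obtain ⟨s, hs, rfl⟩ := ha
  obtain ⟨t, ht, rfl⟩ := hb
  rw [big_mk] at h
  by_contra hne
  have := inter_lt hB hs ht (fun e => hne (by rw [e]))
  omega

theorem blk_compl (hB : IsSteinerSystem 5 6 B) {a : ℕ} (ha : IsBlk B a) : IsBlk B (4095 ^^^ a) := by
  obtain ⟨s, hs, rfl⟩ := ha
  refine ⟨sᶜ, compl_mem_12 (by simp) hB hs, Nat.eq_of_testBit_eq fun i => ?_⟩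
  rw [Nat.testBit_xor, show (4095 : ℕ) = 2 ^ 12 - 1 from rfl, Nat.testBit_two_pow_sub_one]
  by_cases hi : i < 12
  · have h1 := mk12_bit sᶜ ⟨i, hi⟩
    have h2 := mk12_bit s ⟨i, hi⟩
    simp only at h1 h2
    rw [h1, h2]
    simp [hi]
  · have hl : ∀ u : Finset (Fin 12), (mk12 u).testBit i = false := fun u =>
      Nat.testBit_eq_false_of_lt (lt_of_lt_of_le (mk12_lt u) (show 4096 ≤ 2 ^ i from
        le_trans (by norm_num) (Nat.pow_le_pow_right (by norm_num) (not_lt.mp hi))))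
    rw [hl, hl]; simp [hi]

theorem mem_quad : ∀ k : Fin 15, (set12 (pairQ.getD k.val 0)).card = 4 ∧ ∀ i ∈ set12 (pairQ.getD k.val 0), i.val < 6 := by
  decide +kernel

theorem quad_pair : ∀ k : Fin 15, ∀ y z : Fin 12,
    mk12 (insert z (insert y (set12 (pairQ.getD k.val 0)))) = pairQ.getD k.val 0 ||| pairY y z := by
  intro k y z
  refine Nat.eq_of_testBit_eq fun i => ?_
  by_cases hi : i < 12
  · have := mk12_bit (insert z (insert y (set12 (pairQ.getD k.val 0)))) ⟨i, hi⟩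
    simp only at this
    rw [this, Nat.testBit_or, pairY, Nat.testBit_or, Nat.testBit_two_pow, Nat.testBit_two_pow]
    simp only [set12, mem_insert, mem_filter, mem_univ, true_and, Fin.ext_iff]
    by_cases e1 : z.val = i <;> by_cases e2 : y.val = i <;> simp [e1, e2, @eq_comm ℕ i]
  · have hq : ∀ k : Fin 15, pairQ.getD k.val 0 < 64 := by decide +kernel
    have h2 : 4096 ≤ 2 ^ i := le_trans (by norm_num) (Nat.pow_le_pow_right (by norm_num) (not_lt.mp hi))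
    rw [Nat.testBit_eq_false_of_lt (lt_of_lt_of_le (mk12_lt _) h2), Nat.testBit_or, pairY, Nat.testBit_or,
      Nat.testBit_eq_false_of_lt (lt_of_lt_of_le (lt_trans (hq k) (by norm_num)) h2), Nat.testBit_two_pow, Nat.testBit_two_pow]
    have := y.isLt; have := z.isLt
    simp [show ¬ y.val = i by omega, show ¬ z.val = i by omega]

theorem exists_choice (hB : IsSteinerSystem 5 6 B) (hH : IsBlk B 63) (k : Fin 15) :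
    ∃ c : Fin 15, ∀ Q ∈ lift3 k.val c.val, IsBlk B Q := by
  obtain ⟨hq4, hq6⟩ := mem_quad k
  set q := set12 (pairQ.getD k.val 0) with hqdef
  have hz : ∀ y : Fin 12, 6 ≤ y.val → ∃ z : Fin 12, 6 ≤ z.val ∧ z ≠ y ∧ IsBlk B (pairQ.getD k.val 0 ||| pairY y z) := by
    intro y hy
    have hyq : y ∉ q := fun h => by have := hq6 y h; omega
    obtain ⟨b, ⟨hb, hsub⟩, -⟩ := hB.2 (insert y q) (by rw [card_insert_of_notMem hyq, hq4])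
    obtain ⟨z, hz⟩ := card_eq_one.mp (show (b \ insert y q).card = 1 by
      rw [card_sdiff_of_subset hsub, hB.1 b hb, card_insert_of_notMem hyq, hq4])
    have hzm : z ∈ b \ insert y q := hz ▸ mem_singleton_self z
    obtain ⟨hzb, hzn⟩ := mem_sdiff.mp hzm
    have hbe : b = insert z (insert y q) := by
      rw [← union_sdiff_of_subset hsub, hz]; ext; simp; tauto
    obtain ⟨h, hh, hh63⟩ := hH
    refine ⟨z, ?_, fun e => hzn (e ▸ mem_insert_self y q), b, hb, by rw [hbe, hqdef, quad_pair]⟩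
    by_contra hz6
    have hne : b ≠ h := fun e => by
      have h1 : (mk12 h).testBit y.val = true := by
        rw [mk12_bit, decide_eq_true_eq, ← e]; exact hsub (mem_insert_self _ _)
      rw [hh63, show (63 : ℕ) = 2 ^ 6 - 1 from rfl, Nat.testBit_two_pow_sub_one, decide_eq_true_eq] at h1
      omega
    have hlt := inter_lt hB hb hh hne
    have : insert z q ⊆ b ∩ h := by
      intro i hi
      have hi6 : i.val < 6 := by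
        rcases mem_insert.mp hi with rfl | hi'
        · omega
        · exact hq6 i hi'
      refine mem_inter.mpr ⟨?_, ?_⟩
      · rcases mem_insert.mp hi with rfl | hi'
        · exact hzb
        · exact hsub (mem_insert_of_mem hi')
      · have : (mk12 h).testBit i.val = true := by
          rw [hh63, show (63 : ℕ) = 2 ^ 6 - 1 from rfl, Nat.testBit_two_pow_sub_one, decide_eq_true_eq]; exact hi6
        rwa [mk12_bit, decide_eq_true_eq] at this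
    have := card_le_card this
    rw [card_insert_of_notMem (fun h => hzn (mem_insert_of_mem h)), hq4] at this
    omega
  obtain ⟨z1, h1, h1', b1⟩ := hz 6 (by decide)
  obtain ⟨y2, hy2, F2⟩ := find_match k z1 (by
    rcases Nat.lt_or_ge 6 z1.val with h | h
    · exact h
    · exact absurd (Fin.ext (le_antisymm h h1)) h1')
  obtain ⟨z2, h2, h2', b2⟩ := hz y2 hy2
  rcases F2 z2 h2 h2' with ⟨hb, hn⟩ | ⟨y3, hy3, F3⟩
  · exact absurd (blk_eq hB b1 b2 hb) hn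
  obtain ⟨z3, h3, h3', b3⟩ := hz y3 hy3
  rcases F3 z3 h3 h3' with ⟨a, ha, hb, hn⟩ | ⟨c, hc⟩
  · simp only [List.mem_cons, List.not_mem_nil, or_false] at ha
    rcases ha with rfl | rfl
    · exact absurd (blk_eq hB b1 b3 hb) hn
    · exact absurd (blk_eq hB b2 b3 hb) hn
  · refine ⟨c, fun Q hQ => ?_⟩
    have := hc Q hQ
    simp only [List.mem_cons, List.not_mem_nil, or_false] at this
    rcases this with rfl | rfl | rfl <;> assumption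

theorem grow_sound (hB : IsSteinerSystem 5 6 B) (f : ℕ → ℕ) (hf : ∀ k, k < 15 → f k < 15 ∧ ∀ Q ∈ lift3 k (f k), IsBlk B Q) :
    ∀ n S j, j + n ≤ 15 → (List.range j).map f ∈ S → (List.range (j + n)).map f ∈ growN n S
  | 0, S, j, _, h => h
  | n + 1, S, j, hj, h => by
    rw [show j + (n + 1) = (j + 1) + n by omega]
    refine grow_sound hB f hf n (grow S) (j + 1) (by omega) ?_
    simp only [grow, List.mem_flatMap, List.mem_map, List.mem_filter, List.mem_range]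
    refine ⟨_, h, f j, ⟨(hf j (by omega)).1, ?_⟩, by rw [List.range_succ, List.map_append]; rfl⟩
    simp only [okNext, List.all_eq_true, List.mem_range, List.length_map, List.length_range, Bool.or_eq_true,
      Bool.not_eq_true']
    intro t ht
    rw [show ((List.range j).map f).getD t 0 = f t by
      rw [← List.getElem_eq_getD (h := by simpa using ht), List.getElem_map, List.getElem_range]]
    by_contra hno
    push Not at hno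
    obtain ⟨ha, hd⟩ := hno
    obtain ⟨P, hP, hc, hd'⟩ := disc_shared ⟨f j, (hf j (by omega)).1⟩ ⟨f t, (hf t (by omega)).1⟩ (by simpa using hd)
    obtain ⟨hb, hne⟩ := adj_big ⟨j, by omega⟩ ⟨t, by omega⟩ (by simpa using ha) P hP
    exact hne (blk_eq hB ((hf j (by omega)).2 _ (List.mem_map_of_mem hc)) ((hf t (by omega)).2 _ (List.mem_map_of_mem hd')) hb)

/-- a system in standard position -/
theorem choice_fun (hB : IsSteinerSystem 5 6 B) (hH : IsBlk B 63) :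
    ∃ f : ℕ → ℕ, ∀ k, k < 15 → f k < 15 ∧ ∀ Q ∈ lift3 k (f k), IsBlk B Q := by
  choose c hc using exists_choice hB hH
  exact ⟨fun k => if h : k < 15 then (c ⟨k, h⟩).val else 0, fun k hk => by
    simp only [hk, dif_pos]; exact ⟨(c _).isLt, hc ⟨k, hk⟩⟩⟩

theorem known_blk (hB : IsSteinerSystem 5 6 B) (hH : IsBlk B 63) {L : List ℕ}
    (hL : ∀ k, k < 15 → ∀ Q ∈ lift3 k (L.getD k 0), IsBlk B Q) : ∀ m ∈ known L, IsBlk B m := by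
  intro m hm
  simp only [known, List.cons_append, List.mem_cons, List.mem_append, List.mem_flatMap, List.mem_map, List.mem_range] at hm
  rcases hm with rfl | rfl | ⟨k, hk, hQ⟩ | ⟨a, ⟨k, hk, hQ⟩, rfl⟩
  · exact hH
  · exact blk_compl hB hH
  · exact hL k hk m hQ
  · exact blk_compl hB (hL k hk a hQ)

theorem eq_std (hB : IsSteinerSystem 5 6 B) (hH : IsBlk B 63)
    (h5 : ∀ k, k < 5 → ∀ Q ∈ lift3 k (stdL.getD k 0), IsBlk B Q) : B = {b | mk12 b ∈ stdBlocks} := by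
  obtain ⟨f, hf⟩ := choice_fun hB hH
  have hfirst : ∀ k, k < 5 → f k = stdL.getD k 0 := by
    intro k hk
    have hlt : ∀ k : Fin 5, stdL.getD k.val 0 < 15 := by decide +kernel
    have := unique_lift ⟨k, by omega⟩ ⟨f k, (hf k (by omega)).1⟩ ⟨stdL.getD k 0, hlt ⟨k, hk⟩⟩ (by
      simp only [List.all_eq_true, Bool.or_eq_true, beq_iff_eq, Bool.not_eq_true']
      intro a ha b hb
      by_cases e : big a b = true
      · exact Or.inl (blk_eq hB ((hf k (by omega)).2 a ha) (h5 k hk b hb) e)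
      · exact Or.inr (by simpa using e))
    exact congrArg Fin.val this
  have hstart : (List.range 5).map f = stdL.take 5 := by
    rw [List.map_congr_left (g := fun k => stdL.getD k 0) (fun k hk => hfirst k (List.mem_range.mp hk))]
    decide +kernel
  have hmem := grow_sound hB f hf 10 [stdL.take 5] 5 le_rfl (by simp [hstart])
  have hall := List.all_eq_true.mp sols_ok _ hmem
  have hget : ∀ k, k < 15 → ((List.range 15).map f).getD k 0 = f k := fun k hk => by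
    rw [← List.getElem_eq_getD (h := by simpa using hk), List.getElem_map, List.getElem_range]
  have hknown : ∀ m ∈ known ((List.range 15).map f), IsBlk B m :=
    known_blk hB hH fun k hk Q hQ => (hf k hk).2 Q (by rwa [hget k hk] at hQ)
  simp only [Bool.or_eq_true, beq_iff_eq, List.contains_eq_mem, decide_eq_true_eq, List.mem_map] at hall
  rcases hall with e | ⟨⟨L, s⟩, he, e⟩
  swap
  · exfalso
    simp only at e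
    have hb := List.all_eq_true.mp bad_ok _ he
    simp only [Bool.and_eq_true, decide_eq_true_eq, List.all_eq_true, List.mem_range] at hb
    obtain ⟨⟨h5s, hs⟩, hw⟩ := hb
    rw [count_eq] at h5s
    obtain ⟨b, ⟨hbB, hsub⟩, -⟩ := hB.2 _ h5s
    obtain ⟨w, hwd⟩ := card_eq_one.mp (show (b \ set12 s).card = 1 by rw [card_sdiff_of_subset hsub, hB.1 b hbB, h5s])
    have hwm : w ∈ b \ set12 s := hwd ▸ mem_singleton_self w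
    have hsw : s.testBit w.val = false := by simpa [set12] using (mem_sdiff.mp hwm).2
    have hbe : mk12 b = s ||| 2 ^ w.val := by
      refine Nat.eq_of_testBit_eq fun i => ?_
      by_cases hi : i < 12
      · have h1 := mk12_bit b ⟨i, hi⟩
        simp only at h1
        rw [h1, Nat.testBit_or, Nat.testBit_two_pow]
        have hbu : b = set12 s ∪ {w} := by rw [← hwd, union_sdiff_of_subset hsub]
        rw [hbu]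
        simp [set12, Fin.ext_iff, @eq_comm ℕ i, Bool.or_comm]
      · have h2 : 4096 ≤ 2 ^ i := le_trans (by norm_num) (Nat.pow_le_pow_right (by norm_num) (not_lt.mp hi))
        rw [Nat.testBit_eq_false_of_lt (lt_of_lt_of_le (mk12_lt _) h2), Nat.testBit_or,
          Nat.testBit_eq_false_of_lt (lt_of_lt_of_le hs h2), Nat.testBit_two_pow]
        have := w.isLt
        simp [show ¬ w.val = i by omega]
    have hh := hw w.val w.isLt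
    simp only [hsw, Bool.or_eq_true, Bool.false_eq_true, false_or, Bool.and_eq_true, Bool.not_eq_true', List.contains_eq_mem,
      decide_eq_false_iff_not, List.any_eq_true] at hh
    obtain ⟨hn, m, hm, hbig⟩ := hh
    rw [← hbe] at hn hbig
    exact hn (blk_eq hB ⟨b, hbB, rfl⟩ (hknown m (e ▸ hm)) hbig ▸ hm)
  rw [e] at hknown
  have hsub : B ⊆ {b | mk12 b ∈ stdBlocks} := by
    intro b hb
    have hm : mk12 b ∈ combs 12 6 := combs_complete 12 6 _ (mk12_lt b) (by rw [count_eq, set12_mk, hB.1 b hb])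
    have := List.all_eq_true.mp std_forced _ hm
    simp only [Bool.or_eq_true, List.contains_eq_mem, decide_eq_true_eq, Bool.and_eq_true, Bool.not_eq_true',
      decide_eq_false_iff_not, List.any_eq_true] at this
    rcases this with h | ⟨hn, m, hm', hbig⟩
    · exact h
    · exact absurd (blk_eq hB ⟨b, hb, rfl⟩ (hknown m hm') hbig ▸ hm') hn
  refine Set.eq_of_subset_of_ncard_le hsub ?_ (Set.toFinite _)
  have h1 : ({b | mk12 b ∈ stdBlocks} : Set (Finset (Fin 12))).ncard ≤ 132 := by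
    have : ({b | mk12 b ∈ stdBlocks} : Set (Finset (Fin 12))) ⊆ ↑(stdBlocks.map set12).toFinset := fun b hb => by
      simp only [List.coe_toFinset, List.mem_map, Set.mem_ofPred_eq]; exact ⟨_, hb, set12_mk b⟩
    refine (Set.ncard_le_ncard this (Set.toFinite _)).trans ?_
    rw [Set.ncard_coe_finset]
    refine (List.toFinset_card_le _).trans ?_
    rw [List.length_map, stdBlocks_card.1]
  have h2 := card_blocks hB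
  rw [Fintype.card_fin, show Nat.choose 6 5 = 6 by decide, show Nat.choose 12 5 = 792 by decide +kernel] at h2
  omega

/-- pulling back a family -/
def pullSys {α : Type*} [DecidableEq α] (e : Fin 12 ≃ α) (B : Set (Finset α)) : Set (Finset (Fin 12)) := {s | s.image e ∈ B}

theorem pullSys_steiner {α : Type*} [DecidableEq α] (e : Fin 12 ≃ α) {B : Set (Finset α)} (hB : IsSteinerSystem 5 6 B) :
    IsSteinerSystem 5 6 (pullSys e B) := by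
  refine ⟨fun b hb => by rw [← card_image_of_injective b e.injective]; exact hB.1 _ hb, fun s hs => ?_⟩
  obtain ⟨b, ⟨hb, hsb⟩, hu⟩ := hB.2 (s.image e) (by rw [card_image_of_injective s e.injective, hs])
  have himg : (b.image e.symm).image e = b := by rw [image_image]; simp
  refine ⟨b.image e.symm, ⟨by show _ ∈ B; rw [himg]; exact hb, fun i hi => ?_⟩, fun c hc => ?_⟩
  · exact mem_image.mpr ⟨e i, hsb (mem_image_of_mem e hi), e.symm_apply_apply i⟩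
  · have h : c.image e = b := hu _ ⟨hc.1, image_subset_image hc.2⟩
    rw [← h, image_image]; simp

theorem pull_blk {α : Type*} [DecidableEq α] (π : Equiv.Perm (Fin 12)) (e : Fin 12 ≃ α) {B : Set (Finset α)} {m : ℕ}
    (hm : IsBlk (pullSys e B) m) : IsBlk (pullSys (π.trans e) B) (pull12 π m) := by
  obtain ⟨b, hb, rfl⟩ := hm
  refine ⟨b.image π.symm, ?_, ?_⟩
  · show (b.image π.symm).image (π.trans e) ∈ B
    rw [image_image, show (⇑(π.trans e) ∘ ⇑π.symm) = ⇑e from funext fun x => by simp]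
    exact hb
  · unfold pull12
    conv_lhs => unfold mk12
    congr 1
    funext i
    rw [mk12_bit]
    refine decide_eq_decide.mpr ?_
    exact ⟨fun h => by obtain ⟨x, hx, hxe⟩ := mem_image.mp h; rw [← hxe, Equiv.apply_symm_apply]; exact hx,
      fun h => mem_image.mpr ⟨π i, h, π.symm_apply_apply i⟩⟩

theorem standard {α : Type*} [Fintype α] [DecidableEq α] (hα : Fintype.card α = 12) {B : Set (Finset α)}
    (hB : IsSteinerSystem 5 6 B) : ∃ e : Fin 12 ≃ α, pullSys e B = {b | mk12 b ∈ stdBlocks} := by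
  obtain ⟨s, hs⟩ : ∃ s : Finset α, s.card = 5 := by
    obtain ⟨s, -, hs⟩ := exists_subset_card_eq (s := (univ : Finset α)) (n := 5) (by rw [card_univ, hα]; norm_num)
    exact ⟨s, hs⟩
  obtain ⟨h0, ⟨h0B, -⟩, -⟩ := hB.2 s hs
  obtain ⟨e, he⟩ : ∃ e : Fin 12 ≃ α, ∀ i : Fin 12, i.val < 6 ↔ e i ∈ h0 := by
    have c1 : Fintype.card {i : Fin 12 // i.val < 6} = Fintype.card {a // a ∈ h0} := by
      rw [Fintype.card_coe, hB.1 h0 h0B]; decide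
    have c2 : Fintype.card {i : Fin 12 // ¬ i.val < 6} = Fintype.card {a // ¬ a ∈ h0} := by
      rw [Fintype.card_subtype_compl, Fintype.card_subtype_compl, c1, Fintype.card_fin, hα]
    refine ⟨((Equiv.sumCompl _).symm.trans ((Fintype.equivOfCardEq c1).sumCongr (Fintype.equivOfCardEq c2))).trans (Equiv.sumCompl _), fun i => ?_⟩
    by_cases hi : i.val < 6
    · simp [hi, Equiv.sumCompl_symm_apply_of_pos]
    · simp only [hi, false_iff, Equiv.trans_apply, Equiv.sumCompl_symm_apply_of_neg (p := fun j : Fin 12 => j.val < 6) hi,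
        Equiv.sumCongr_apply, Sum.map_inr, Equiv.sumCompl_apply_inr]
      exact (Fintype.equivOfCardEq c2 ⟨i, hi⟩).2
  have hH : ∀ e' : Fin 12 ≃ α, (∀ i : Fin 12, i.val < 6 ↔ e' i ∈ h0) → IsBlk (pullSys e' B) 63 := by
    intro e' he'
    refine ⟨univ.filter fun i => i.val < 6, ?_, by decide +kernel⟩
    show _ ∈ B
    convert h0B using 1
    ext a
    simp only [mem_image, mem_filter, mem_univ, true_and]
    exact ⟨fun ⟨i, hi, h⟩ => h ▸ (he' i).mp hi, fun h => ⟨e'.symm a, (he' _).mpr (by simpa using h), e'.apply_symm_apply a⟩⟩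
  have h1 := pullSys_steiner e hB
  obtain ⟨f, hf⟩ := choice_fun h1 (hH e he)
  have hmem := grow_sound h1 f hf 5 [[]] 0 (by omega) (by simp)
  rw [fives_ok, Nat.zero_add] at hmem
  obtain ⟨n, hn, hfn⟩ := List.getElem_of_mem hmem
  have hlen : fives.length = 720 := by decide +kernel
  have hr := List.all_eq_true.mp relab_ok n (List.mem_range.mpr (hlen ▸ hn))
  simp only [Bool.and_eq_true, List.all_eq_true, List.mem_range, List.contains_eq_mem, decide_eq_true_eq, List.mem_map,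
    Bool.or_eq_true, beq_iff_eq, bne_iff_ne] at hr
  obtain ⟨hinj, hQ⟩ := hr
  have hbij : Function.Bijective (relabFn (relab.getD n [])) := Finite.injective_iff_bijective.mp fun i j h =>
    (hinj i (List.mem_finRange i) j (List.mem_finRange j)).resolve_right (fun h' => h' h)
  let π : Equiv.Perm (Fin 12) := Equiv.ofBijective _ hbij
  have he' : ∀ i : Fin 12, i.val < 6 ↔ (π.trans e) i ∈ h0 := by
    have hfix : ∀ j : Fin 12, j.val < 6 → π j = j := fun j hj => by show relabFn _ j = j; simp [relabFn, hj]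
    intro i
    rw [Equiv.trans_apply, ← he]
    refine ⟨fun hi => by rw [hfix i hi]; exact hi, fun hi => ?_⟩
    have := π.injective (hfix (π i) hi)
    rwa [this] at hi
  refine ⟨π.trans e, eq_std (pullSys_steiner _ hB) (hH _ he') fun k hk Q hQm => ?_⟩
  obtain ⟨R, hR, rfl⟩ := hQ k hk Q hQm
  refine pull_blk π e ((hf k (by omega)).2 R ?_)
  have : (fives.getD n []).getD k 0 = f k := by
    rw [← List.getElem_eq_getD (h := hn), hfn, ← List.getElem_eq_getD (h := by simpa using hk), List.getElem_map, List.getElem_range]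
  rwa [this] at hR

theorem iso {α β : Type*} [Fintype α] [DecidableEq α] [Fintype β] [DecidableEq β] (hα : Fintype.card α = 12)
    (hβ : Fintype.card β = 12) {B : Set (Finset α)} {B' : Set (Finset β)} (hB : IsSteinerSystem 5 6 B)
    (hB' : IsSteinerSystem 5 6 B') : SetSystemIso B B' := by
  obtain ⟨e, he⟩ := standard hα hB
  obtain ⟨e', he'⟩ := standard hβ hB'
  refine ⟨e.symm.trans e', Set.ext fun c => ?_⟩
  have key : pullSys e B = pullSys e' B' := he.trans he'.symm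
  constructor
  · rintro ⟨b, hb, rfl⟩
    have h : b.image e.symm ∈ pullSys e B := by show _ ∈ B; rw [image_image]; simpa using hb
    rw [key] at h
    have h' : (b.image e.symm).image e' ∈ B' := h
    rwa [image_image] at h'
  · intro hc
    have h : c.image e'.symm ∈ pullSys e' B' := by show _ ∈ B'; rw [image_image]; simpa using hc
    rw [← key] at h
    refine ⟨_, h, ?_⟩
    show ((c.image e'.symm).image e).image (e.symm.trans e') = c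
    rw [image_image, image_image]
    simp [Function.comp_def]

end Cfsg.Agent.Steiner.Twelve
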