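import Cfsg.Agent.Lib.Steiner.TwentyThree

/-! Uniqueness of the system on twenty-four points. -/

set_option autoImplicit false

namespace Cfsg.Agent.Steiner.TwentyFour

open Cfsg Finset

theorem iso {α β : Type*} [Fintype α] [DecidableEq α] [Fintype β] [DecidableEq β] (hα : Fintype.card α = 24)
    (hβ : Fintype.card β = 24) {B : Set (Finset α)} {B' : Set (Finset β)} (hB : IsSteinerSystem 5 8 B)
    (hB' : IsSteinerSystem 5 8 B') : SetSystemIso B B' := by
  classical
  obtain ⟨p⟩ : Nonempty α := Fintype.card_pos_iff.mp (by omega)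
  obtain ⟨q⟩ : Nonempty β := Fintype.card_pos_iff.mp (by omega)
  obtain ⟨e, he⟩ := TwentyThree.iso (α := {a : α // a ≠ p}) (β := {b : β // b ≠ q})
    (by rw [Fintype.card_subtype_compl, Fintype.card_subtype_eq, hα])
    (by rw [Fintype.card_subtype_compl, Fintype.card_subtype_eq, hβ])
    (derived (t := 4) (k := 7) hB p) (derived (t := 4) (k := 7) hB' q)
  let E : α ≃ β := ((Equiv.optionSubtypeNe p).symm.trans (Equiv.optionCongr e)).trans (Equiv.optionSubtypeNe q)
  have hEp : E p = q := by simp [E]
  have hEs : ∀ x : {a : α // a ≠ p}, E x = (e x : β) := fun x => by simp [E, x.2]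
  have hthru : ∀ b ∈ B, p ∈ b → b.image E ∈ B' := by
    intro b hb hp
    obtain ⟨c, hc, hqc, hce⟩ := he.subset ⟨_, ⟨b, hb, hp, rfl⟩, rfl⟩
    have : c = b.image E := by
      ext y
      by_cases hy : y = q
      · subst hy; simp only [hqc, true_iff]; exact mem_image.mpr ⟨p, hp, hEp⟩
      · have h1 := Finset.ext_iff.mp hce ⟨y, hy⟩
        simp only [mem_image, mem_subtype] at h1 ⊢
        rw [← h1]
        constructor
        · rintro ⟨x, hx, hxe⟩
          exact ⟨x, hx, (hEs x).trans (congrArg Subtype.val hxe)⟩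
        · rintro ⟨x, hx, hxe⟩
          have hxp : x ≠ p := fun h => hy (by rw [← hxe, h, hEp])
          exact ⟨⟨x, hxp⟩, hx, Subtype.ext ((hEs ⟨x, hxp⟩).symm.trans hxe)⟩
    exact this ▸ hc
  refine ⟨E, Set.eq_of_subset_of_ncard_le ?_ ?_ (Set.toFinite _)⟩
  · rintro _ ⟨b, hb, rfl⟩
    by_cases hp : p ∈ b
    · exact hthru b hb hp
    · obtain ⟨S, hSb, hS⟩ := exists_subset_card_eq (s := b) (n := 4) (by rw [hB.1 b hb]; norm_num)
      obtain ⟨c, ⟨hc, hsc⟩, -⟩ := hB.2 (insert p S) (by rw [card_insert_of_notMem (fun h => hp (hSb h)), hS])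
      obtain ⟨hpc, hSc⟩ := insert_subset_iff.mp hsc
      have h4 : (b ∩ c).card = 4 := by
        have h := card_le_card (subset_inter hSb hSc)
        rcases inter_24 hα hB hb hc (fun h => hp (h ▸ hpc)) with h' | h' | h' <;> omega
      have hd : symmDiff b c ∈ B := symmDiff_mem hα hB hb hc h4
      have hpd : p ∈ symmDiff b c := mem_symmDiff.mpr (Or.inr ⟨hpc, hp⟩)
      have hdc : (symmDiff b c ∩ c).card = 4 := by
        rw [show symmDiff b c ∩ c = c \ b by ext x; simp [mem_symmDiff]; tauto]
        have := card_sdiff_add_card_inter c b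
        rw [inter_comm c b, hB.1 c hc] at this
        omega
      have hres := symmDiff_mem hβ hB' (hthru _ hd hpd) (hthru c hc hpc)
        (by rw [← image_inter _ _ E.injective, card_image_of_injective _ E.injective, hdc])
      rw [← image_symmDiff _ _ E.injective, symmDiff_assoc, symmDiff_self, symmDiff_bot] at hres
      exact hres
  · rw [Set.ncard_image_of_injective _ (image_injective E.injective)]
    have h1 := card_blocks hB
    have h2 := card_blocks hB'
    rw [hα, show Nat.choose 8 5 = 56 by decide, show Nat.choose 24 5 = 42504 by decide +kernel] at h1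
    rw [hβ, show Nat.choose 8 5 = 56 by decide, show Nat.choose 24 5 = 42504 by decide +kernel] at h2
    omega

end Cfsg.Agent.Steiner.TwentyFour
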