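import Cfsg.Agent.Lib.Steiner.TwentyTwo

/-! Uniqueness of the system on twenty-three points. -/

set_option autoImplicit false
set_option maxRecDepth 100000

namespace Cfsg.Agent.Steiner.TwentyThree

open Cfsg Finset
open Cfsg.Agent.Steiner.PlaneFour
open Cfsg.Agent.Steiner.TwentyTwo

/-- first odd class of hyperovals -/
def oddOne : List ℕ := [2740, 2890, 5290, 5460, 24684, 24978, 42688, 47392, 52248, 53766, 76806, 78360, 83744, 88256, 98418, 98700, 141449, 148049, 165123, 200741, 271409, 282889, 297029, 328323, 394764, 399378, 442528, 467264, 536643, 541829, 557609, 592145, 658528, 660352, 696340, 737290, 786648, 786726, 813568, 889856, 1057541, 1067043, 1085585, 1115209, 1179846, 1179960, 1209344, 1280512, 1314176, 1315424, 1351690, 1392660, 1574418, 1579020, 1622336, 1646752]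

/-- second odd class of hyperovals -/
def oddTwo : List ℕ := [3276, 3378, 4818, 4908, 26132, 30730, 41144, 41286, 51808, 54656, 76672, 78944, 82086, 82264, 99850, 104468, 143633, 148521, 164485, 198723, 270921, 280721, 299043, 328965, 393332, 393610, 437248, 479744, 534565, 541443, 558161, 594057, 657944, 660486, 680128, 753952, 788128, 792896, 835596, 860178, 1057923, 1069125, 1083657, 1114673, 1181504, 1185952, 1228818, 1253388, 1313286, 1315864, 1335584, 1409216, 1572970, 1573268, 1618432, 1657856]

/-- subplanes with a chosen quadrangle -/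
def subPlanes : List (ℕ × Fin 21 × Fin 21 × Fin 21 × Fin 21) := [(3283, 0, 1, 6, 11), (3373, 0, 2, 5, 11), (4813, 0, 2, 6, 12), (4915, 0, 1, 5, 12), (26123, 0, 1, 9, 14), (30741, 0, 2, 11, 13), (41127, 0, 1, 5, 15), (41305, 0, 3, 6, 13), (52097, 0, 7, 9, 15), (54369, 0, 5, 10, 14), (76385, 0, 5, 9, 16), (79233, 0, 7, 10, 13), (82105, 0, 3, 5, 14), (82247, 0, 1, 6, 16), (99861, 0, 2, 9, 15), (104459, 0, 1, 11, 16), (143120, 4, 8, 10, 11), (143600, 4, 5, 6, 17), (143630, 1, 2, 8, 13), (148534, 1, 2, 5, 14), (148936, 3, 6, 7, 10), (154152, 3, 5, 9, 12), (164506, 1, 3, 7, 17), (164708, 2, 5, 6, 17), (171140, 2, 7, 10, 11), (190530, 1, 6, 11, 17), (198748, 2, 3, 6, 11), (199074, 1, 5, 7, 16), (202306, 1, 6, 9, 12), (221828, 2, 7, 9, 17), (238632, 3, 5, 10, 17), (250128, 4, 8, 12, 17), (270934, 1, 2, 6, 13), (271272, 3, 5, 7, 13), (277576, 3, 6, 10, 11), (280718, 1, 2, 7, 14), (280944, 4, 5, 6, 18), (284304, 4, 7, 9, 12), (298530, 1, 5, 10, 11), (299068, 2, 3, 5, 12), (299458, 1, 6, 7, 12), (320772, 2, 8, 10, 18), (328932, 2, 5, 6, 18), (328986,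 1, 3, 8, 18), (334596, 2, 8, 9, 12), (356386, 1, 5, 12, 18), (370832, 4, 7, 11, 18), (377416, 3, 6, 9, 18), (393323, 0, 1, 5, 18), (393621, 0, 2, 7, 17), (438785, 0, 9, 13, 18), (478209, 0, 10, 14, 17), (534586, 1, 3, 5, 19), (534980, 2, 6, 7, 11), (538148, 2, 5, 9, 12), (541410, 1, 5, 6, 19), (541468, 2, 3, 8, 9), (548098, 1, 8, 10, 11), (558158, 1, 2, 6, 15), (558512, 4, 5, 7, 15), (563792, 4, 6, 9, 12), (585864, 3, 7, 12, 19), (593544, 3, 7, 10, 11), (594070, 1, 2, 7, 16), (594280, 3, 5, 6, 19), (615504, 4, 6, 10, 19), (631554, 1, 8, 9, 19), (641060, 2, 5, 11, 19), (657927, 0, 1, 9, 19), (660505, 0, 3, 10, 17), (680225, 0, 5, 13, 19), (753857, 0, 6, 15, 19), (788289, 0, 6, 9, 18), (792737, 0, 5, 11, 19), (835603, 0, 1, 14, 19), (860173, 0, 2, 13, 19), (926850, 1, 7, 10, 13), (938052, 2, 6, 12, 14), (952584, 3, 8, 11, 15), (983600, 4, 5, 9, 16), (1057948, 2, 3, 7, 10), (1058146, 1, 5, 6, 20), (1063554, 1, 7, 9, 12), (1068612, 2, 6, 10, 11), (1069146, 1, 3, 6, 20), (1069476, 2, 5, 7, 14), (1083624, 3, 5, 6, 20), (1083670, 1, 2, 8, 15), (1087240,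 3, 8, 9, 12), (1106480, 4, 5, 9, 20), (1114670, 1, 2, 5, 16), (1115088, 4, 6, 7, 9), (1121328, 4, 5, 10, 11), (1141000, 3, 8, 11, 20), (1159236, 2, 6, 12, 20), (1164418, 1, 7, 10, 20), (1181345, 0, 5, 9, 20), (1186113, 0, 6, 11, 17), (1228813, 0, 2, 14, 20), (1253395, 0, 1, 13, 20), (1313305, 0, 3, 9, 18), (1315847, 0, 1, 10, 20), (1335489, 0, 6, 13, 18), (1409313, 0, 5, 15, 18), (1452068, 2, 5, 11, 13), (1458946, 1, 8, 9, 14), (1475664, 4, 6, 10, 15), (1511560, 3, 7, 12, 16), (1572981, 0, 2, 5, 19), (1573259, 0, 1, 7, 20), (1616897, 0, 10, 13, 20), (1659393, 0, 9, 14, 19), (1712712, 3, 6, 9, 13), (1722512, 4, 7, 11, 14), (1740834, 1, 5, 12, 15), (1770756, 2, 8, 10, 16), (1847568, 4, 8, 12, 13), (1852456, 3, 5, 10, 14), (1868420, 2, 7, 9, 15), (1902658, 1, 6, 11, 16)]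

/-- a collineation exchanging the odd classes -/
def swapCls : Equiv.Perm (Fin 21) := Equiv.swap (3 : Fin 21) 4 * Equiv.swap (7 : Fin 21) 8 * Equiv.swap (11 : Fin 21) 12 * Equiv.swap (13 : Fin 21) 17 * Equiv.swap (14 : Fin 21) 18 * Equiv.swap (15 : Fin 21) 20 * Equiv.swap (16 : Fin 21) 19

/-- the twenty-three points -/
abbrev PT := Option (Option (Fin 21))

/-- a block through the second point only -/
def sideBlk (m : ℕ) : Finset PT := (set21 m).insertNone.map Function.Embedding.some

/-- a block avoiding both points -/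
def subBlk (m : ℕ) : Finset PT := ((set21 m).map Function.Embedding.some).map Function.Embedding.some

/-- first part of the model -/
def list22 : List (Finset (Option (Fin 21))) :=
  (planeStd.map fun m => (set21 m).insertNone) ++ (evenList.map fun m => (set21 m).map Function.Embedding.some)

/-- the model blocks -/
def list23 : List (Finset PT) := list22.map Finset.insertNone ++ oddOne.map sideBlk ++ subPlanes.map fun d => subBlk d.1

/-- a code for a set -/
def code23 (s : Finset PT) : ℕ :=
  s.sum fun o => match o with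
    | none => 2 ^ 22
    | some none => 2 ^ 21
    | some (some i) => 2 ^ i.val

theorem list23_card : list23.toFinset.card = 253 := by
  have h : (list23.map code23).Nodup := by decide +kernel
  rw [List.toFinset_card_of_nodup (List.Nodup.of_map _ h)]
  decide +kernel

theorem odd_split : ∀ h ∈ hypList, ([3, 4, 5, 6, 9, 10] : List ℕ).countP (fun i => h.testBit i) % 2 = 1 → h ∈ oddOne ∨ h ∈ oddTwo := by decide +kernel

/-- common points of two masks -/
def common (a b : ℕ) : ℕ := (List.range 21).countP fun i => a.testBit i && b.testBit i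

theorem one_two : (oddOne.all fun a => oddTwo.all fun b => common a b % 2 == 1) = true := by decide +kernel

theorem one_one : (oddOne.all fun a => oddOne.all fun b => a == b || decide (common a b ≤ 2)) = true := by decide +kernel

theorem swap_two : ∀ h ∈ oddTwo, mk21 ((set21 h).image swapCls) ∈ oddOne := by decide +kernel

theorem swap_inv : ∀ i : Fin 21, swapCls (swapCls i) = i := by decide +kernel

theorem swap_line : ∀ m ∈ planeStd, mk21 ((set21 m).image swapCls) ∈ planeStd := by decide +kernel

theorem swap_even : ∀ m ∈ evenList, mk21 ((set21 m).image swapCls) ∈ evenList := by decide +kernel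

theorem swap_22 : ∀ s ∈ list22, s.image (Option.map swapCls) ∈ list22 := by
  intro s hs
  simp only [list22, List.mem_append, List.mem_map] at hs ⊢
  rcases hs with ⟨m, hm, rfl⟩ | ⟨m, hm, rfl⟩
  · refine Or.inl ⟨_, swap_line m hm, ?_⟩
    ext o; cases o <;> simp [set21_mk]
  · refine Or.inr ⟨_, swap_even m hm, ?_⟩
    ext o; cases o <;> simp [set21_mk]

/-- three points of a hyperoval -/
def triple (m : ℕ) : Finset (Fin 21) := (((List.finRange 21).filter fun i => m.testBit i.val).take 3).toFinset

theorem triple_sub : ∀ h ∈ oddOne, (triple h).card = 3 ∧ triple h ⊆ set21 h := by decide +kernel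

theorem triple_line : (oddOne.all fun h => planeStd.all fun l =>
    !((((List.finRange 21).filter fun i => h.testBit i.val).take 3).all fun i => l.testBit i.val)) = true := by decide +kernel

theorem triple_ok : ∀ h ∈ oddOne, (triple h).card = 3 ∧ triple h ⊆ set21 h ∧
    ∀ s ∈ list22, ¬ (triple h).insertNone ⊆ s := by
  intro h hh
  refine ⟨(triple_sub h hh).1, (triple_sub h hh).2, fun s hs hsub => ?_⟩
  simp only [list22, List.mem_append, List.mem_map] at hs
  rcases hs with ⟨m, hm, rfl⟩ | ⟨m, hm, rfl⟩
  · have hk := List.all_eq_true.mp (List.all_eq_true.mp triple_line h hh) m hm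
    rw [Bool.not_eq_true', ← Bool.not_eq_true, List.all_eq_true] at hk
    refine hk fun i hi => ?_
    have := hsub (some_mem_insertNone.mpr (show i ∈ triple h from List.mem_toFinset.mpr hi))
    simpa [set21] using this
  · simpa using hsub none_mem_insertNone

theorem one_hyp : ∀ h ∈ oddOne, h < 2 ^ 21 := by decide +kernel

/-- six joining lines of a quadrangle -/
def sixOf (a b c d : Fin 21) : Fin 6 → ℕ :=
  ![joinAt a b, joinAt a c, joinAt a d, joinAt b c, joinAt b d, joinAt c d]

theorem sub_ok : (subPlanes.all fun d => match d with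
    | (m, a, b, c, e) => decide (a.val < b.val && b.val < c.val && c.val < e.val) && decide (m < 2 ^ 21) &&
      decide ((set21 m).card = 7 ∧ a ∈ set21 m ∧ b ∈ set21 m ∧ c ∈ set21 m ∧ e ∈ set21 m) &&
      ((List.finRange 6).all fun i => decide (sixOf a b c e i ∈ planeStd) &&
        (([a, b, c, e] : List (Fin 21)).countP fun x => (sixOf a b c e i).testBit x.val) == 2) &&
      ((List.finRange 21).all fun x => [a, b, c, e].contains x ||
        decide (((List.finRange 6).countP fun i => (sixOf a b c e i).testBit x.val) ≤ if m.testBit x.val then 2 else 1)) &&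
      (oddOne.all fun h => !(h.testBit a.val && h.testBit b.val && h.testBit c.val && h.testBit e.val)) &&
      (evenList.all fun h => !(h.testBit a.val && h.testBit b.val && h.testBit c.val && h.testBit e.val)) &&
      (planeStd.all fun h => !(h.testBit a.val && h.testBit b.val && h.testBit c.val && h.testBit e.val))) = true := by
  decide +kernel

theorem pull_system {α β : Type*} [DecidableEq α] [DecidableEq β] {t k : ℕ} (e : β ≃ α) {L : Set (Finset α)}
    (hL : IsSteinerSystem t k L) : IsSteinerSystem t k {s : Finset β | s.image e ∈ L} := by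
  refine ⟨fun b hb => by rw [← card_image_of_injective b e.injective]; exact hL.1 _ hb, fun s hs => ?_⟩
  obtain ⟨b, ⟨hb, hsb⟩, hu⟩ := hL.2 (s.image e) (by rw [card_image_of_injective s e.injective, hs])
  have himg : (b.image e.symm).image e = b := by rw [image_image]; simp
  refine ⟨b.image e.symm, ⟨by show _ ∈ L; rw [himg]; exact hb, fun i hi => ?_⟩, fun c hc => ?_⟩
  · exact mem_image.mpr ⟨e i, hsb (mem_image_of_mem e hi), e.symm_apply_apply i⟩
  · have h : c.image e = b := hu _ ⟨hc.1, image_subset_image hc.2⟩
    rw [← h, image_image]; simp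

theorem model22_list (s : Finset (Option (Fin 21))) : s ∈ model22 ↔ s ∈ list22 := List.mem_toFinset

theorem line22 {l : Finset (Fin 21)} (hl : l ∈ stdLines) : l.insertNone ∈ list22 := by
  refine List.mem_append_left _ (List.mem_map.mpr ⟨mk21 l, hl, ?_⟩)
  rw [set21_mk]

theorem zero22 : ovalZero.map Function.Embedding.some ∈ list22 := by decide +kernel

/-- the hyperoval of a side block -/
theorem side_oval {M : Set (Finset PT)} (hM : IsSteinerSystem 4 7 M)
    (hq : ∀ s ∈ list22, s.insertNone ∈ M) {b : Finset PT} (hb : b ∈ M) (hn : none ∉ b) (hP : some none ∈ b) :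
    ∃ h, (h ∈ oddOne ∨ h ∈ oddTwo) ∧ b = sideBlk h := by
  have hPT : Fintype.card PT = 23 := by simp [PT]
  set g := b.eraseNone.eraseNone with hg
  have hbg : b = g.insertNone.map Function.Embedding.some := by
    ext o
    rcases o with _ | _ | i <;> simp [hg, hn, hP]
  have hg6 : g.card = 6 := by
    have := hM.1 b hb
    rw [hbg, card_map, card_insertNone] at this; omega
  have hind : Indep stdLines 6 g := by
    refine ⟨hg6, fun l hl => ?_⟩
    have hL := hq _ (line22 hl)
    have h := inter_lt hM hL hb (fun e => hn (e ▸ none_mem_insertNone))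
    have e : l.insertNone.insertNone ∩ b = (l ∩ g).insertNone.map Function.Embedding.some := by
      ext o
      rcases o with _ | _ | i <;> simp [hg, hn, hP]
    rw [e, card_map, card_insertNone] at h
    omega
  obtain ⟨S, hSH, hS⟩ := exists_subset_card_eq (s := g) (n := 4) (by rw [hg6]; norm_num)
  obtain ⟨h, hh, -, hmax⟩ := four_oval ⟨hS, fun l hl => (card_le_card (inter_subset_inter_left hSH)).trans (hind.2 l hl)⟩
  have hsh : g = set21 h := eq_of_subset_of_card_le (hmax _ hind.2 hSH) (by rw [(hyp_indep hh).1, hg6])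
  refine ⟨h, odd_split h hh ?_, by rw [hbg, hsh]; rfl⟩
  have h13 := inter_23 hPT hM (hq _ zero22) hb (fun e => hn (e ▸ none_mem_insertNone))
  have e : (ovalZero.map Function.Embedding.some).insertNone ∩ b = ((ovalZero ∩ g).map Function.Embedding.some).map Function.Embedding.some := by
    ext o
    rcases o with _ | _ | i <;> simp [hg, hn]
  rw [e, card_map, card_map, hsh] at h13
  have key : ([3, 4, 5, 6, 9, 10] : List ℕ).countP (fun i => h.testBit i) = (ovalZero ∩ set21 h).card := by
    rw [show ([3, 4, 5, 6, 9, 10] : List ℕ) = ([3, 4, 5, 6, 9, 10] : List (Fin 21)).map Fin.val from rfl,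
      List.countP_map, List.countP_eq_length_filter,
      ← List.toFinset_card_of_nodup ((show ([3, 4, 5, 6, 9, 10] : List (Fin 21)).Nodup by decide).filter _)]
    refine congrArg Finset.card ?_
    ext i
    simp [set21, zero_list]
  rw [key]; omega

theorem common_card (a b : ℕ) : common a b = (set21 a ∩ set21 b).card := by
  rw [common, show List.range 21 = (List.finRange 21).map Fin.val from by decide, List.countP_map,
    List.countP_eq_length_filter, ← List.toFinset_card_of_nodup ((List.nodup_finRange 21).filter _)]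
  refine congrArg Finset.card ?_
  ext i
  simp [set21]

theorem side_parity {M : Set (Finset PT)} (hM : IsSteinerSystem 4 7 M) {a b : ℕ}
    (ha : sideBlk a ∈ M) (hb : sideBlk b ∈ M) (h : common a b % 2 = 1) : a ∈ oddOne → b ∈ oddTwo → False := by
  intro _ _
  by_cases e : sideBlk a = sideBlk b
  · have e2 : set21 a = set21 b := by
      unfold sideBlk at e
      simpa using congrArg Finset.eraseNone (map_injective _ e)
    have h6 := hM.1 _ hb
    rw [sideBlk, card_map, card_insertNone] at h6
    rw [common_card, e2, inter_self] at h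
    omega
  · have h13 := inter_23 (by simp [PT]) hM ha hb e
    have e2 : sideBlk a ∩ sideBlk b = (set21 a ∩ set21 b).insertNone.map Function.Embedding.some := by
      ext o
      rcases o with _ | _ | i <;> simp [sideBlk]
    rw [e2, card_map, card_insertNone, ← common_card] at h13
    omega

theorem side_mem {M : Set (Finset PT)} (hM : IsSteinerSystem 4 7 M) (hq : ∀ s ∈ list22, s.insertNone ∈ M)
    (hq' : ∀ s : Finset PT, s ∈ M → none ∈ s → s.eraseNone ∈ list22)
    (hside : ∀ h ∈ oddTwo, sideBlk h ∉ M) {h : ℕ} (hh : h ∈ oddOne) : sideBlk h ∈ M := by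
  obtain ⟨hc, hsub, hno⟩ := triple_ok h hh
  obtain ⟨b, ⟨hb, hsb⟩, -⟩ := hM.2 ((triple h).insertNone.map Function.Embedding.some) (by rw [card_map, card_insertNone, hc])
  have hn : none ∉ b := fun hn => hno _ (hq' b hb hn) fun o ho => mem_eraseNone.mpr (hsb (mem_map_of_mem _ ho))
  have hP : some none ∈ b := hsb (mem_map_of_mem _ none_mem_insertNone)
  obtain ⟨g, hg, rfl⟩ := side_oval hM hq hb hn hP
  rcases hg with hg | hg
  · have h2 := List.all_eq_true.mp (List.all_eq_true.mp one_one g hg) h hh
    simp only [Bool.or_eq_true, beq_iff_eq, decide_eq_true_eq] at h2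
    rcases h2 with rfl | h2
    · exact hb
    · exfalso
      have : triple h ⊆ set21 g ∩ set21 h := fun x hx => mem_inter.mpr ⟨by
        have := hsb (mem_map_of_mem _ (some_mem_insertNone.mpr hx))
        simpa [sideBlk] using this, hsub hx⟩
      have := card_le_card this
      rw [hc, ← common_card] at this
      omega
  · exact absurd hb (hside g hg)

theorem sub_mem {M : Set (Finset PT)} (hM : IsSteinerSystem 4 7 M) (hq : ∀ s ∈ list22, s.insertNone ∈ M)
    (hq' : ∀ s : Finset PT, s ∈ M → none ∈ s → s.eraseNone ∈ list22)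
    (hside : ∀ h ∈ oddTwo, sideBlk h ∉ M) {d : ℕ × Fin 21 × Fin 21 × Fin 21 × Fin 21} (hd : d ∈ subPlanes) :
    subBlk d.1 ∈ M := by
  obtain ⟨m, a, b, c, e⟩ := d
  have hk := List.all_eq_true.mp sub_ok _ hd
  simp only [Bool.and_eq_true, decide_eq_true_eq, List.all_eq_true, Bool.or_eq_true, beq_iff_eq, Bool.not_eq_true',
    List.mem_finRange, forall_true_left, List.contains_eq_mem] at hk
  obtain ⟨⟨⟨⟨⟨⟨⟨⟨⟨hab, hbc⟩, hce⟩, -⟩, ⟨hc7, ha, hb', hc', he⟩⟩, hsix⟩, hdeg⟩, hone⟩, heven⟩, hpl⟩ := hk
  let S : Finset (Fin 21) := {a, b, c, e}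
  have hS : S.card = 4 := card_eq_four.mpr ⟨a, b, c, e, by omega, by omega, by omega, by omega, by omega, by omega, rfl⟩
  obtain ⟨blk, ⟨hblk, hsb⟩, -⟩ := hM.2 ((S.map Function.Embedding.some).map Function.Embedding.some) (by rw [card_map, card_map, hS])
  have hmem : ∀ x ∈ S, some (some x) ∈ blk := fun x hx => hsb (mem_map_of_mem _ (mem_map_of_mem _ hx))
  have hno : ∀ h : ℕ, (S ⊆ set21 h) → (h.testBit a.val && h.testBit b.val && h.testBit c.val && h.testBit e.val) = true := by
    intro h hh
    simp only [S, insert_subset_iff, singleton_subset_iff, set21, mem_filter, mem_univ, true_and] at hh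
    simp [hh]
  have hn : none ∉ blk := by
    intro hn
    have h := hq' blk hblk hn
    simp only [list22, List.mem_append, List.mem_map] at h
    rcases h with ⟨l, hl, hle⟩ | ⟨g, hg, hge⟩
    · have := hpl l hl
      rw [hno l fun x hx => by
        have := mem_eraseNone.mpr (hmem x hx); rw [← hle] at this; simpa using this] at this
      exact Bool.noConfusion this
    · have := heven g hg
      rw [hno g fun x hx => by
        have := mem_eraseNone.mpr (hmem x hx); rw [← hge] at this; simpa using this] at this
      exact Bool.noConfusion this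
  have hP : some none ∉ blk := by
    intro hP
    obtain ⟨g, hg, rfl⟩ := side_oval hM hq hblk hn hP
    rcases hg with hg | hg
    · have := hone g hg
      rw [hno g fun x hx => by simpa [sideBlk] using hmem x hx] at this
      exact Bool.noConfusion this
    · exact hside g hg hblk
  set X := blk.eraseNone.eraseNone with hX
  have hbX : blk = (X.map Function.Embedding.some).map Function.Embedding.some := by
    ext o
    rcases o with _ | _ | i <;> simp [hX, hn, hP]
  have hX7 : X.card = 7 := by
    have := hM.1 blk hblk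
    rwa [hbX, card_map, card_map] at this
  have hSX : S ⊆ X := fun x hx => by simpa [hX] using hmem x hx
  -- every joining line carries one more point of the block
  have hline : ∀ i, 1 ≤ ((X \ S).filter fun x => (sixOf a b c e i).testBit x.val).card := by
    intro i
    obtain ⟨hl, h2⟩ := hsix i
    have hl' : set21 (sixOf a b c e i) ∈ stdLines := by
      show mk21 _ ∈ planeStd
      rw [mk21_set (std_line _ hl)]; exact hl
    have h13 := inter_23 (by simp [PT]) hM (hq _ (line22 hl')) hblk (fun h => hn (h ▸ none_mem_insertNone))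
    have e1 : (set21 (sixOf a b c e i)).insertNone.insertNone ∩ blk =
        ((X.filter fun x => (sixOf a b c e i).testBit x.val).map Function.Embedding.some).map Function.Embedding.some := by
      ext o
      rcases o with _ | _ | j <;> simp [hX, hn, hP, set21, and_comm]
    rw [e1, card_map, card_map] at h13
    have h2' : (S.filter fun x => (sixOf a b c e i).testBit x.val).card = 2 := by
      have hnd : ([a, b, c, e] : List (Fin 21)).Nodup := by
        have : a ≠ b ∧ a ≠ c ∧ a ≠ e ∧ b ≠ c ∧ b ≠ e ∧ c ≠ e := ⟨by omega, by omega, by omega, by omega, by omega, by omega⟩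
        simp [this]
      rw [← h2, List.countP_eq_length_filter, ← List.toFinset_card_of_nodup (hnd.filter _)]
      refine congrArg Finset.card ?_
      ext x
      simp [S]
    have hsum : ((X \ S).filter fun x => (sixOf a b c e i).testBit x.val).card +
        (S.filter fun x => (sixOf a b c e i).testBit x.val).card = (X.filter fun x => (sixOf a b c e i).testBit x.val).card := by
      rw [← card_union_of_disjoint (disjoint_filter_filter (disjoint_sdiff_self_left)), ← filter_union, sdiff_union_of_subset hSX]
    omega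
  have hT : (X \ S).card = 3 := by rw [card_sdiff_of_subset hSX, hX7, hS]
  have h6 : 6 ≤ ∑ x ∈ X \ S, ((univ : Finset (Fin 6)).filter fun i => (sixOf a b c e i).testBit x.val).card := by
    have h := sum_le_sum (s := (univ : Finset (Fin 6))) (fun i _ => hline i)
    simp only [sum_const, card_univ, Fintype.card_fin, smul_eq_mul, mul_one, card_filter] at h
    rw [sum_comm] at h
    simpa only [card_filter] using h
  have hTd : X \ S ⊆ set21 m := by
    intro x hx
    by_contra hxm
    have hle : ∀ y ∈ X \ S, ((univ : Finset (Fin 6)).filter fun i => (sixOf a b c e i).testBit y.val).card ≤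
        if y = x then 1 else 2 := by
      intro y hy
      have hy' : y ∉ ([a, b, c, e] : List (Fin 21)) := by
        have := (mem_sdiff.mp hy).2
        simpa [S] using this
      have h := (hdeg y).resolve_left hy'
      have e2 : ((univ : Finset (Fin 6)).filter fun i => (sixOf a b c e i).testBit y.val).card =
          (List.finRange 6).countP fun i => (sixOf a b c e i).testBit y.val := by
        rw [List.countP_eq_length_filter, ← List.toFinset_card_of_nodup ((List.nodup_finRange 6).filter _)]
        refine congrArg Finset.card ?_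
        ext i; simp
      rw [e2]
      refine h.trans ?_
      by_cases hyx : y = x
      · subst hyx
        have : m.testBit y.val = false := by simpa [set21] using hxm
        simp [this]
      · simp only [if_neg hyx]; split_ifs <;> omega
    have h := h6.trans (sum_le_sum hle)
    rw [← add_sum_erase _ _ hx, if_pos rfl, sum_congr rfl (fun y hy => if_neg (mem_erase.mp hy).1),
      sum_const, card_erase_of_mem hx, hT] at h
    simp at h
  have hXm : X = set21 m := by
    refine eq_of_subset_of_card_le (fun x hx => ?_) (by rw [hc7, hX7])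
    by_cases hxS : x ∈ S
    · simp only [S, mem_insert, mem_singleton] at hxS
      rcases hxS with rfl | rfl | rfl | rfl
      · exact ha
      · exact hb'
      · exact hc'
      · exact he
    · exact hTd (mem_sdiff.mpr ⟨hx, hxS⟩)
  show subBlk m ∈ M
  rw [subBlk, ← hXm, ← hbX]
  exact hblk

theorem standard23 {α : Type*} [Fintype α] [DecidableEq α] (hα : Fintype.card α = 23) {B : Set (Finset α)}
    (hB : IsSteinerSystem 4 7 B) : ∃ E : PT ≃ α, {s : Finset PT | s.image E ∈ B} = ↑list23.toFinset := by
  classical
  obtain ⟨q⟩ : Nonempty α := Fintype.card_pos_iff.mp (by omega)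
  have hcard : Fintype.card {a : α // a ≠ q} = 22 := by
    rw [Fintype.card_subtype_compl, Fintype.card_subtype_eq, hα]
  obtain ⟨E₂, hE₂⟩ := standard22 hcard (derived (t := 3) (k := 6) hB q)
  let E₀ : PT ≃ α := ((Equiv.optionSubtype q).symm E₂).1
  have hEn : E₀ none = q := ((Equiv.optionSubtype q).symm E₂).2
  have hEs : ∀ x, E₀ (some x) = (E₂ x : α) := fun x => by simp [E₀]
  have hiff : ∀ s : Finset (Option (Fin 21)), s.insertNone.image E₀ ∈ B ↔ s ∈ list22 := by
    intro s
    rw [← model22_list, ← Finset.mem_coe, ← hE₂]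
    have hsub : s.image E₂ = (s.insertNone.image E₀).subtype fun a => a ≠ q := by
      ext y
      simp only [mem_image, mem_subtype]
      constructor
      · rintro ⟨x, hx, rfl⟩; exact ⟨some x, some_mem_insertNone.mpr hx, hEs x⟩
      · rintro ⟨o, ho, hy⟩
        cases o with
        | none => exact absurd (hy.symm.trans hEn) y.2
        | some x => exact ⟨x, some_mem_insertNone.mp ho, Subtype.ext ((hEs x).symm.trans hy)⟩
    constructor
    · intro h; exact ⟨_, h, mem_image.mpr ⟨none, none_mem_insertNone, hEn⟩, hsub⟩
    · rintro ⟨b, hb, hqb, hbs⟩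
      have : b = s.insertNone.image E₀ := by
        ext y
        by_cases hy : y = q
        · subst hy; simp only [hqb, true_iff]; exact mem_image.mpr ⟨none, none_mem_insertNone, hEn⟩
        · have h1 := Finset.ext_iff.mp (hbs.symm.trans hsub) ⟨y, hy⟩
          simpa using h1
      exact this ▸ hb
  -- normalise the second class
  have hnorm : ∃ E : PT ≃ α, (∀ s, s.insertNone.image E ∈ B ↔ s ∈ list22) ∧ ∀ h ∈ oddTwo, (sideBlk h).image E ∉ B := by
    by_cases hbad : ∃ h ∈ oddTwo, (sideBlk h).image E₀ ∈ B
    · obtain ⟨h, hh, hhB⟩ := hbad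
      let σ : PT ≃ PT := Equiv.optionCongr (Equiv.optionCongr swapCls)
      have hσσ : ∀ o, σ (σ o) = o := by
        rintro (_ | _ | i) <;> simp [σ, swap_inv]
      refine ⟨σ.trans E₀, fun s => ?_, fun g hg hgB => ?_⟩
      · have e : s.insertNone.image (σ.trans E₀) = (s.image (Option.map swapCls)).insertNone.image E₀ := by
          rw [show (s.image (Option.map swapCls)).insertNone = s.insertNone.image σ from by
            ext o; rcases o with _ | o <;> simp [σ], image_image]
          rfl
        rw [e, hiff]
        refine ⟨fun hm => ?_, swap_22 s⟩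
        have := swap_22 _ hm
        rwa [image_image, show (Option.map swapCls ∘ Option.map swapCls) = id from funext fun o => by
          cases o <;> simp [swap_inv], image_id] at this
      · have e : (sideBlk g).image σ = sideBlk (mk21 ((set21 g).image swapCls)) := by
          ext o
          rcases o with _ | _ | i <;> simp [sideBlk, σ, set21_mk]
        have e2 : (sideBlk g).image (σ.trans E₀) = (sideBlk (mk21 ((set21 g).image swapCls))).image E₀ := by
          rw [← e, image_image]; rfl
        rw [e2] at hgB
        have hg1 := swap_two g hg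
        refine side_parity (pull_system E₀ hB) hgB hhB ?_ hg1 hh
        simpa using List.all_eq_true.mp (List.all_eq_true.mp one_two _ hg1) h hh
    · push Not at hbad
      exact ⟨E₀, hiff, hbad⟩
  obtain ⟨E, hE, hside⟩ := hnorm
  refine ⟨E, ?_⟩
  have hM := pull_system E hB
  set M := {s : Finset PT | s.image E ∈ B} with hMdef
  have hq : ∀ s ∈ list22, s.insertNone ∈ M := fun s hs => (hE s).mpr hs
  have hq' : ∀ s : Finset PT, s ∈ M → none ∈ s → s.eraseNone ∈ list22 := fun s hs hn => by
    rw [← hE, insertNone_eraseNone, insert_eq_of_mem hn]; exact hs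
  symm
  refine Set.eq_of_subset_of_ncard_le (fun s hs => ?_) ?_ (Set.toFinite _)
  · simp only [list23, List.coe_toFinset, List.mem_append, List.mem_map, Set.mem_ofPred_eq] at hs
    rcases hs with (⟨t, ht, rfl⟩ | ⟨h, hh, rfl⟩) | ⟨d, hd, rfl⟩
    · exact hq t ht
    · exact side_mem hM hq hq' hside hh
    · exact sub_mem hM hq hq' hside hd
  · rw [Set.ncard_coe_finset, list23_card]
    have := card_blocks hM
    rw [show Fintype.card PT = 23 by simp [PT], show Nat.choose 7 4 = 35 by decide, show Nat.choose 23 4 = 8855 by decide +kernel] at this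
    omega

theorem iso {α β : Type*} [Fintype α] [DecidableEq α] [Fintype β] [DecidableEq β] (hα : Fintype.card α = 23)
    (hβ : Fintype.card β = 23) {B : Set (Finset α)} {B' : Set (Finset β)} (hB : IsSteinerSystem 4 7 B)
    (hB' : IsSteinerSystem 4 7 B') : SetSystemIso B B' := by
  obtain ⟨E, hE⟩ := standard23 hα hB
  obtain ⟨E', hE'⟩ := standard23 hβ hB'
  refine ⟨E.symm.trans E', Set.ext fun c => ?_⟩
  have key : ∀ s : Finset PT, s.image E ∈ B ↔ s.image E' ∈ B' := fun s => Set.ext_iff.mp (hE.trans hE'.symm) s
  constructor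
  · rintro ⟨b, hb, rfl⟩
    have h := (key (b.image E.symm)).mp (by rw [image_image]; simpa using hb)
    rwa [image_image] at h
  · intro hc
    have h := (key (c.image E'.symm)).mpr (by rw [image_image]; simpa using hc)
    refine ⟨_, h, ?_⟩
    show ((c.image E'.symm).image E).image (E.symm.trans E') = c
    rw [image_image, image_image]
    simp [Function.comp_def]

end Cfsg.Agent.Steiner.TwentyThree
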