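import Cfsg.Agent.Lib.Steiner.PlaneColl

/-! Uniqueness of the system on twenty-two points. -/

set_option autoImplicit false
set_option maxRecDepth 100000

namespace Cfsg.Agent.Steiner.TwentyTwo

open Cfsg Finset
open Cfsg.Agent.Steiner.PlaneFour

/-- hyperovals meeting the first one evenly -/
def evenList : List ℕ := hypList.filter fun h =>
  ([3, 4, 5, 6, 9, 10] : List ℕ).countP (fun i => h.testBit i) % 2 == 0

theorem evenList_length : evenList.length = 56 := by decide +kernel

/-- the model blocks -/
def model22 : Finset (Finset (Option (Fin 21))) :=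
  ((planeStd.map fun m => (set21 m).insertNone) ++ (evenList.map fun m => (set21 m).map Function.Embedding.some)).toFinset

theorem model22_card : model22.card ≤ 77 := by
  refine (List.toFinset_card_le _).trans ?_
  rw [List.length_append, List.length_map, List.length_map, evenList_length]
  exact le_of_eq rfl

theorem standard22 {α : Type*} [Fintype α] [DecidableEq α] (hα : Fintype.card α = 22) {B : Set (Finset α)}
    (hB : IsSteinerSystem 3 6 B) : ∃ E : Option (Fin 21) ≃ α, {s : Finset (Option (Fin 21)) | s.image E ∈ B} = ↑model22 := by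
  classical
  obtain ⟨p⟩ : Nonempty α := Fintype.card_pos_iff.mp (by omega)
  have hcard : Fintype.card {a : α // a ≠ p} = 21 := by
    rw [Fintype.card_subtype_compl, Fintype.card_subtype_eq, hα]
  have hD := derived (t := 2) (k := 5) hB p
  set L := {b' : Finset {a : α // a ≠ p} | ∃ b ∈ B, p ∈ b ∧ b' = Finset.subtype (fun a => a ≠ p) b} with hLdef
  obtain ⟨e₀, he₀⟩ := standard hcard hD
  have hstd : pullP e₀ L = stdLines := he₀
  -- some block avoids `p`
  have h77 : B.ncard = 77 := by
    have := card_blocks hB
    rw [hα, show Nat.choose 6 3 = 20 by decide, show Nat.choose 22 3 = 1540 by decide +kernel] at this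
    omega
  obtain ⟨b₀, hb₀, hpb₀⟩ : ∃ b ∈ B, p ∉ b := by
    by_contra hcon
    push Not at hcon
    have h := card_sup hB {p} (by simp)
    rw [card_singleton, hα, show Nat.choose (6 - 1) (3 - 1) = 10 by decide,
      show Nat.choose (22 - 1) (3 - 1) = 210 by decide +kernel,
      filter_true_of_mem (fun c hc => singleton_subset_iff.mpr (hcon c (mem_blocks.mp hc))), ← ncard_eq_card, h77] at h
    omega
  have ovalB : ∀ (e : Fin 21 ≃ {a : α // a ≠ p}), pullP e L = stdLines → ∀ b ∈ B, p ∉ b →
      Indep stdLines 6 ((b.subtype fun a => a ≠ p).image e.symm) := by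
    intro e he b hb hpb
    refine ⟨by rw [card_image_of_injective _ e.symm.injective, card_subtype, filter_ne',
      erase_eq_of_notMem hpb, hB.1 b hb], fun l hl => ?_⟩
    rw [← he] at hl
    obtain ⟨d, hd, hpd, hld⟩ := hl
    rw [← card_image_of_injective _ e.injective, image_inter _ _ e.injective, hld, image_image,
      show (⇑e ∘ ⇑e.symm) = id from funext fun x => e.apply_symm_apply x, image_id]
    have h2 := inter_lt hB hd hb (fun h => hpb (h ▸ hpd))
    refine le_trans ?_ (Nat.lt_succ_iff.mp h2)
    rw [← card_map (Function.Embedding.subtype fun a => a ≠ p)]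
    refine card_le_card fun x hx => ?_
    obtain ⟨y, hy, rfl⟩ := mem_map.mp hx
    simp only [mem_inter, mem_subtype] at hy
    exact mem_inter.mpr hy
  obtain ⟨c, hc, hcH⟩ := oval_std (ovalB e₀ hstd b₀ hb₀ hpb₀)
  let e : Fin 21 ≃ {a : α // a ≠ p} := c.symm.trans e₀
  have he : pullP e L = stdLines := by
    ext b
    have h1 : b.image e = (b.image ⇑c⁻¹).image e₀ := by rw [image_image]; rfl
    show b.image e ∈ L ↔ _
    rw [h1]
    show b.image ⇑c⁻¹ ∈ pullP e₀ L ↔ _
    rw [hstd]
    refine ⟨fun h => ?_, mem_aut.mp (inv_mem hc) b⟩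
    have := mem_aut.mp hc _ h
    rwa [image_image, show (⇑c ∘ ⇑c⁻¹) = id from funext fun x => c.apply_symm_apply x, image_id] at this
  have hb₀' : (b₀.subtype fun a => a ≠ p).image e.symm = ovalZero := by
    rw [← hcH, image_image]; rfl
  let E : Option (Fin 21) ≃ α := ((Equiv.optionSubtype p).symm e).1
  have hEn : E none = p := ((Equiv.optionSubtype p).symm e).2
  have hEs : ∀ x, E (some x) = (e x : α) := fun x => by simp [E]
  refine ⟨E, Set.eq_of_subset_of_ncard_le (fun s hs => ?_) ?_ (Set.toFinite _)⟩
  · simp only [model22, List.coe_toFinset, List.mem_append, List.mem_map, Set.mem_ofPred_eq]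
    by_cases hn : none ∈ s
    · left
      have hse : s = s.eraseNone.insertNone := by ext o; cases o <;> simp [hn]
      have hmem : s.eraseNone ∈ stdLines := by
        rw [← he]
        refine ⟨s.image E, hs, mem_image.mpr ⟨none, hn, hEn⟩, ?_⟩
        ext y
        simp only [mem_image, mem_eraseNone, mem_subtype]
        constructor
        · rintro ⟨x, hx, rfl⟩; exact ⟨some x, hx, hEs x⟩
        · rintro ⟨o, ho, hy⟩
          cases o with
          | none => exact absurd (hy.symm.trans hEn) y.2
          | some x => exact ⟨x, ho, Subtype.ext ((hEs x).symm.trans hy)⟩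
      exact ⟨mk21 s.eraseNone, hmem, by rw [set21_mk]; exact hse.symm⟩
    · right
      have hse : s = s.eraseNone.map Function.Embedding.some := by ext o; cases o <;> simp [hn]
      have hp : p ∉ s.image E := by
        intro h
        obtain ⟨o, ho, hop⟩ := mem_image.mp h
        exact hn (E.injective (hop.trans hEn.symm) ▸ ho)
      have hpre : ((s.image E).subtype fun a => a ≠ p).image e.symm = s.eraseNone := by
        ext x
        simp only [mem_image, mem_subtype, mem_eraseNone]
        constructor
        · rintro ⟨y, ⟨o, ho, hy⟩, rfl⟩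
          cases o with
          | none => exact absurd (hy.symm.trans hEn) y.2
          | some z => rw [show e.symm y = z by rw [Equiv.symm_apply_eq]; exact Subtype.ext (hy.symm.trans (hEs z))]; exact ho
        · intro hx; exact ⟨e x, ⟨some x, hx, hEs x⟩, e.symm_apply_apply x⟩
      have hind : Indep stdLines 6 s.eraseNone := hpre ▸ ovalB e he _ hs hp
      obtain ⟨S, hSH, hS⟩ := exists_subset_card_eq (s := s.eraseNone) (n := 4) (by rw [hind.1]; norm_num)
      obtain ⟨h, hh, -, hmax⟩ := four_oval ⟨hS, fun l hl => (card_le_card (inter_subset_inter_left hSH)).trans (hind.2 l hl)⟩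
      have hsh : s.eraseNone = set21 h := eq_of_subset_of_card_le (hmax _ hind.2 hSH) (by rw [(hyp_indep hh).1, hind.1])
      have heven : Even (ovalZero ∩ s.eraseNone).card := by
        rw [← hb₀', ← hpre, ← image_inter _ _ e.symm.injective, card_image_of_injective _ e.symm.injective,
          ← card_map (Function.Embedding.subtype fun a => a ≠ p), map_inter,
          subtype_map_of_mem (show ∀ x ∈ b₀, x ≠ p from fun x hx h => hpb₀ (h ▸ hx)),
          subtype_map_of_mem (show ∀ x ∈ s.image E, x ≠ p from fun x hx h => hp (h ▸ hx))]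
        by_cases hbs : b₀ = s.image E
        · rw [← hbs, inter_self, hB.1 _ hb₀]; decide
        · rcases inter_22 hα hB hb₀ hs hbs with h | h <;> rw [h] <;> decide
      refine ⟨h, ?_, by rw [← hsh]; exact hse.symm⟩
      simp only [evenList, List.mem_filter, beq_iff_eq]
      refine ⟨hh, ?_⟩
      rw [hsh] at heven
      rw [Nat.even_iff] at heven
      have key : ∀ m : ℕ, ([3, 4, 5, 6, 9, 10] : List ℕ).countP (fun i => m.testBit i) = (ovalZero ∩ set21 m).card := by
        intro m
        rw [show ([3, 4, 5, 6, 9, 10] : List ℕ) = ([3, 4, 5, 6, 9, 10] : List (Fin 21)).map Fin.val from rfl,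
          List.countP_map, List.countP_eq_length_filter,
          ← List.toFinset_card_of_nodup ((show ([3, 4, 5, 6, 9, 10] : List (Fin 21)).Nodup by decide).filter _)]
        refine congrArg Finset.card ?_
        ext i
        simp [set21, zero_list]
      rw [key]; exact heven
  · rw [Set.ncard_coe_finset]
    refine model22_card.trans (le_of_eq ?_)
    rw [← h77, ← Set.ncard_image_of_injective _ (image_injective E.injective)]
    congr 1
    ext b
    exact ⟨fun hb => ⟨b.image E.symm, show _ ∈ B by rw [image_image]; simpa using hb, by rw [image_image]; simp⟩,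
      fun ⟨s, hs, h⟩ => h ▸ hs⟩

theorem iso {α β : Type*} [Fintype α] [DecidableEq α] [Fintype β] [DecidableEq β] (hα : Fintype.card α = 22)
    (hβ : Fintype.card β = 22) {B : Set (Finset α)} {B' : Set (Finset β)} (hB : IsSteinerSystem 3 6 B)
    (hB' : IsSteinerSystem 3 6 B') : SetSystemIso B B' := by
  obtain ⟨E, hE⟩ := standard22 hα hB
  obtain ⟨E', hE'⟩ := standard22 hβ hB'
  refine ⟨E.symm.trans E', Set.ext fun c => ?_⟩
  have key : ∀ s : Finset (Option (Fin 21)), s.image E ∈ B ↔ s.image E' ∈ B' := fun s => Set.ext_iff.mp (hE.trans hE'.symm) s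
  constructor
  · rintro ⟨b, hb, rfl⟩
    have h := (key (b.image E.symm)).mp (by rw [image_image]; simpa using hb)
    rwa [image_image] at h
  · intro hc
    have h := (key (c.image E'.symm)).mpr (by rw [image_image]; simpa using hc)
    refine ⟨_, h, ?_⟩
    show ((c.image E'.symm).image E).image (E.symm.trans E') = c
    rw [image_image, image_image]
    simp [Function.comp_def]

end Cfsg.Agent.Steiner.TwentyTwo
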